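import Cfsg.Agent.H341.ThreeList_m3
import Cfsg.Agent.OrdDiv.Table
import Cfsg.Agent.OrdCrit.Main
import Cfsg.Agent.H131.CharTwo
import Cfsg.Agent.H816.TwoOrd
import Cfsg.Agent.S0252
import Cfsg.Agent.S0253
import Cfsg.Agent.S0254
import Cfsg.Agent.S0256
import Cfsg.Agent.H937.L34Seven
import Cfsg.Agent.H66.Cod.Base
import Cfsg.Agent.PreUniq.Cases
import Cfsg.Agent.H167.HasStLie
import Cfsg.Agent.S0243
import Cfsg.Agent.H704.S8.Defs_m3
import Cfsg.Agent.Lib.ListFast
import Cfsg.Agent.Prune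
set_option linter.all false
prune_inst 0x7f00000000000000000000000000000000000000000000000000000000000000000000000000000000000000000000000000000000000000000000000000000000000000000000000000000000000000003fffffffffffffffffffffffffffbeffbdffffffff
open scoped Cfsg.Agent.FastGrp

-- part: H131/LieList
section
/-!
# Groups of Lie type of large order dividing `n! / 2` (helper131, task 597 for S4941)
-/

set_option autoImplicit false
open Cfsg Cfsg.Agent.OrdDiv

universe u

namespace Cfsg.Agent.H131.LieList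

/-- the condition -/
def ok (n p : ℕ) (g : Grp) : Bool :=
  Nat.beq (n.factorial % (2 * ordN g)) 0 &&
    Nat.blt (n.factorial * (Nat.gcd (ordN g) (p ^ 40)) ^ 2) (2 * (ordN g) ^ 2)

/-- the survivors -/
def tab : List (ℕ × ℕ × Grp) :=
  [(5, 2, .psl 2 4), (5, 5, .psl 2 5), (6, 3, .psl 2 9), (7, 2, .psl 2 8), (8, 2, .psl 4 2), (8, 2, .psl 3 4)]

/-- the computation -/
def chk (n : ℕ) : Bool :=
  (List.range (n + 1)).all fun p => !(isPrimeB p) ||
    ((Cfsg.Agent.H816.TwoOrd.lieList p ((n - 1) / (p - 1))).filter (ok n p)).all fun g => decide ((n, p, g) ∈ tab)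

/-- the computation on an interval (split for the memory of the kernel check) -/
def chkI (a k : ℕ) : Bool := (List.range k).all fun i => chk (a + i)

theorem chkI_a : chkI 5 15 = true := by decide +kernel
theorem chkI_b : chkI 20 6 = true := by decide +kernel
private noncomputable def _root_.Cfsg.Agent.LsF.f659a55_0 : {f // @Cfsg.Agent.OrdDiv.isPrimeB = f} := ⟨_, by first | (delta Cfsg.Agent.OrdDiv.isPrimeB; rewrite [Cfsg.Agent.LsF.nmod_pat, Cfsg.Agent.LsF.nbne_pat, Cfsg.Agent.LsF.and_eq, Cfsg.Agent.LsF.or_eq, Cfsg.Agent.LsF.all_eq, Cfsg.Agent.LsF.range_eq]; exact rfl) | exact rfl⟩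
private noncomputable def _root_.Cfsg.Agent.LsF.f659a55_1 : {f // @Nat.factorial = f} := ⟨_, by first | (delta Nat.factorial Nat.brecOn.go Nat.brecOn Nat.factorial._f; rewrite [Cfsg.Agent.LsF.nmul_pat]; (try delta Nat.factorial.match_1); (try delta Nat.casesOn); first | dsimp -zeta only | exact rfl) | exact rfl⟩
private noncomputable def _root_.Cfsg.Agent.LsF.f659a55_2 : {f // @Cfsg.Agent.OrdDiv.glN = f} := ⟨_, by first | (delta Cfsg.Agent.OrdDiv.glN; rewrite [Cfsg.Agent.LsF.nsub_pat, Cfsg.Agent.LsF.npow_pat, Cfsg.Agent.LsF.map_eq, Cfsg.Agent.LsF.range_eq, Cfsg.Agent.LsF.prod_eq]; exact rfl) | exact rfl⟩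
private noncomputable def _root_.Cfsg.Agent.LsF.f659a55_3 : {f // @Cfsg.Agent.OrdDiv.fPSL = f} := ⟨_, by first | (delta Cfsg.Agent.OrdDiv.fPSL; rewrite [Cfsg.Agent.LsF.f659a55_2.2, Cfsg.Agent.LsF.nmul_pat, Cfsg.Agent.LsF.nsub_pat, Cfsg.Agent.LsF.ndiv_pat, Cfsg.Agent.LsF.and_eq, Cfsg.Agent.LsF.not_eq]; exact rfl) | exact rfl⟩
private noncomputable def _root_.Cfsg.Agent.LsF.f659a55_4 : {f // @Cfsg.Agent.OrdDiv.prB = f} := ⟨_, by first | (delta Cfsg.Agent.OrdDiv.prB; rewrite [Cfsg.Agent.LsF.nadd_pat, Cfsg.Agent.LsF.nmul_pat, Cfsg.Agent.LsF.nsub_pat, Cfsg.Agent.LsF.npow_pat, Cfsg.Agent.LsF.map_eq, Cfsg.Agent.LsF.range_eq, Cfsg.Agent.LsF.prod_eq]; exact rfl) | exact rfl⟩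
private noncomputable def _root_.Cfsg.Agent.LsF.f659a55_5 : {f // @Cfsg.Agent.OrdDiv.fPSp = f} := ⟨_, by first | (delta Cfsg.Agent.OrdDiv.fPSp; rewrite [Cfsg.Agent.LsF.f659a55_4.2, Cfsg.Agent.LsF.nmul_pat, Cfsg.Agent.LsF.nsub_pat, Cfsg.Agent.LsF.npow_pat, Cfsg.Agent.LsF.and_eq, Cfsg.Agent.LsF.not_eq]; exact rfl) | exact rfl⟩
private noncomputable def _root_.Cfsg.Agent.LsF.f659a55_6 : {f // @Cfsg.Agent.OrdDiv.prU = f} := ⟨_, by first | (delta Cfsg.Agent.OrdDiv.prU; rewrite [Cfsg.Agent.LsF.nadd_pat, Cfsg.Agent.LsF.nsub_pat, Cfsg.Agent.LsF.nmod_pat, Cfsg.Agent.LsF.npow_pat, Cfsg.Agent.LsF.map_eq, Cfsg.Agent.LsF.range_eq, Cfsg.Agent.LsF.prod_eq, Cfsg.Agent.LsF.dBoolEq_eq, Cfsg.Agent.LsF.ite_eq]; exact rfl) | exact rfl⟩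
private noncomputable def _root_.Cfsg.Agent.LsF.f659a55_7 : {f // @Cfsg.Agent.OrdDiv.fPSU = f} := ⟨_, by first | (delta Cfsg.Agent.OrdDiv.fPSU; rewrite [Cfsg.Agent.LsF.f659a55_6.2, Cfsg.Agent.LsF.nadd_pat, Cfsg.Agent.LsF.nmul_pat, Cfsg.Agent.LsF.nsub_pat, Cfsg.Agent.LsF.ndiv_pat, Cfsg.Agent.LsF.npow_pat, Cfsg.Agent.LsF.and_eq, Cfsg.Agent.LsF.not_eq]; exact rfl) | exact rfl⟩
private noncomputable def _root_.Cfsg.Agent.LsF.f659a55_8 : {f // @Cfsg.Agent.OrdDiv.fOOdd = f} := ⟨_, by first | (delta Cfsg.Agent.OrdDiv.fOOdd; rewrite [Cfsg.Agent.LsF.f659a55_4.2, Cfsg.Agent.LsF.nmul_pat, Cfsg.Agent.LsF.nmod_pat, Cfsg.Agent.LsF.npow_pat]; exact rfl) | exact rfl⟩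
private noncomputable def _root_.Cfsg.Agent.LsF.f659a55_9 : {f // @Cfsg.Agent.OrdDiv.fOPlus = f} := ⟨_, by first | (delta Cfsg.Agent.OrdDiv.fOPlus; rewrite [Cfsg.Agent.LsF.f659a55_4.2, Cfsg.Agent.LsF.nmul_pat, Cfsg.Agent.LsF.nsub_pat, Cfsg.Agent.LsF.npow_pat]; exact rfl) | exact rfl⟩
private noncomputable def _root_.Cfsg.Agent.LsF.f659a55_10 : {f // @Cfsg.Agent.OrdDiv.fOMinus = f} := ⟨_, by first | (delta Cfsg.Agent.OrdDiv.fOMinus; rewrite [Cfsg.Agent.LsF.f659a55_4.2, Cfsg.Agent.LsF.nadd_pat, Cfsg.Agent.LsF.nmul_pat, Cfsg.Agent.LsF.nsub_pat, Cfsg.Agent.LsF.npow_pat]; exact rfl) | exact rfl⟩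
private noncomputable def _root_.Cfsg.Agent.LsF.f659a55_11 : {f // @Cfsg.Agent.OrdDiv.one = f} := ⟨_, by first | (delta Cfsg.Agent.OrdDiv.one; rewrite [Cfsg.Agent.LsF.nadd_pat, Cfsg.Agent.LsF.nmul_pat, Cfsg.Agent.LsF.npow_pat]; exact rfl) | exact rfl⟩
private noncomputable def _root_.Cfsg.Agent.LsF.f659a55_12 : {f // @Cfsg.Agent.OrdDiv.fG2 = f} := ⟨_, by first | (delta Cfsg.Agent.OrdDiv.fG2; rewrite [Cfsg.Agent.LsF.f659a55_11.2, Cfsg.Agent.LsF.nmul_pat, Cfsg.Agent.LsF.nsub_pat, Cfsg.Agent.LsF.npow_pat]; exact rfl) | exact rfl⟩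
private noncomputable def _root_.Cfsg.Agent.LsF.f659a55_13 : {f // @Cfsg.Agent.OrdDiv.fF4 = f} := ⟨_, by first | (delta Cfsg.Agent.OrdDiv.fF4; rewrite [Cfsg.Agent.LsF.f659a55_11.2, Cfsg.Agent.LsF.nmul_pat, Cfsg.Agent.LsF.nsub_pat, Cfsg.Agent.LsF.npow_pat]; exact rfl) | exact rfl⟩
private noncomputable def _root_.Cfsg.Agent.LsF.f659a55_14 : {f // @Cfsg.Agent.OrdDiv.fE6 = f} := ⟨_, by first | (delta Cfsg.Agent.OrdDiv.fE6; rewrite [Cfsg.Agent.LsF.f659a55_11.2, Cfsg.Agent.LsF.nmul_pat, Cfsg.Agent.LsF.nsub_pat, Cfsg.Agent.LsF.npow_pat]; exact rfl) | exact rfl⟩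
private noncomputable def _root_.Cfsg.Agent.LsF.f659a55_15 : {f // @Cfsg.Agent.OrdDiv.fE7 = f} := ⟨_, by first | (delta Cfsg.Agent.OrdDiv.fE7; rewrite [Cfsg.Agent.LsF.f659a55_11.2, Cfsg.Agent.LsF.nmul_pat, Cfsg.Agent.LsF.nsub_pat, Cfsg.Agent.LsF.npow_pat]; exact rfl) | exact rfl⟩
private noncomputable def _root_.Cfsg.Agent.LsF.f659a55_16 : {f // @Cfsg.Agent.OrdDiv.fE8 = f} := ⟨_, by first | (delta Cfsg.Agent.OrdDiv.fE8; rewrite [Cfsg.Agent.LsF.f659a55_11.2, Cfsg.Agent.LsF.nmul_pat, Cfsg.Agent.LsF.nsub_pat, Cfsg.Agent.LsF.npow_pat]; exact rfl) | exact rfl⟩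
private noncomputable def _root_.Cfsg.Agent.LsF.f659a55_17 : {f // @Cfsg.Agent.OrdDiv.fTE6 = f} := ⟨_, by first | (delta Cfsg.Agent.OrdDiv.fTE6; rewrite [Cfsg.Agent.LsF.f659a55_11.2, Cfsg.Agent.LsF.nadd_pat, Cfsg.Agent.LsF.nmul_pat, Cfsg.Agent.LsF.nsub_pat, Cfsg.Agent.LsF.npow_pat]; exact rfl) | exact rfl⟩
private noncomputable def _root_.Cfsg.Agent.LsF.f659a55_18 : {f // @Cfsg.Agent.OrdDiv.fTD4 = f} := ⟨_, by first | (delta Cfsg.Agent.OrdDiv.fTD4; rewrite [Cfsg.Agent.LsF.f659a55_11.2, Cfsg.Agent.LsF.nadd_pat, Cfsg.Agent.LsF.nmul_pat, Cfsg.Agent.LsF.nsub_pat, Cfsg.Agent.LsF.npow_pat]; exact rfl) | exact rfl⟩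
private noncomputable def _root_.Cfsg.Agent.LsF.f659a55_19 : {f // @Cfsg.Agent.OrdDiv.fSz = f} := ⟨_, by first | (delta Cfsg.Agent.OrdDiv.fSz; rewrite [Cfsg.Agent.LsF.f659a55_11.2, Cfsg.Agent.LsF.nadd_pat, Cfsg.Agent.LsF.nmul_pat, Cfsg.Agent.LsF.nsub_pat, Cfsg.Agent.LsF.nmod_pat, Cfsg.Agent.LsF.npow_pat, Cfsg.Agent.LsF.and_eq]; exact rfl) | exact rfl⟩
private noncomputable def _root_.Cfsg.Agent.LsF.f659a55_20 : {f // @Cfsg.Agent.OrdDiv.fRee = f} := ⟨_, by first | (delta Cfsg.Agent.OrdDiv.fRee; rewrite [Cfsg.Agent.LsF.f659a55_11.2, Cfsg.Agent.LsF.nadd_pat, Cfsg.Agent.LsF.nmul_pat, Cfsg.Agent.LsF.nsub_pat, Cfsg.Agent.LsF.nmod_pat, Cfsg.Agent.LsF.npow_pat, Cfsg.Agent.LsF.and_eq]; exact rfl) | exact rfl⟩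
private noncomputable def _root_.Cfsg.Agent.LsF.f659a55_21 : {f // @Cfsg.Agent.OrdDiv.fTF4 = f} := ⟨_, by first | (delta Cfsg.Agent.OrdDiv.fTF4; rewrite [Cfsg.Agent.LsF.f659a55_11.2, Cfsg.Agent.LsF.nadd_pat, Cfsg.Agent.LsF.nmul_pat, Cfsg.Agent.LsF.nsub_pat, Cfsg.Agent.LsF.nmod_pat, Cfsg.Agent.LsF.npow_pat, Cfsg.Agent.LsF.and_eq]; exact rfl) | exact rfl⟩
private noncomputable def _root_.Cfsg.Agent.LsF.f659a55_22 : {f // @Cfsg.Agent.OrdDiv.instDecidableEqGrp.decEq = f} := ⟨_, by first | (delta Cfsg.Agent.OrdDiv.instDecidableEqGrp.decEq; rewrite [Cfsg.Agent.LsF.instDecEq_eq, Cfsg.Agent.LsF.dite_eq]; (try delta Cfsg.Agent.OrdDiv.instDecidableEqGrp.decEq.match_1); (try delta Decidable.casesOn); exact rfl) | exact rfl⟩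
private noncomputable def _root_.Cfsg.Agent.LsF.f659a55_23 : {f // @Cfsg.Agent.OrdDiv.instDecidableEqGrp = f} := ⟨_, by first | (delta Cfsg.Agent.OrdDiv.instDecidableEqGrp; rewrite [Cfsg.Agent.LsF.f659a55_22.2]; exact rfl) | exact rfl⟩
private noncomputable def _root_.Cfsg.Agent.LsF.f659a55_24 : {f // @Cfsg.Agent.OrdDiv.ordN = f} := ⟨_, by first | (delta Cfsg.Agent.OrdDiv.ordN Option.map; rewrite [Cfsg.Agent.LsF.f659a55_1.2, Cfsg.Agent.LsF.f659a55_3.2, Cfsg.Agent.LsF.f659a55_5.2, Cfsg.Agent.LsF.f659a55_7.2, Cfsg.Agent.LsF.f659a55_8.2, Cfsg.Agent.LsF.f659a55_9.2, Cfsg.Agent.LsF.f659a55_10.2, Cfsg.Agent.LsF.f659a55_12.2, Cfsg.Agent.LsF.f659a55_13.2, Cfsg.Agent.LsF.f659a55_14.2, Cfsg.Agent.LsF.f659a55_15.2, Cfsg.Agent.LsF.f659a55_16.2, Cfsg.Agent.LsF.f659a55_17.2, Cfsg.Agent.LsF.f659a55_18.2, Cfsg.Agent.LsF.f659a55_19.2, Cfsg.Agent.LsF.f659a55_20.2, Cfsg.Agent.LsF.f659a55_21.2, Cfsg.Agent.LsF.f659a55_23.2, Cfsg.Agent.LsF.ndiv_pat, Cfsg.Agent.LsF.find?_eq, Cfsg.Agent.LsF.ogetD_eq,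 Cfsg.Agent.LsF.decide_eq]; (try delta Cfsg.Agent.OrdDiv.ordN.match_1); (try delta Cfsg.Agent.OrdDiv.ordN._sparseCasesOn_1); (try delta Option.getD.match_1); (try delta Option.casesOn); exact rfl) | exact rfl⟩
private noncomputable def _root_.Cfsg.Agent.LsF.f659a55_25 : {f // @Cfsg.Agent.H131.LieList.ok = f} := ⟨_, by first | (delta Cfsg.Agent.H131.LieList.ok; rewrite [Cfsg.Agent.LsF.f659a55_1.2, Cfsg.Agent.LsF.f659a55_24.2, Cfsg.Agent.LsF.nmul_pat, Cfsg.Agent.LsF.nmod_pat, Cfsg.Agent.LsF.npow_pat, Cfsg.Agent.LsF.and_eq]; exact rfl) | exact rfl⟩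
private noncomputable def _root_.Cfsg.Agent.LsF.f659a55_27 : {f // @Cfsg.Agent.H816.TwoOrd.candp = f} := ⟨_, by first | (delta Cfsg.Agent.H816.TwoOrd.candp; rewrite [Cfsg.Agent.LsF.filter_eq]; exact rfl) | exact rfl⟩
private noncomputable def _root_.Cfsg.Agent.LsF.f659a55_28 : {f // @Cfsg.Agent.H816.TwoOrd.lieList = f} := ⟨_, by first | (delta Cfsg.Agent.H816.TwoOrd.lieList; rewrite [Cfsg.Agent.LsF.f659a55_27.2, Cfsg.Agent.LsF.f659a55_3.2, Cfsg.Agent.LsF.f659a55_5.2, Cfsg.Agent.LsF.f659a55_7.2, Cfsg.Agent.LsF.f659a55_8.2, Cfsg.Agent.LsF.f659a55_9.2, Cfsg.Agent.LsF.f659a55_10.2, Cfsg.Agent.LsF.f659a55_12.2, Cfsg.Agent.LsF.f659a55_13.2, Cfsg.Agent.LsF.f659a55_14.2, Cfsg.Agent.LsF.f659a55_15.2, Cfsg.Agent.LsF.f659a55_16.2, Cfsg.Agent.LsF.f659a55_17.2, Cfsg.Agent.LsF.f659a55_18.2, Cfsg.Agent.LsF.f659a55_19.2, Cfsg.Agent.LsF.f659a55_20.2, Cfsg.Agent.LsF.f659a55_21.2, Cfsg.Agent.LsF.map_eq, Cfsg.Agent.LsF.flatten_eq]; exact rfl) | exact rfl⟩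
private noncomputable def _root_.Cfsg.Agent.LsF.f659a55_29 : {f // @Cfsg.Agent.H131.LieList.chk = f} := ⟨_, by first | (delta Cfsg.Agent.H131.LieList.chk; rewrite [Cfsg.Agent.LsF.f659a55_0.2, Cfsg.Agent.LsF.f659a55_25.2, Cfsg.Agent.LsF.f659a55_28.2, Cfsg.Agent.LsF.nadd_pat, Cfsg.Agent.LsF.nsub_pat, Cfsg.Agent.LsF.ndiv_pat, Cfsg.Agent.LsF.or_eq, Cfsg.Agent.LsF.not_eq, Cfsg.Agent.LsF.all_eq, Cfsg.Agent.LsF.filter_eq, Cfsg.Agent.LsF.range_eq, Cfsg.Agent.LsF.dMem_eq, Cfsg.Agent.LsF.decide_eq]; exact rfl) | exact rfl⟩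
private noncomputable def _root_.Cfsg.Agent.LsF.f659a55_30 : {f // @Cfsg.Agent.H131.LieList.chkI = f} := ⟨_, by first | (delta Cfsg.Agent.H131.LieList.chkI; rewrite [Cfsg.Agent.LsF.f659a55_29.2, Cfsg.Agent.LsF.nadd_pat, Cfsg.Agent.LsF.all_eq, Cfsg.Agent.LsF.range_eq]; exact rfl) | exact rfl⟩
theorem chkI_c : chkI 26 4 = true := by ((try (rewrite [Cfsg.Agent.LsF.f659a55_30.2])); decide +kernel)
theorem chkI_d : chkI 30 3 = true := by ((try (rewrite [Cfsg.Agent.LsF.f659a55_30.2])); decide +kernel)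
theorem chkI_e : chkI 33 2 = true := by ((try (rewrite [Cfsg.Agent.LsF.f659a55_30.2])); decide +kernel)
theorem chkI_f : chkI 35 2 = true := by ((try (rewrite [Cfsg.Agent.LsF.f659a55_30.2])); decide +kernel)
theorem chkI_g : chkI 37 2 = true := by ((try (rewrite [Cfsg.Agent.LsF.f659a55_30.2])); decide +kernel)

theorem chk_of_chkI {a k n : ℕ} (h : chkI a k = true) (h1 : a ≤ n) (h2 : n < a + k) : chk n = true := by
  have h3 := List.all_eq_true.1 h (n - a) (List.mem_range.2 (by omega))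
  rwa [Nat.add_sub_cancel' h1] at h3

theorem chk_all : ((List.range 39).all fun n => !(Nat.ble 5 n) || chk n) = true := by
  refine List.all_eq_true.2 fun n hn => ?_
  have h39 : n < 39 := List.mem_range.1 hn
  by_cases h5 : 5 ≤ n
  · have h : chk n = true := by
      rcases Nat.lt_or_ge n 20 with h | h
      · exact chk_of_chkI chkI_a h5 h
      rcases Nat.lt_or_ge n 26 with h' | h'
      · exact chk_of_chkI chkI_b h h'
      rcases Nat.lt_or_ge n 30 with h'' | h''
      · exact chk_of_chkI chkI_c h' h''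
      rcases Nat.lt_or_ge n 33 with h3 | h3
      · exact chk_of_chkI chkI_d h'' h3
      rcases Nat.lt_or_ge n 35 with h4 | h4
      · exact chk_of_chkI chkI_e h3 h4
      rcases Nat.lt_or_ge n 37 with h6 | h6
      · exact chk_of_chkI chkI_f h4 h6
      · exact chk_of_chkI chkI_g h6 h39
    rw [h, Bool.or_true]
  · have h : Nat.ble 5 n = false := by
      rw [← Bool.not_eq_true, Nat.ble_eq]
      exact h5
    rw [h]
    rfl

theorem gcd_eq {N p k : ℕ} (hp : p.Prime) (hN : N ≠ 0) (h : N.factorization p ≤ k) : Nat.gcd N (p ^ k) = ordProj[p] N := by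
  apply Nat.dvd_antisymm
  · obtain ⟨j, -, hj⟩ := (Nat.dvd_prime_pow hp).1 (Nat.gcd_dvd_right N (p ^ k))
    rw [hj]
    apply pow_dvd_pow
    have h1 : p ^ j ∣ N := by
      rw [← hj]
      exact Nat.gcd_dvd_left _ _
    exact (hp.pow_dvd_iff_le_factorization hN).1 h1
  · exact Nat.dvd_gcd (Nat.ordProj_dvd N p) (pow_dvd_pow p h)

theorem legendre {n p : ℕ} (hp : p.Prime) (hn : 1 ≤ n) : (p - 1) * n.factorial.factorization p ≤ n - 1 := by
  have : Fact p.Prime := ⟨hp⟩
  have h := sub_one_mul_padicValNat_factorial (p := p) n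
  rw [Nat.factorization_def _ hp, h]
  have h2 : 1 ≤ (p.digits n).sum := by
    by_contra hlt
    have h3 : (p.digits n).sum = 0 := by omega
    have h4 : ∀ x ∈ p.digits n, x = 0 := by
      intro x hx
      have := List.single_le_sum (fun _ _ => Nat.zero_le _) x hx
      omega
    have h5 : p.digits n ≠ [] := by
      rw [Ne, Nat.digits_eq_nil_iff_eq_zero]
      omega
    exact Nat.getLast_digit_ne_zero p (by omega : n ≠ 0) (h4 _ (List.getLast_mem h5))
  omega

theorem fact_large : ∀ m : ℕ, 2 * 16 ^ (m + 38) ≤ (m + 39).factorial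
  | 0 => by decide +kernel
  | m + 1 => by
    have h := fact_large m
    have h1 : (m + 1 + 39).factorial = (m + 40) * (m + 39).factorial := Nat.factorial_succ (m + 39)
    rw [h1, show m + 1 + 38 = (m + 38) + 1 from by ring, pow_succ]
    nlinarith

theorem le_two_pow (p : ℕ) (hp : 1 ≤ p) : p ≤ 2 ^ (p - 1) := by
  have := Nat.lt_two_pow_self (n := p - 1)
  omega

/-- the bound for `n` -/
theorem bound {n p N : ℕ} (hn : 5 ≤ n) (hp : p.Prime) (hN : N ≠ 0) (hd : 2 * N ∣ n.factorial)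
    (hk : n.factorial * (ordProj[p] N) ^ 2 < 2 * N ^ 2) (hc : N < (ordProj[p] N) ^ 3) : n ≤ 38 := by
  by_contra hlt
  push Not at hlt
  obtain ⟨m, rfl⟩ : ∃ m, n = m + 39 := ⟨n - 39, by omega⟩
  have h1 := fact_large m
  obtain ⟨P, hP⟩ : ∃ P, P = ordProj[p] N := ⟨_, rfl⟩
  rw [← hP] at hk hc
  have hPpos : 0 < P := by rw [hP]; exact Nat.ordProj_pos N p
  have h2 : (m + 39).factorial < 2 * P ^ 4 := by
    have h3 : N ^ 2 < P ^ 6 := by
      calc N ^ 2 < (P ^ 3) ^ 2 := Nat.pow_lt_pow_left hc (by norm_num)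
        _ = P ^ 6 := by ring
    have h4 : (m + 39).factorial * P ^ 2 < (2 * P ^ 4) * P ^ 2 := by
      calc (m + 39).factorial * P ^ 2 < 2 * N ^ 2 := hk
        _ < 2 * P ^ 6 := by omega
        _ = (2 * P ^ 4) * P ^ 2 := by ring
    exact lt_of_mul_lt_mul_right h4 (Nat.zero_le _)
  have hv : (p - 1) * N.factorization p ≤ m + 38 := by
    have h3 := legendre (n := m + 39) hp (by omega)
    have h4 : N.factorization p ≤ (m + 39).factorial.factorization p := by
      apply (Nat.factorization_le_iff_dvd hN (Nat.factorial_ne_zero _)).2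
      exact (Dvd.intro_left 2 rfl).trans hd
    have h5 := Nat.mul_le_mul_left (p - 1) h4
    omega
  have hP2 : P ≤ 2 ^ (m + 38) := by
    have hp1 : p - 1 ≠ 0 := by have := hp.two_le; omega
    apply (Nat.pow_le_pow_iff_left hp1).1
    rw [hP, ← pow_mul, mul_comm]
    calc p ^ ((p - 1) * N.factorization p) ≤ p ^ (m + 38) := Nat.pow_le_pow_right hp.pos hv
      _ ≤ (2 ^ (p - 1)) ^ (m + 38) := Nat.pow_le_pow_left (le_two_pow p hp.one_le) _
      _ = (2 ^ (m + 38)) ^ (p - 1) := by rw [← pow_mul, ← pow_mul, mul_comm]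
  have h5 : P ^ 4 ≤ 16 ^ (m + 38) := by
    calc P ^ 4 ≤ (2 ^ (m + 38)) ^ 4 := Nat.pow_le_pow_left hP2 4
      _ = 16 ^ (m + 38) := by rw [← pow_mul, mul_comm, pow_mul]; norm_num
  omega

/-- **task 597: `lie_list`** -/
theorem lie_list {n p : ℕ} (hn : 5 ≤ n) (hp : p.Prime) {T : Type u} [Group T] [Finite T] [IsSimpleGroup T]
    (h : IsLieTypeChar p T) (hd : 2 * Nat.card T ∣ n.factorial)
    (hk : n.factorial * (ordProj[p] (Nat.card T)) ^ 2 < 2 * (Nat.card T) ^ 2) :
    Nonempty (T ≃* alternatingGroup (Fin n)) ∨ (n = 7 ∧ p = 2 ∧ Nat.card T = 504) ∨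
      (n = 8 ∧ ∃ (F : Type) (_ : Field F) (_ : Fintype F), Fintype.card F = 4 ∧
        Nonempty (T ≃* Matrix.ProjectiveSpecialLinearGroup (Fin 3) F)) := by
  have hT0 : Nat.card T ≠ 0 := Nat.card_pos.ne'
  have hc : Nat.card T < (ordProj[p] (Nat.card T)) ^ 3 := by
    by_cases hp2 : p = 2
    · subst hp2
      exact Cfsg.Agent.H131.CharTwo.card_lt_cube_two h
    · exact Cfsg.Agent.OrdCrit.card_lt_cube hp hp2 h
  have hn38 := bound hn hp hT0 hd hk hc
  have hle := legendre (n := n) hp (by omega)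
  have hfac : (Nat.card T).factorization p ≤ n.factorial.factorization p := by
    apply (Nat.factorization_le_iff_dvd hT0 (Nat.factorial_ne_zero _)).2
    exact (Dvd.intro_left 2 rfl).trans hd
  have hp1 : 1 ≤ p - 1 := by have := hp.two_le; omega
  have hfk : (Nat.card T).factorization p ≤ (n - 1) / (p - 1) := by
    rw [Nat.le_div_iff_mul_le hp1, mul_comm]
    exact (Nat.mul_le_mul_left _ hfac).trans hle
  have hndvd : ¬ p ^ ((n - 1) / (p - 1) + 1) ∣ Nat.card T := by
    rw [hp.pow_dvd_iff_le_factorization hT0]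
    omega
  have hpn : p ≤ n := by
    by_contra hlt
    push Not at hlt
    have h1 : (Nat.card T).factorization p ≤ 0 := by
      refine hfk.trans ?_
      rw [Nat.div_eq_of_lt (by omega)]
    have h2 : (Nat.card T).factorization p = 0 := by omega
    rw [h2, pow_zero, one_pow] at hc
    have := Nat.card_pos (α := T)
    omega
  obtain ⟨g, hg, hr, hcard⟩ := Cfsg.Agent.H816.TwoOrd.lie_bounded table hp h hndvd
  have hf40 : (Nat.card T).factorization p ≤ 40 := by
    refine hfk.trans ((Nat.div_le_self _ _).trans ?_)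
    omega
  have hok : ok n p g = true := by
    unfold ok
    rw [Bool.and_eq_true, Nat.beq_eq, Nat.blt_eq, ← hcard, gcd_eq hp hT0 hf40]
    exact ⟨Nat.mod_eq_zero_of_dvd hd, hk⟩
  have hmem : (n, p, g) ∈ tab := by
    have h1 := chk_all
    rw [List.all_eq_true] at h1
    have h2 := h1 n (List.mem_range.2 (by omega))
    rw [Bool.or_eq_true] at h2
    have h3 : chk n = true := by
      rcases h2 with h2 | h2
      · exfalso
        rw [Nat.ble_eq_true_of_le hn] at h2
        exact absurd h2 (by decide)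
      · exact h2
    unfold chk at h3
    rw [List.all_eq_true] at h3
    have h4 := h3 p (List.mem_range.2 (by omega))
    rw [Bool.or_eq_true] at h4
    rcases h4 with h4 | h4
    · exfalso
      rw [Cfsg.Agent.H816.TwoOrd.isPrimeB_of hp] at h4
      exact absurd h4 (by decide)
    · rw [List.all_eq_true] at h4
      exact of_decide_eq_true (h4 g (List.mem_filter.2 ⟨hg, hok⟩))
  unfold tab at hmem
  simp only [List.mem_cons, Prod.mk.injEq, List.not_mem_nil, or_false] at hmem
  rcases hmem with ⟨rfl, rfl, rfl⟩ | ⟨rfl, rfl, rfl⟩ | ⟨rfl, rfl, rfl⟩ | ⟨rfl, rfl, rfl⟩ | ⟨rfl, rfl, rfl⟩ | ⟨rfl, rfl, rfl⟩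
  · obtain ⟨F, _, _, hF, ⟨e⟩⟩ := hr
    obtain ⟨e'⟩ := Cfsg.Agent.S0252.result hF
    exact Or.inl ⟨e.trans e'⟩
  · obtain ⟨F, _, _, hF, ⟨e⟩⟩ := hr
    obtain ⟨e'⟩ := Cfsg.Agent.S0253.result hF
    exact Or.inl ⟨e.trans e'⟩
  · obtain ⟨F, _, _, hF, ⟨e⟩⟩ := hr
    obtain ⟨e'⟩ := Cfsg.Agent.S0254.result hF
    exact Or.inl ⟨e.trans e'⟩
  · exact Or.inr (Or.inl ⟨rfl, rfl, hcard.trans (by decide +kernel)⟩)
  · obtain ⟨F, _, _, hF, ⟨e⟩⟩ := hr
    obtain ⟨e'⟩ := Cfsg.Agent.S0256.result hF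
    exact Or.inl ⟨e.trans e'⟩
  · obtain ⟨F, i1, i2, hF, ⟨e⟩⟩ := hr
    exact Or.inr (Or.inr ⟨rfl, F, i1, i2, hF, ⟨e⟩⟩)

end Cfsg.Agent.H131.LieList
end

-- part: H131/L34Elim
section
/-!
# `L₃(4)` and the degrees of `A_8` (helper131, task 595 for S4941)
-/

set_option autoImplicit false
open Cfsg
open scoped Matrix MatrixGroups

universe u

namespace Cfsg.Agent.H131.L34Elim

open Cfsg.Agent.Characters.Core Cfsg.Agent.H937.L34

section mat

variable {F : Type*} [Field F]

/-- commuting with a transvection up to a scalar -/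
theorem entries {g : Matrix (Fin 3) (Fin 3) F} {c : F} (h : g * um 1 0 = c • (um 1 0 * g)) (hd : g.det ≠ 0) :
    c = 1 ∧ g 2 0 = 0 ∧ g 2 1 = 0 ∧ g 1 0 = 0 ∧ g 0 0 = g 2 2 := by
  have e : ∀ i j : Fin 3, (g * um 1 0 : Matrix (Fin 3) (Fin 3) F) i j = c * (um 1 0 * g : Matrix (Fin 3) (Fin 3) F) i j :=
    fun i j => by rw [h]; rfl
  have e00 := e 0 0
  have e01 := e 0 1
  have e02 := e 0 2
  have e10 := e 1 0
  have e11 := e 1 1
  have e12 := e 1 2
  have e20 := e 2 0
  have e21 := e 2 1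
  have e22 := e 2 2
  simp only [um, Matrix.mul_apply, Fin.sum_univ_three, _root_.Fin.isValue, _root_.Matrix.of_apply, _root_.Matrix.cons_val', _root_.Matrix.cons_val_zero, _root_.Matrix.cons_val_fin_one, _root_.mul_one, _root_.Matrix.cons_val_one, _root_.MulZeroClass.mul_zero, _root_.add_zero, _root_.Matrix.cons_val, _root_.one_mul, _root_.MulZeroClass.zero_mul, _root_.zero_add] at e00 e01 e02 e10 e11 e12 e20 e21 e22
  have hc : c = 1 := by
    by_contra hc
    have hc' : 1 - c ≠ 0 := sub_ne_zero.2 (Ne.symm hc)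
    have h10 : g 1 0 = 0 := by
      have : (1 - c) * g 1 0 = 0 := by linear_combination e10
      exact (mul_eq_zero.1 this).resolve_left hc'
    have h11 : g 1 1 = 0 := by
      have : (1 - c) * g 1 1 = 0 := by linear_combination e11
      exact (mul_eq_zero.1 this).resolve_left hc'
    have h20 : g 2 0 = 0 := by
      have : (1 - c) * g 2 0 = 0 := by linear_combination e20
      exact (mul_eq_zero.1 this).resolve_left hc'
    have h21 : g 2 1 = 0 := by
      have : (1 - c) * g 2 1 = 0 := by linear_combination e21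
      exact (mul_eq_zero.1 this).resolve_left hc'
    apply hd
    rw [Matrix.det_fin_three, h10, h11, h20, h21]
    ring
  subst hc
  refine ⟨rfl, ?_, ?_, ?_, ?_⟩
  · linear_combination (-1 : F) * e00
  · linear_combination (-1 : F) * e01
  · linear_combination e12
  · linear_combination e02

/-- **the centralizer of an involution of `L₃(4)` has order at most 64.** -/
theorem card_centralizer_le [Fintype F] (hF : Fintype.card F = 4) {T : Type*} [Group T] [Finite T]
    (π : Matrix.SpecialLinearGroup (Fin 3) F →* T) (hπ : Function.Surjective π)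
    (hk : π.ker = Subgroup.center _) :
    Nat.card (Subgroup.centralizer ({π (us 1 0)} : Set T)) ≤ 64 := by
  classical
  obtain ⟨S, hS⟩ : ∃ S : Subgroup (Matrix.SpecialLinearGroup (Fin 3) F),
      S = Subgroup.centralizer ({us 1 0} : Set (Matrix.SpecialLinearGroup (Fin 3) F)) := ⟨_, rfl⟩
  have hent : ∀ g ∈ S, g.1 2 0 = 0 ∧ g.1 2 1 = 0 ∧ g.1 1 0 = 0 ∧ g.1 0 0 = g.1 2 2 := by
    intro g hg
    rw [hS, Subgroup.mem_centralizer_singleton_iff] at hg
    have h1 : g.1 * um 1 0 = (1 : F) • (um 1 0 * g.1) := by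
      rw [one_smul]
      exact congrArg Subtype.val hg
    exact (entries h1 (by rw [g.2]; exact one_ne_zero)).2
  have hdet : ∀ g ∈ S, g.1 0 0 * g.1 1 1 * g.1 0 0 = 1 := by
    intro g hg
    obtain ⟨h1, h2, h3, h4⟩ := hent g hg
    have h5 := g.2
    rw [Matrix.det_fin_three, h1, h2, h3, ← h4] at h5
    linear_combination h5
  -- the order of `S`
  have hS192 : Nat.card S ≤ 192 := by
    let φ : S → Fˣ × F × F × F := fun g =>
      (⟨g.1.1 0 0, g.1.1 1 1 * g.1.1 0 0, by have := hdet g.1 g.2; linear_combination this,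
        by have := hdet g.1 g.2; linear_combination this⟩,
        g.1.1 0 1, g.1.1 0 2, g.1.1 1 2)
    have hφ : Function.Injective φ := by
      intro g h hgh
      have e1 : g.1.1 0 0 = h.1.1 0 0 := congrArg (fun x : Fˣ × F × F × F => (x.1 : F)) hgh
      have e2 : g.1.1 0 1 = h.1.1 0 1 := congrArg (fun x : Fˣ × F × F × F => x.2.1) hgh
      have e3 : g.1.1 0 2 = h.1.1 0 2 := congrArg (fun x : Fˣ × F × F × F => x.2.2.1) hgh
      have e4 : g.1.1 1 2 = h.1.1 1 2 := congrArg (fun x : Fˣ × F × F × F => x.2.2.2) hgh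
      obtain ⟨a1, a2, a3, a4⟩ := hent g.1 g.2
      obtain ⟨b1, b2, b3, b4⟩ := hent h.1 h.2
      have d1 := hdet g.1 g.2
      have d2 := hdet h.1 h.2
      have e5 : g.1.1 1 1 = h.1.1 1 1 := by
        rw [e1] at d1
        have h0 : h.1.1 0 0 ≠ 0 := by
          intro h0
          rw [h0] at d2
          simp at d2
        have h6 : h.1.1 0 0 * g.1.1 1 1 * h.1.1 0 0 = h.1.1 0 0 * h.1.1 1 1 * h.1.1 0 0 := d1.trans d2.symm
        exact mul_left_cancel₀ h0 (mul_right_cancel₀ h0 h6)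
      apply Subtype.ext
      apply Subtype.ext
      ext i j
      fin_cases i <;> fin_cases j
      · exact e1
      · exact e2
      · exact e3
      · exact a3.trans b3.symm
      · exact e5
      · exact e4
      · exact a1.trans b1.symm
      · exact a2.trans b2.symm
      · exact a4.symm.trans (e1.trans b4)
    have h1 := Nat.card_le_card_of_injective φ hφ
    have h2 : Nat.card (Fˣ × F × F × F) = 192 := by
      rw [Nat.card_prod, Nat.card_prod, Nat.card_prod, Nat.card_units, Nat.card_eq_fintype_card, hF]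
    omega
  -- the map onto the centralizer
  have hmap : S.map π = Subgroup.centralizer ({π (us 1 0)} : Set T) := by
    apply le_antisymm
    · rintro _ ⟨g, hg, rfl⟩
      have hg' : g ∈ S := hg
      rw [hS, Subgroup.mem_centralizer_singleton_iff] at hg'
      rw [Subgroup.mem_centralizer_singleton_iff, ← map_mul, ← map_mul, hg']
    · intro x hx
      obtain ⟨g, rfl⟩ := hπ x
      rw [Subgroup.mem_centralizer_singleton_iff, ← map_mul, ← map_mul] at hx
      have h1 : g * us 1 0 * (us 1 0 * g)⁻¹ ∈ π.ker := by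
        rw [MonoidHom.mem_ker, map_mul, map_inv, hx, mul_inv_cancel]
      rw [hk, Matrix.SpecialLinearGroup.mem_center_iff] at h1
      obtain ⟨c, -, hc⟩ := h1
      have h2 : g.1 * um 1 0 = c • (um 1 0 * g.1) := by
        have h3 : (g * us 1 0 * (us 1 0 * g)⁻¹) * (us 1 0 * g) = g * us 1 0 := inv_mul_cancel_right _ _
        have h4 := congrArg Subtype.val h3
        have h5 : (g * us 1 0 * (us 1 0 * g)⁻¹ : Matrix.SpecialLinearGroup (Fin 3) F).1 * (um 1 0 * g.1) =
            g.1 * um 1 0 := h4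
        rw [← hc, Matrix.scalar_apply, ← Matrix.smul_eq_diagonal_mul] at h5
        exact h5.symm
      have h3 := (entries h2 (by rw [g.2]; exact one_ne_zero)).1
      refine ⟨g, ?_, rfl⟩
      show g ∈ S
      rw [hS, Subgroup.mem_centralizer_singleton_iff]
      apply Subtype.ext
      show g.1 * um 1 0 = um 1 0 * g.1
      rw [h2, h3, one_smul]
  -- the kernel has at least 3 elements
  have hker : 3 ≤ Nat.card (π.comp S.subtype).ker := by
    have hsc : ∀ a : Fˣ, (a : F) ^ 3 = 1 := by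
      intro a
      have h1 : a ^ 3 = 1 := by
        have h2 := pow_card_eq_one (G := Fˣ) (x := a)
        rwa [Fintype.card_units, hF] at h2
      have h3 := congrArg Units.val h1
      rwa [Units.val_pow_eq_pow_val, Units.val_one] at h3
    let s : Fˣ → Matrix.SpecialLinearGroup (Fin 3) F := fun a =>
      ⟨Matrix.scalar (Fin 3) (a : F), by rw [Matrix.scalar_apply, Matrix.det_diagonal]; simpa only [_root_.Finset.prod_const, _root_.Finset.card_univ, _root_.Fintype.card_fin] using hsc a⟩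
    have hcen : ∀ a, s a ∈ Subgroup.center (Matrix.SpecialLinearGroup (Fin 3) F) := by
      intro a
      rw [Matrix.SpecialLinearGroup.mem_center_iff]
      exact ⟨a, by simpa only [_root_.Fintype.card_fin] using hsc a, rfl⟩
    have hsS : ∀ a, s a ∈ S := by
      intro a
      rw [hS, Subgroup.mem_centralizer_singleton_iff]
      exact (Subgroup.mem_center_iff.1 (hcen a) _).symm
    let ψ : Fˣ → (π.comp S.subtype).ker := fun a => ⟨⟨s a, hsS a⟩, by
      rw [MonoidHom.mem_ker]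
      show π (s a) = 1
      rw [← MonoidHom.mem_ker, hk]
      exact hcen a⟩
    have hψ : Function.Injective ψ := by
      intro a b hab
      have h1 : (s a).1 0 0 = (s b).1 0 0 :=
        congrArg (fun x : (π.comp S.subtype).ker => (x.1.1.1 : Matrix (Fin 3) (Fin 3) F) 0 0) hab
      have h2 : (s a).1 0 0 = (a : F) := by
        show (Matrix.scalar (Fin 3) (a : F)) 0 0 = _
        simp
      have h3 : (s b).1 0 0 = (b : F) := by
        show (Matrix.scalar (Fin 3) (b : F)) 0 0 = _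
        simp
      exact Units.ext (by rw [← h2, h1, h3])
    have h1 := Nat.card_le_card_of_injective ψ hψ
    rw [Nat.card_units, Nat.card_eq_fintype_card, hF] at h1
    exact h1
  have hcard : Nat.card S = Nat.card (π.comp S.subtype).ker *
      Nat.card (Subgroup.centralizer ({π (us 1 0)} : Set T)) := by
    rw [← hmap, Subgroup.card_eq_card_quotient_mul_card_subgroup (π.comp S.subtype).ker, mul_comm]
    congr 1
    have h1 := Nat.card_congr (QuotientGroup.quotientKerEquivRange (π.comp S.subtype)).toEquiv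
    rw [h1, MonoidHom.range_comp, Subgroup.range_subtype]
  nlinarith only [hS192, hker, hcard]

end mat

/-- the data used below -/
structure Data (T : Type u) [Group T] (t : T) : Prop where
  ne : t ≠ 1
  val : ∀ ψ : T → ℂ, IsIrrCharacter T ψ → ∀ d : ℕ, ψ 1 = (d : ℂ) →
    ∃ v : ℤ, ψ t = (v : ℂ) ∧ ∃ k : ℕ, (d : ℤ) + 15 * v = 16 * k
  cen : Nat.card (Subgroup.centralizer ({t} : Set T)) ≤ 64

theorem exists_data {F : Type} [Field F] [Fintype F] (hF : Fintype.card F = 4) {T : Type u} [Group T] [Finite T]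
    (e : T ≃* Matrix.ProjectiveSpecialLinearGroup (Fin 3) F) : ∃ t : T, Data T t := by
  classical
  have : Fintype T := Fintype.ofFinite T
  have hch : CharP F 2 := by
    obtain ⟨p, hp⟩ := CharP.exists F
    have : Fact p.Prime := ⟨CharP.char_is_prime F p⟩
    obtain ⟨n, hp', hn⟩ := FiniteField.card F p
    rw [hF] at hn
    have h1 : p ∣ 2 ^ 2 := by
      rw [show 2 ^ 2 = 4 from rfl, hn]
      exact dvd_pow_self p n.ne_zero
    have h2 : p = 2 := (Nat.prime_dvd_prime_iff_eq hp' Nat.prime_two).1 (hp'.dvd_of_dvd_pow h1)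
    rwa [h2] at hp
  set π : Matrix.SpecialLinearGroup (Fin 3) F →* T := e.symm.toMonoidHom.comp (QuotientGroup.mk' _) with hπ
  have hπs : Function.Surjective π := e.symm.surjective.comp (QuotientGroup.mk'_surjective _)
  have hπk : π.ker = Subgroup.center _ := by
    ext g
    rw [MonoidHom.mem_ker]
    constructor
    · intro h
      have h1 : (QuotientGroup.mk g : Matrix.ProjectiveSpecialLinearGroup (Fin 3) F) = 1 := by
        apply e.symm.injective
        rw [map_one]
        exact h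
      exact (QuotientGroup.eq_one_iff _).1 h1
    · intro h
      have h1 : (QuotientGroup.mk g : Matrix.ProjectiveSpecialLinearGroup (Fin 3) F) = 1 :=
        (QuotientGroup.eq_one_iff _).2 h
      show e.symm (QuotientGroup.mk g) = 1
      rw [h1, map_one]
  have hcen := card_centralizer_le hF π hπs hπk
  obtain ⟨t, ht⟩ : ∃ t : T, t = π (us 1 0) := ⟨_, rfl⟩
  rw [← ht] at hcen
  have htne : t ≠ 1 := by
    intro h
    apply mk_us_ne (F := F)
    apply e.symm.injective
    rw [map_one, ← h, ht]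
    rfl
  have htt : t * t = 1 := by
    rw [ht, ← map_mul, us_mul, CharTwo.add_self_eq_zero, add_zero, us_zero, map_one]
  refine ⟨t, htne, ?_, hcen⟩
  intro ψ hψ d h7
  have hψc := isIrr_isCharacter hψ
  have hval : ∀ a b : F, ¬ (a = 0 ∧ b = 0) → ψ (π (us a b)) = ψ t := by
    intro a b hab
    obtain ⟨g, hg⟩ := us_conj a b hab
    have h1 : t = π g * π (us a b) * (π g)⁻¹ := by
      rw [ht, ← map_mul, hg, map_mul, mul_inv_cancel_right]
    rw [h1, isCharacter_isClassFunction hψc]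
  -- the sum over the group of order sixteen
  obtain ⟨k, hk⟩ := sum_eq (isCharacter_comp (π.comp (uh F)) hψc)
  have hcard : Fintype.card (Multiplicative (F × F)) = 16 := by
    rw [Fintype.card_multiplicative, Fintype.card_prod, hF]
  have hsum : ∑ x : Multiplicative (F × F), ψ ((π.comp (uh F)) x) = d + 15 * ψ t := by
    rw [← Finset.add_sum_erase _ _ (Finset.mem_univ (1 : Multiplicative (F × F)))]
    rw [map_one, h7]
    congr 1
    rw [Finset.sum_congr rfl (g := fun _ => ψ t) (fun x hx => ?_), Finset.sum_const, Finset.card_erase_of_mem (Finset.mem_univ _),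
      Finset.card_univ, hcard]
    · simp
    · refine hval _ _ fun h => (Finset.ne_of_mem_erase hx) ?_
      apply Multiplicative.toAdd.injective
      exact Prod.ext h.1 h.2
  -- the sum over the group of order two
  have hZ : (ZMod.lift 2 ⟨(zmultiplesHom (Additive T)) (Additive.ofMul t), by
      show (2 : ℤ) • Additive.ofMul t = 0
      rw [two_zsmul, ← ofMul_mul, htt, ofMul_one]⟩) 1 = Additive.ofMul t := by
    have := ZMod.lift_coe 2 ⟨(zmultiplesHom (Additive T)) (Additive.ofMul t), by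
      show (2 : ℤ) • Additive.ofMul t = 0
      rw [two_zsmul, ← ofMul_mul, htt, ofMul_one]⟩ 1
    rw [Int.cast_one] at this
    rw [this]
    simp
  set δ : Multiplicative (ZMod 2) →* T := AddMonoidHom.toMultiplicativeLeft (ZMod.lift 2 ⟨(zmultiplesHom (Additive T)) (Additive.ofMul t), by
      show (2 : ℤ) • Additive.ofMul t = 0
      rw [two_zsmul, ← ofMul_mul, htt, ofMul_one]⟩) with hδ
  obtain ⟨m, hm⟩ := sum_eq (isCharacter_comp δ hψc)
  have hm' : (d : ℂ) + ψ t = 2 * m := by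
    have h1 : ∑ x : Multiplicative (ZMod 2), ψ (δ x) = ψ (δ 1) + ψ (δ (Multiplicative.ofAdd 1)) :=
      Fin.sum_univ_two (fun x : Fin 2 => ψ (δ (Multiplicative.ofAdd (x : ZMod 2))))
    have h2 : δ (Multiplicative.ofAdd 1) = t := by
      show Additive.toMul ((ZMod.lift 2 _) 1) = t
      rw [hZ]
      rfl
    rw [map_one, h7, h2] at h1
    have h3 : Fintype.card (Multiplicative (ZMod 2)) = 2 := rfl
    rw [h3] at hm
    rw [← h1]
    exact hm
  have hk' : (d : ℂ) + 15 * ψ t = 16 * k := by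
    rw [← hsum]
    rw [hcard] at hk
    exact hk
  have hx : ψ t = ((2 * (m : ℤ) - d : ℤ) : ℂ) := by
    push_cast
    linear_combination hm'
  refine ⟨2 * (m : ℤ) - d, hx, k, ?_⟩
  have h1 : (((d : ℤ) + 15 * (2 * (m : ℤ) - d) : ℤ) : ℂ) = ((16 * (k : ℤ) : ℤ) : ℂ) := by
    rw [hx] at hk'
    push_cast at hk' ⊢
    exact hk'
  exact_mod_cast h1

/-- **task 595: `l34_elim`** -/
theorem l34_elim {F : Type} [Field F] [Fintype F] (hF : Fintype.card F = 4) {T : Type u} [Group T] [Finite T]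
    (e : T ≃* Matrix.ProjectiveSpecialLinearGroup (Fin 3) F)
    (h : ∀ ψ : T → ℂ, IsIrrCharacter T ψ →
      ∃ d ∈ [1, 7, 10, 14, 20, 21, 28, 32, 35, 42, 45, 56, 64, 70, 90], ψ 1 = ((d : ℕ) : ℂ)) : False := by
  classical
  have : Fintype T := Fintype.ofFinite T
  obtain ⟨t, htne, hval, hcen⟩ := exists_data hF e
  have hs : IsSimpleGroup (Matrix.ProjectiveSpecialLinearGroup (Fin 3) F) := Cfsg.Agent.S0249.result 3 le_rfl
  have hsT : IsSimpleGroup T := e.isSimpleGroup
  have hone : IsIrrCharacter T (1 : T → ℂ) := isIrr_one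
  -- the kernel
  have hker : ∀ ψ : T → ℂ, IsIrrCharacter T ψ → ψ t = ψ 1 → ψ = 1 := by
    intro ψ hψ ht7
    by_contra hne
    have hker : Cfsg.Agent.H686.CharKit.chKer (⟨ψ, hψ⟩ : IrrCharacter T) = ⊤ := by
      rcases (inferInstance : (Cfsg.Agent.H686.CharKit.chKer (⟨ψ, hψ⟩ : IrrCharacter T)).Normal).eq_bot_or_eq_top with h | h
      · exfalso
        apply htne
        have h1 : t ∈ Cfsg.Agent.H686.CharKit.chKer (⟨ψ, hψ⟩ : IrrCharacter T) := ht7
        rwa [h, Subgroup.mem_bot] at h1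
      · exact h
    have hconst : ∀ g, ψ g = ψ 1 := by
      intro g
      have h1 : g ∈ Cfsg.Agent.H686.CharKit.chKer (⟨ψ, hψ⟩ : IrrCharacter T) := by rw [hker]; exact Subgroup.mem_top g
      exact h1
    have h0 := classInner_irr_ne hψ isIrr_one hne
    rw [classInner] at h0
    have h0' : (Nat.card T : ℂ)⁻¹ * ∑ g : T, ψ 1 = 0 := by
      rw [← h0]
      congr 1
      refine Finset.sum_congr rfl fun g _ => ?_
      rw [hconst g]
      simp
    rw [Finset.sum_const, Finset.card_univ, nsmul_eq_mul, Nat.card_eq_fintype_card] at h0'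
    have hc : ((Fintype.card T : ℕ) : ℂ) ≠ 0 := by exact_mod_cast Fintype.card_ne_zero
    rw [← mul_assoc, inv_mul_cancel₀ hc, one_mul] at h0'
    have h2 := Cfsg.Agent.H686.CharKit.charDegree_pos (⟨ψ, hψ⟩ : IrrCharacter T)
    have h3 := Cfsg.Agent.H686.CharKit.charDegree_irr (⟨ψ, hψ⟩ : IrrCharacter T)
    have h4 : ((⟨ψ, hψ⟩ : IrrCharacter T) : T → ℂ) 1 = 0 := h0'
    rw [h4] at h3
    have h5 : charDegree ((⟨ψ, hψ⟩ : IrrCharacter T) : T → ℂ) = 0 := by exact_mod_cast h3
    omega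
  have hfin' : Finite (IrrCharacter T) := Cfsg.Agent.Characters.Core.finite_irr
  have hfin : Fintype (IrrCharacter T) := Fintype.ofFinite _
  have hnsq := Cfsg.Agent.H686.CharKit.sum_normSq t
  -- the bound on the values
  have hbound : ∀ ψ : IrrCharacter T, ψ ≠ ⟨1, hone⟩ → ∀ v : ℤ, (ψ : T → ℂ) t = (v : ℂ) → v * v ≤ 63 := by
    intro ψ hψ v hv
    have h1 : Complex.normSq ((ψ : T → ℂ) t) + Complex.normSq (((⟨1, hone⟩ : IrrCharacter T) : T → ℂ) t) ≤
        ∑ χ : IrrCharacter T, Complex.normSq ((χ : T → ℂ) t) := by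
      rw [← Finset.sum_pair (f := fun χ : IrrCharacter T => Complex.normSq ((χ : T → ℂ) t)) hψ]
      exact Finset.sum_le_sum_of_subset_of_nonneg (Finset.subset_univ _) fun _ _ _ => Complex.normSq_nonneg _
    have h2 : Complex.normSq (((⟨1, hone⟩ : IrrCharacter T) : T → ℂ) t) = 1 := by
      show Complex.normSq (1 : ℂ) = 1
      exact Complex.normSq_one
    have h3 : Complex.normSq ((ψ : T → ℂ) t) = (v : ℝ) * v := by
      rw [hv, Complex.normSq_intCast]
    rw [hnsq, h2, h3] at h1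
    have h4 : ((v * v + 1 : ℤ) : ℝ) ≤ ((Nat.card (Subgroup.centralizer ({t} : Set T)) : ℤ) : ℝ) := by
      push_cast
      exact h1
    have h5 : v * v + 1 ≤ (Nat.card (Subgroup.centralizer ({t} : Set T)) : ℤ) := by exact_mod_cast h4
    omega
  -- the products
  have hprod : ∀ ψ : IrrCharacter T, ∃ f : ℤ, (ψ : T → ℂ) 1 * (starRingEnd ℂ) ((ψ : T → ℂ) t) = (f : ℂ) ∧
      (ψ ≠ ⟨1, hone⟩ → (5 : ℤ) ∣ f) := by
    intro ψ
    obtain ⟨d, hd, hψ1⟩ := h ψ.1 ψ.2
    obtain ⟨v, hv, k, hk⟩ := hval ψ.1 ψ.2 d hψ1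
    refine ⟨d * v, ?_, ?_⟩
    · rw [hψ1, hv]
      push_cast
      rw [map_intCast]
    · intro hne
      have hb := hbound ψ hne v hv
      have h7 : d ≠ 7 := by
        rintro rfl
        exact l34_no_seven hF e ψ.1 ψ.2 (by rw [hψ1]; norm_num)
      have hv7 : v ≤ 7 := by nlinarith only [hb]
      have hv7' : -7 ≤ v := by nlinarith only [hb]
      have h1 : ¬ (d = 1 ∧ v = 1) := by
        rintro ⟨rfl, rfl⟩
        apply hne
        apply Subtype.ext
        apply hker ψ.1 ψ.2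
        rw [hv, hψ1]
        simp
      simp only [List.mem_cons, List.not_mem_nil, or_false] at hd
      rcases hd with rfl | rfl | rfl | rfl | rfl | rfl | rfl | rfl | rfl | rfl | rfl | rfl | rfl | rfl | rfl <;> (clear * - hv7 hk h1 hv7' h7; omega)
  choose f hf1 hf2 using hprod
  have hconj : ¬ IsConj (1 : T) t := by
    intro hc
    exact htne (isConj_one_right.1 hc)
  have horth := Cfsg.Agent.H686.CharKit.col_orth (1 : T) t
  rw [if_neg hconj, Finset.sum_congr rfl (fun χ _ => hf1 χ), ← Int.cast_sum] at horth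
  have h0 : ∑ χ : IrrCharacter T, f χ = 0 := by exact_mod_cast horth
  rw [← Finset.add_sum_erase _ _ (Finset.mem_univ (⟨1, hone⟩ : IrrCharacter T))] at h0
  have h1 : f ⟨1, hone⟩ = 1 := by
    have h2 := hf1 ⟨1, hone⟩
    have h3 : (((⟨1, hone⟩ : IrrCharacter T) : T → ℂ) 1) * (starRingEnd ℂ) (((⟨1, hone⟩ : IrrCharacter T) : T → ℂ) t) = 1 := by
      show (1 : ℂ) * (starRingEnd ℂ) 1 = 1
      simp
    rw [h3] at h2
    have h4 : ((1 : ℤ) : ℂ) = (f ⟨1, hone⟩ : ℂ) := by rw [← h2]; simp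
    exact (by exact_mod_cast h4 : (1 : ℤ) = f ⟨1, hone⟩).symm
  have h5 : (5 : ℤ) ∣ ∑ χ ∈ Finset.univ.erase (⟨1, hone⟩ : IrrCharacter T), f χ :=
    Finset.dvd_sum fun χ hχ => hf2 χ (Finset.ne_of_mem_erase hχ)
  omega

end Cfsg.Agent.H131.L34Elim
end

-- part: H495/Cod/Simple
section
/-!
# Codegrees inside the codegrees of an alternating group (helper495, S4941): simple groups of Lie type

* `lie_case` : a group of Lie type with the codegrees of `A_n` is `A_n`
* `spor_card` : the orders of the sporadic groups and of the Tits group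
-/

set_option autoImplicit false
set_option linter.unusedSectionVars false

universe u v

namespace Cfsg.Agent.H495.Cod

open Cfsg Cfsg.Agent.Characters.Core Cfsg.Agent.H686.CharKit Subgroup
open Cfsg.Agent.H704 (IsDeg)

theorem aN_seven : aN 7 = 2520 := by
  have h1 := two_mul_aN (n := 7) (by norm_num)
  have h2 : Nat.factorial 7 = 5040 := rfl
  omega

theorem aN_eight : aN 8 = 20160 := by
  have h1 := two_mul_aN (n := 8) (by norm_num)
  have h2 : Nat.factorial 8 = 40320 := rfl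
  omega

theorem card_psl34 {K : Type} [Field K] [Fintype K] (hK : Fintype.card K = 4) :
    Nat.card (Matrix.ProjectiveSpecialLinearGroup (Fin 3) K) = 20160 := by
  have h := S0243.result (F := K) hK 3 (by norm_num)
  rw [Fin.prod_univ_three] at h
  norm_num only [_root_.Fin.coe_ofNat_eq_mod, _root_.pow_zero, _root_.Nat.add_one_sub_one, _root_.pow_one] at h
  omega

theorem lie_case {n : ℕ} (hn : 5 ≤ n) {S : Type u} [Group S] [Finite S] [IsSimpleGroup S] {p : ℕ} (hp : p.Prime)
    (h : IsLieTypeChar p S) (hc : CodOK n S) : Nonempty (S ≃* alternatingGroup (Fin n)) := by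
  obtain ⟨k, hk, hd⟩ := hc.simple
  have hS0 : Nat.card S ≠ 0 := Nat.card_pos.ne'
  have h2 := two_mul_aN (n := n) (by omega)
  have hcube : Nat.card S < (ordProj[p] (Nat.card S)) ^ 3 := by
    by_cases hp2 : p = 2
    · subst hp2
      exact Cfsg.Agent.H131.CharTwo.card_lt_cube_two h
    · exact Cfsg.Agent.OrdCrit.card_lt_cube hp hp2 h
  obtain ⟨χ, hχ, hχ1, -⟩ := H167.StChar.hasSt_of_lie hp h
  set s := p ^ (Nat.card S).factorization p with hs
  have hs1 : 1 < s := by
    rcases Nat.lt_or_ge 1 s with h1 | h1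
    · exact h1
    · exfalso
      have h3 : s ^ 3 ≤ 1 := by
        calc s ^ 3 ≤ 1 ^ 3 := Nat.pow_le_pow_left h1 3
          _ = 1 := one_pow 3
      have h4 : 0 < Nat.card S := Nat.card_pos
      omega
  have hdeg : charDegree χ = s := by
    rw [charDegree, hχ1, Complex.natCast_re, Nat.floor_natCast]
  have hne : χ ≠ 1 := by
    rintro rfl
    rw [charDegree_one] at hdeg
    omega
  have h3 := hd ⟨χ, hχ⟩ hne
  have h4 : ADeg n (k * s) := by rw [← hdeg]; exact h3
  obtain ⟨-, h5, -, h6⟩ := h4.facts hn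
  have hk0 : 0 < k := by
    rcases Nat.eq_zero_or_pos k with h0 | h0
    · rw [h0, zero_mul] at hk
      exact absurd hk (aN_pos n).ne'
    · exact h0
  have h7 : k * s ^ 2 < Nat.card S := by
    have : k * (k * s ^ 2) < k * Nat.card S := by
      rw [← hk]
      calc k * (k * s ^ 2) = k * s * (k * s) := by ring
        _ < aN n := h5
    exact Nat.lt_of_mul_lt_mul_left this
  rcases H131.LieList.lie_list hn hp h ⟨k, by rw [← h2, hk]; ring⟩ (by
      rw [← hs, ← h2, hk]
      calc 2 * (k * Nat.card S) * s ^ 2 = 2 * Nat.card S * (k * s ^ 2) := by ring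
        _ < 2 * Nat.card S * Nat.card S := Nat.mul_lt_mul_of_pos_left h7 (by have := Nat.card_pos (α := S); omega)
        _ = 2 * Nat.card S ^ 2 := by ring) with h8 | ⟨rfl, rfl, h8⟩ | ⟨rfl, F, _, _, hF, ⟨e⟩⟩
  · exact h8
  · exfalso
    rw [aN_seven, h8] at hk
    have hk5 : k = 5 := by omega
    have hs8 : s = 8 := by
      rw [hs, h8]
      have : Nat.factorization 504 2 = 3 := by
        rw [show 504 = 2 ^ 3 * 63 by norm_num, Nat.factorization_mul (by norm_num) (by norm_num), Nat.factorization_pow]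
        simp only [Nat.prime_two.factorization_self, Nat.factorization_eq_zero_of_not_dvd, _root_.Finsupp.coe_add, _root_.Finsupp.coe_smul, _root_.nsmul_eq_mul, _root_.Nat.cast_ofNat, _root_.Pi.add_apply, _root_.Pi.mul_apply, _root_.Pi.ofNat_apply, _root_.mul_one, _root_.Nat.reduceDvd, _root_.not_false_eq_true, _root_.add_zero]
      rw [this]
      norm_num
    rw [hk5, hs8] at h6
    rcases h6 with h6 | h6 <;> have := H704.deg7 h6 <;> revert this <;> decide
  · exfalso
    rw [aN_eight, Nat.card_congr e.toEquiv, card_psl34 hF] at hk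
    have hk1 : k = 1 := by omega
    refine H131.L34Elim.l34_elim hF e fun ψ hψ => ?_
    by_cases hψ1 : ψ = 1
    · exact ⟨1, by simp, by rw [hψ1]; simp⟩
    · have h9 := hd ⟨ψ, hψ⟩ hψ1
      rw [hk1, one_mul] at h9
      obtain ⟨h10, h11, h12, h13⟩ := h9.facts hn
      refine ⟨charDegree ψ, ?_, (charDegree_cast (isIrr_isCharacter hψ)).symm⟩
      have h14 : ∀ d, IsDeg 8 d → d ∈ [1, 7, 14, 20, 21, 28, 35, 42, 56, 64, 70, 90] := fun d => H704.deg8
      change 1 < charDegree ψ at h10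
      change IsDeg 8 (charDegree ψ) ∨ IsDeg 8 (2 * charDegree ψ) at h13
      generalize charDegree ψ = d at *
      rcases h13 with h13 | h13
      · have := h14 _ h13
        simp only [List.mem_cons, List.not_mem_nil, or_false] at this ⊢
        (clear * - this; omega)
      · have := h14 _ h13
        simp only [List.mem_cons, List.not_mem_nil, or_false] at this ⊢
        (clear * - this; omega)

/-- the orders of the sporadic groups and of the Tits group -/
theorem spor_card {S : Type u} [Group S] (h : Lie.IsoTits S ∨ IsSporadicGroup S) :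
    Nat.card S ∈ [7920, 95040, 443520, 10200960, 244823040, 175560, 604800, 50232960, 86775571046077562880,
      4157776806543360000, 42305421312000, 495766656000, 898128000, 44352000, 448345497600, 4030387200, 145926144000,
      460815505920, 51765179004000000, 64561751654400, 4089470473293004800, 1255205709190661721292800,
      273030912000000, 90745943887872000, 4154781481226426191177580544000000,
      808017424794512875886459904961710757005754368000000000, 17971200] := by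
  have key : ∀ (g : OrdDiv.Grp), g ∈ OrdDiv.spor.map (fun x => x.1) → OrdDiv.Real g S → ∃ x ∈ OrdDiv.spor, Nat.card S = x.2 :=
    fun g hg hr => by
      obtain ⟨x, hx, rfl⟩ := List.mem_map.1 hg
      exact ⟨x, hx, OrdDiv.table_spor S x hx hr⟩
  have h1 : ∃ x ∈ OrdDiv.spor, Nat.card S = x.2 := by
    rcases h with h | h
    · exact key .tits (by decide) h
    rcases h with h | h | h | h | h | h | h | h | h | h | h | h | h | h | h | h | h | h | h | h | h | h | h | h | h | h
    · exact key .m11 (by decide) h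
    · exact key .m12 (by decide) h
    · exact key .m22 (by decide) h
    · exact key .m23 (by decide) h
    · exact key .m24 (by decide) h
    · exact key .j1 (by decide) h
    · exact key .j2 (by decide) h
    · exact key .j3 (by decide) h
    · exact key .j4 (by decide) h
    · exact key .co1 (by decide) h
    · exact key .co2 (by decide) h
    · exact key .co3 (by decide) h
    · exact key .mcl (by decide) h
    · exact key .hs (by decide) h
    · exact key .suz (by decide) h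
    · exact key .he (by decide) h
    · exact key .ru (by decide) h
    · exact key .on (by decide) h
    · exact key .ly (by decide) h
    · exact key .fi22 (by decide) h
    · exact key .fi23 (by decide) h
    · exact key .fi24 (by decide) h
    · exact key .hn (by decide) h
    · exact key .th (by decide) h
    · exact key .b (by decide) h
    · exact key .m (by decide) h
  obtain ⟨x, hx, h2⟩ := h1
  rw [h2]
  have h3 : ∀ x ∈ OrdDiv.spor, x.2 ∈ [7920, 95040, 443520, 10200960, 244823040, 175560, 604800, 50232960, 86775571046077562880,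
      4157776806543360000, 42305421312000, 495766656000, 898128000, 44352000, 448345497600, 4030387200, 145926144000,
      460815505920, 51765179004000000, 64561751654400, 4089470473293004800, 1255205709190661721292800,
      273030912000000, 90745943887872000, 4154781481226426191177580544000000,
      808017424794512875886459904961710757005754368000000000, 17971200] := by decide +kernel
  exact h3 x hx

/-- the sporadic groups behind five orders -/
theorem spor_of_card {S : Type u} [Group S] (h : Lie.IsoTits S ∨ IsSporadicGroup S)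
    (hc : Nat.card S ∈ [604800, 44352000, 898128000, 448345497600, 64561751654400]) :
    Spor.IsoJ2 S ∨ Spor.IsoHS S ∨ Spor.IsoMcL S ∨ Spor.IsoSuz S ∨ Spor.IsoFi22 S := by
  have key : ∀ (g : OrdDiv.Grp), (∃ m, (g, m) ∈ OrdDiv.spor ∧ m ∉ [604800, 44352000, 898128000, 448345497600, 64561751654400]) →
      ¬ OrdDiv.Real g S := by
    rintro g ⟨m, hm, hm'⟩ hr
    rw [OrdDiv.table_spor S _ hm hr] at hc
    exact hm' hc
  rcases h with h | h
  · exact absurd h (key .tits ⟨17971200, by decide +kernel, by decide +kernel⟩)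
  rcases h with h | h | h | h | h | h | h | h | h | h | h | h | h | h | h | h | h | h | h | h | h | h | h | h | h | h
  · exact absurd h (key .m11 ⟨7920, by decide +kernel, by decide +kernel⟩)
  · exact absurd h (key .m12 ⟨95040, by decide +kernel, by decide +kernel⟩)
  · exact absurd h (key .m22 ⟨443520, by decide +kernel, by decide +kernel⟩)
  · exact absurd h (key .m23 ⟨10200960, by decide +kernel, by decide +kernel⟩)
  · exact absurd h (key .m24 ⟨244823040, by decide +kernel, by decide +kernel⟩)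
  · exact absurd h (key .j1 ⟨175560, by decide +kernel, by decide +kernel⟩)
  · exact Or.inl h
  · exact absurd h (key .j3 ⟨50232960, by decide +kernel, by decide +kernel⟩)
  · exact absurd h (key .j4 ⟨86775571046077562880, by decide +kernel, by decide +kernel⟩)
  · exact absurd h (key .co1 ⟨4157776806543360000, by decide +kernel, by decide +kernel⟩)
  · exact absurd h (key .co2 ⟨42305421312000, by decide +kernel, by decide +kernel⟩)
  · exact absurd h (key .co3 ⟨495766656000, by decide +kernel, by decide +kernel⟩)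
  · exact Or.inr (Or.inr (Or.inl h))
  · exact Or.inr (Or.inl h)
  · exact Or.inr (Or.inr (Or.inr (Or.inl h)))
  · exact absurd h (key .he ⟨4030387200, by decide +kernel, by decide +kernel⟩)
  · exact absurd h (key .ru ⟨145926144000, by decide +kernel, by decide +kernel⟩)
  · exact absurd h (key .on ⟨460815505920, by decide +kernel, by decide +kernel⟩)
  · exact absurd h (key .ly ⟨51765179004000000, by decide +kernel, by decide +kernel⟩)
  · exact Or.inr (Or.inr (Or.inr (Or.inr h)))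
  · exact absurd h (key .fi23 ⟨4089470473293004800, by decide +kernel, by decide +kernel⟩)
  · exact absurd h (key .fi24 ⟨1255205709190661721292800, by decide +kernel, by decide +kernel⟩)
  · exact absurd h (key .hn ⟨273030912000000, by decide +kernel, by decide +kernel⟩)
  · exact absurd h (key .th ⟨90745943887872000, by decide +kernel, by decide +kernel⟩)
  · exact absurd h (key .b ⟨4154781481226426191177580544000000, by decide +kernel, by decide +kernel⟩)
  · exact absurd h (key .m ⟨808017424794512875886459904961710757005754368000000000, by decide +kernel, by decide +kernel⟩)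

end Cfsg.Agent.H495.Cod
end
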