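import Cfsg.Agent.H66.Cod.Base
import Cfsg.Agent.H704.S8.Defs_m3
import Cfsg.Agent.H692.RealOver
import Cfsg.Agent.Characters.AverageRoots
import Cfsg.Agent.Characters.DegreeBounds
import Cfsg.Agent.H794.SocleCount
import Cfsg.Agent.H850.Cod.Reduce
import Cfsg.Agent.H189.FeitTits
import Cfsg.Agent.Lib.MinNormalNonabelian
import Cfsg.Agent.H107.SpinRep
import Cfsg.Agent.H704.PP
import Cfsg.Agent.S0892
import Cfsg.Agent.H113.PSU.Rank3_m3
import Cfsg.Agent.S1624
import Cfsg.Agent.S1680
import Cfsg.Agent.S1687
import Cfsg.Agent.SporadicRecognition.HSAssemble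
import Cfsg.Agent.SporadicRecognition.McLAssemble
import Cfsg.Agent.H603.SporElim
import Mathlib
import Cfsg.Agent.Characters.Galois
import Cfsg.Agent.Characters.GaloisBasic
import Cfsg.Agent.H495.Cod.Simple
import Cfsg.Agent.H12.KSch
import Cfsg.Agent.S0205
import Cfsg.Agent.FastGrp
import Cfsg.Agent.Prune
set_option linter.all false

section
prune_inst 0x7ffcf8fcaba8addeffff7e3ffed1dffe3384cfffefdffb4bffed6bbf8fdf232319e5fba51de050fece16c09410b87853f97eceffe863dc7ffffd5ff41ffbee0f77be350151d588341fbe0fff93f0778e7f3ffffffffffffffffffffff7fffffffffdffffffff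

-- part: H495/Cod/Kernel_mg
section
set_option linter.all false
open scoped Cfsg.Agent.FastGrp

-- part: H495/Cod/Kernel
section
/-!
# Codegrees inside the codegrees of an alternating group (helper495, S4941): the kernel

`G` perfect with `CodOK n G`, `M` a minimal normal subgroup, `G / M ≃* A_n`:
* `uniq` : every nontrivial normal subgroup contains `M`;
* `sq_dvd` : `|M|² ∣ |A_n|`;
* `above` : the irreducible characters of `G` not containing `M` in their kernel have degree `|M| d`, `d` the degree of a
  nontrivial irreducible character of `A_n`, and the sum of the squares is `|A_n| (|M| - 1)`.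
-/

set_option autoImplicit false
set_option linter.unusedSectionVars false

universe u v

namespace Cfsg.Agent.H495.Cod

open Cfsg Cfsg.Agent.Characters.Core Cfsg.Agent.H686.CharKit Subgroup

variable {n : ℕ} {G : Type u} [Group G] [Finite G]

theorem card_eq (M : Subgroup G) [M.Normal] (e : G ⧸ M ≃* alternatingGroup (Fin n)) :
    Nat.card G = Nat.card M * aN n := by
  rw [Subgroup.card_eq_card_quotient_mul_card_subgroup M, Nat.card_congr e.toEquiv, mul_comm]
  rfl

/-- faithful characters -/
theorem faithful_deg (h : CodOK n G) (M : Subgroup G) [M.Normal] (e : G ⧸ M ≃* alternatingGroup (Fin n))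
    {χ : IrrCharacter G} (hχ : (χ : G → ℂ) ≠ 1) (hk : chKer χ = ⊥) :
    ∃ d, ADeg n d ∧ charDegree (χ : G → ℂ) = Nat.card M * d := by
  obtain ⟨d, hd, h1⟩ := h χ hχ
  refine ⟨d, hd, ?_⟩
  rw [card_ker, hk, Subgroup.card_bot, one_mul, card_eq M e] at h1
  have h2 : aN n * (Nat.card M * d) = aN n * charDegree (χ : G → ℂ) := by
    rw [← h1]; ring
  exact (Nat.eq_of_mul_eq_mul_left (aN_pos n) h2).symm

theorem faithful_lt (hn : 5 ≤ n) (h : CodOK n G) (M : Subgroup G) [M.Normal] (e : G ⧸ M ≃* alternatingGroup (Fin n))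
    {χ : IrrCharacter G} (hχ : (χ : G → ℂ) ≠ 1) (hk : chKer χ = ⊥) : Nat.card M < aN n := by
  obtain ⟨d, hd, h1⟩ := faithful_deg h M e hχ hk
  have h2 := sq_lt χ hχ
  have hd1 := (hd.facts hn).1
  rw [h1, card_eq M e] at h2
  by_contra hne
  rw [not_lt] at hne
  have h3 : Nat.card M * aN n ≤ Nat.card M * Nat.card M := Nat.mul_le_mul_left _ hne
  have h4 : Nat.card M * Nat.card M ≤ (Nat.card M * d) ^ 2 := by
    rw [mul_pow, sq]
    exact Nat.le_mul_of_pos_right _ (pow_pos (by omega) 2)
  omega

/-- a normal subgroup not contained in `M` together with `M` is everything -/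
theorem sup_eq_top (hn : 5 ≤ n) (M : Subgroup G) [M.Normal] (e : G ⧸ M ≃* alternatingGroup (Fin n)) (K : Subgroup G)
    [hK : K.Normal] (h : ¬ K ≤ M) : K ⊔ M = ⊤ := by
  have := simple_alt hn
  have hs : IsSimpleGroup (G ⧸ M) := e.isSimpleGroup
  have hn' : (K.map (QuotientGroup.mk' M)).Normal := hK.map _ (QuotientGroup.mk'_surjective M)
  rcases hn'.eq_bot_or_eq_top with h1 | h1
  · exfalso
    apply h
    rw [Subgroup.map_eq_bot_iff, QuotientGroup.ker_mk'] at h1
    exact h1
  · have h2 := congrArg (Subgroup.comap (QuotientGroup.mk' M)) h1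
    rw [Subgroup.comap_map_eq, QuotientGroup.ker_mk', Subgroup.comap_top] at h2
    exact h2

theorem card_of_compl (hn : 5 ≤ n) (M : Subgroup G) [M.Normal] (e : G ⧸ M ≃* alternatingGroup (Fin n)) (K : Subgroup G)
    [hK : K.Normal] (h1 : K ≠ ⊥) (h2 : K ⊓ M = ⊥) : K ⊔ M = ⊤ ∧ Nat.card K = aN n := by
  have h3 : K ⊔ M = ⊤ := by
    apply sup_eq_top hn M e
    intro h
    rw [inf_eq_left.2 h] at h2
    exact h1 h2
  refine ⟨h3, ?_⟩
  have h4 : Subgroup.IsComplement' K M := by
    rw [Subgroup.isComplement'_def]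
    exact Subgroup.isComplement'_of_disjoint_and_mul_eq_univ (disjoint_iff.2 h2) (by
      rw [← Subgroup.mul_normal, h3]; rfl)
  have h5 := h4.card_mul_card
  rw [card_eq M e, mul_comm] at h5
  exact Nat.eq_of_mul_eq_mul_left Nat.card_pos h5

/-- the sum of the squares of the degrees of the characters with `N` in the kernel -/
theorem sum_sq_ker (N : Subgroup G) [N.Normal] [Fintype (IrrCharacter G)] [DecidablePred fun χ : IrrCharacter G => N ≤ chKer χ] :
    ∑ χ ∈ (Finset.univ.filter fun χ : IrrCharacter G => N ≤ chKer χ), charDegree (χ : G → ℂ) ^ 2 = Nat.card (G ⧸ N) := by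
  classical
  have := finite_irr (G := G ⧸ N)
  have := Fintype.ofFinite (IrrCharacter (G ⧸ N))
  rw [← sum_deg_sq (G := G ⧸ N)]
  symm
  refine Finset.sum_bij (fun ψ _ => infl N ψ) ?_ ?_ ?_ ?_
  · intro ψ _
    rw [Finset.mem_filter]
    exact ⟨Finset.mem_univ _, le_chKer_infl N ψ⟩
  · intro a _ b _ hab
    exact infl_injective N hab
  · intro χ hχ
    obtain ⟨ψ, hψ⟩ := exists_infl N χ (Finset.mem_filter.1 hχ).2
    exact ⟨ψ, Finset.mem_univ _, hψ⟩
  · intro ψ _
    rfl

theorem quot_simple {K M : Subgroup G} [hK : K.Normal] [hM : M.Normal] (hKM : K ⊓ M = ⊥) (hT : K ⊔ M = ⊤) (hM1 : M ≠ ⊥)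
    (hmin : ∀ L : Subgroup G, L.Normal → L ≤ M → L = ⊥ ∨ L = M) : IsSimpleGroup (G ⧸ K) := by
  have hcard : Nat.card K * Nat.card M = Nat.card G := by
    have h4 : Subgroup.IsComplement' K M := by
      rw [Subgroup.isComplement'_def]
      exact Subgroup.isComplement'_of_disjoint_and_mul_eq_univ (disjoint_iff.2 hKM) (by
        rw [← Subgroup.mul_normal, hT]; rfl)
    exact h4.card_mul_card
  have hMc : 1 < Nat.card M := Subgroup.one_lt_card_iff_ne_bot _ |>.2 hM1
  have hq : Nat.card (G ⧸ K) = Nat.card M := by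
    have := Subgroup.card_eq_card_quotient_mul_card_subgroup K
    rw [← hcard, mul_comm] at this
    exact (Nat.eq_of_mul_eq_mul_right Nat.card_pos this).symm
  have : Nontrivial (G ⧸ K) := by
    rw [← Finite.one_lt_card_iff_nontrivial, hq]
    exact hMc
  refine ⟨fun L hL => ?_⟩
  have hL' : (L.comap (QuotientGroup.mk' K)).Normal := hL.comap _
  have hKL : K ≤ L.comap (QuotientGroup.mk' K) := by
    intro x hx
    rw [Subgroup.mem_comap, QuotientGroup.mk'_apply, (QuotientGroup.eq_one_iff x).2 hx]
    exact L.one_mem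
  rcases hmin (L.comap (QuotientGroup.mk' K) ⊓ M) inferInstance inf_le_right with h | h
  · left
    have h5 : L.comap (QuotientGroup.mk' K) = K := by
      symm
      apply Subgroup.eq_of_le_of_card_ge hKL
      have h6 : Nat.card (L.comap (QuotientGroup.mk' K)) * Nat.card M ≤ Nat.card G := by
        have h7 : Function.Injective (fun x : (L.comap (QuotientGroup.mk' K)) × M => (x.1 : G) * (x.2 : G)) := by
          rintro ⟨a, b⟩ ⟨c, d⟩ hab
          have h8 : (a : G) * b = c * d := hab
          have h9 : (c : G)⁻¹ * a = d * (b : G)⁻¹ := by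
            rw [inv_mul_eq_iff_eq_mul, ← mul_assoc, ← h8, mul_inv_cancel_right]
          have h10 : (c : G)⁻¹ * a ∈ L.comap (QuotientGroup.mk' K) ⊓ M :=
            ⟨(L.comap (QuotientGroup.mk' K)).mul_mem ((L.comap (QuotientGroup.mk' K)).inv_mem c.2) a.2,
              by rw [h9]; exact M.mul_mem d.2 (M.inv_mem b.2)⟩
          rw [h, Subgroup.mem_bot] at h10
          have h11 : (a : G) = c := (inv_mul_eq_one.1 h10).symm
          have h12 : (b : G) = d := by rw [h11] at h8; exact mul_left_cancel h8
          exact Prod.ext (Subtype.ext h11) (Subtype.ext h12)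
        have h8 := Nat.card_le_card_of_injective _ h7
        rwa [Nat.card_prod] at h8
      rw [← hcard] at h6
      exact Nat.le_of_mul_le_mul_right h6 Nat.card_pos
    have h6 := Subgroup.map_comap_eq_self_of_surjective (QuotientGroup.mk'_surjective K) L
    rw [← h6, h5, Subgroup.map_eq_bot_iff, QuotientGroup.ker_mk']
  · right
    have h5 : M ≤ L.comap (QuotientGroup.mk' K) := by rw [← h]; exact inf_le_left
    have h6 : L.comap (QuotientGroup.mk' K) = ⊤ := by
      rw [eq_top_iff, ← hT]
      exact sup_le hKL h5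
    have h7 := Subgroup.map_comap_eq_self_of_surjective (QuotientGroup.mk'_surjective K) L
    rw [← h7, h6, ← MonoidHom.range_eq_map, MonoidHom.range_eq_top]
    exact QuotientGroup.mk'_surjective K

/-- quotients of perfect groups -/
theorem perfect_quot {K : Subgroup G} [K.Normal] (hp : commutator G = ⊤) : commutator (G ⧸ K) = ⊤ := by
  have h1 := Subgroup.map_commutator (⊤ : Subgroup G) ⊤ (QuotientGroup.mk' K)
  rw [← MonoidHom.range_eq_map, MonoidHom.range_eq_top.2 (QuotientGroup.mk'_surjective K)] at h1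
  rw [commutator_def, ← h1, ← commutator_def, hp, ← MonoidHom.range_eq_map,
    MonoidHom.range_eq_top.2 (QuotientGroup.mk'_surjective K)]

/-- every nontrivial normal subgroup contains `M` -/
theorem uniq (hn : 5 ≤ n) (h : CodOK n G) (hp : commutator G = ⊤)
    (hS : ∀ (S : Type u) [Group S] [Finite S] [IsSimpleGroup S], ¬ (∀ a b : S, a * b = b * a) → CodOK n S →
      Nat.card S = aN n)
    (M : Subgroup G) [hM : M.Normal] (e : G ⧸ M ≃* alternatingGroup (Fin n)) (hM1 : M ≠ ⊥)
    (hmin : ∀ L : Subgroup G, L.Normal → L ≤ M → L = ⊥ ∨ L = M) (K : Subgroup G) (hK : K.Normal) (hK1 : K ≠ ⊥) :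
    M ≤ K := by
  classical
  by_contra hMK
  have hKM : K ⊓ M = ⊥ := by
    rcases hmin (K ⊓ M) inferInstance inf_le_right with h1 | h1
    · exact h1
    · exact absurd (inf_eq_right.1 h1) hMK
  obtain ⟨hT, hcK⟩ := card_of_compl hn M e K hK1 hKM
  have hs := quot_simple hKM hT hM1 hmin
  have hna : ¬ ∀ a b : G ⧸ K, a * b = b * a := by
    intro hc
    have h1 := perfect_quot (K := K) hp
    have h2 : commutator (G ⧸ K) = ⊥ := by
      rw [commutator_eq_bot_iff_center_eq_top, eq_top_iff]
      intro x _
      rw [Subgroup.mem_center_iff]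
      exact fun y => hc y x
    rw [h1] at h2
    exact top_ne_bot h2
  have hcod : CodOK n (G ⧸ K) := h.of_surj (QuotientGroup.mk' K) (QuotientGroup.mk'_surjective K)
  have h1 := hS (G ⧸ K) hna hcod
  have hcG := card_eq M e
  have hcM : Nat.card M = aN n := by
    have h2 := Subgroup.card_eq_card_quotient_mul_card_subgroup K
    rw [h1, hcK, hcG] at h2
    exact Nat.eq_of_mul_eq_mul_right (aN_pos n) h2
  have hqM : Nat.card (G ⧸ M) = aN n := Nat.card_congr e.toEquiv
  have hA : 60 ≤ aN n := by
    have h2 := two_mul_aN (n := n) (by omega)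
    have h3 := Nat.factorial_le hn
    have h4 : Nat.factorial 5 = 120 := rfl
    omega
  -- a character with neither `K` nor `M` in the kernel
  have := finite_irr (G := G)
  have := Fintype.ofFinite (IrrCharacter G)
  obtain ⟨χ, hχK, hχM⟩ : ∃ χ : IrrCharacter G, ¬ K ≤ chKer χ ∧ ¬ M ≤ chKer χ := by
    by_contra hcon
    push Not at hcon
    have h2 := sum_deg_sq (G := G)
    have h3 : ∑ χ : IrrCharacter G, charDegree (χ : G → ℂ) ^ 2 ≤
        ∑ χ ∈ (Finset.univ.filter fun χ : IrrCharacter G => K ≤ chKer χ), charDegree (χ : G → ℂ) ^ 2 +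
        ∑ χ ∈ (Finset.univ.filter fun χ : IrrCharacter G => M ≤ chKer χ), charDegree (χ : G → ℂ) ^ 2 := by
      rw [← Finset.sum_filter_add_sum_filter_not Finset.univ (fun χ : IrrCharacter G => K ≤ chKer χ)]
      apply Nat.add_le_add_left
      apply Finset.sum_le_sum_of_subset
      intro χ hχ
      rw [Finset.mem_filter] at hχ ⊢
      exact ⟨hχ.1, hcon χ hχ.2⟩
    rw [sum_sq_ker K, sum_sq_ker M, h1, hqM, h2, hcG, hcM] at h3
    nlinarith
  have hχ1 : (χ : G → ℂ) ≠ 1 := by
    intro h2
    apply hχM
    intro g _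
    rw [mem_chKer, h2]
    rfl
  by_cases hL : chKer χ = ⊥
  · have := faithful_lt hn h M e hχ1 hL
    omega
  · have hLM : chKer χ ⊓ M = ⊥ := by
      rcases hmin (chKer χ ⊓ M) inferInstance inf_le_right with h2 | h2
      · exact h2
      · exact absurd (inf_eq_right.1 h2) hχM
    obtain ⟨hLT, hcL⟩ := card_of_compl hn M e (chKer χ) hL hLM
    have hLK : chKer χ ⊓ K = ⊥ := by
      by_contra h2
      have h3 : (chKer χ ⊓ K) ⊓ M = ⊥ := by
        rw [inf_assoc, hKM, inf_bot_eq]
      obtain ⟨-, h4⟩ := card_of_compl hn M e (chKer χ ⊓ K) h2 h3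
      have h5 : chKer χ ⊓ K = K := Subgroup.eq_of_le_of_card_ge inf_le_right (by rw [h4, hcK])
      exact hχK (inf_eq_right.1 h5)
    have hcom : ∀ (A B : Subgroup G), A.Normal → B.Normal → A ⊓ B = ⊥ → ∀ a ∈ A, ∀ b ∈ B, a * b = b * a := by
      intro A B hA hB hAB a ha b hb
      exact Subgroup.commute_of_normal_of_disjoint A B hA hB (disjoint_iff.2 hAB) a b ha hb
    have hcen : chKer χ ≤ center G := by
      intro x hx
      have h2 : (⊤ : Subgroup G) ≤ centralizer ({x} : Set G) := by
        rw [← hT]
        apply sup_le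
        · intro k hk
          rw [mem_centralizer_singleton_iff]
          exact (hcom _ _ inferInstance hK hLK x hx k hk).symm
        · intro k hk
          rw [mem_centralizer_singleton_iff]
          exact (hcom _ _ inferInstance hM hLM x hx k hk).symm
      rw [Subgroup.mem_center_iff]
      intro g
      exact mem_centralizer_singleton_iff.1 (h2 (mem_top g))
    have := simple_alt hn
    have h2 := perfect_quot (K := M) hp
    have h3 : commutator (G ⧸ M) = ⊥ := by
      rw [commutator_eq_bot_iff_center_eq_top, eq_top_iff]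
      intro x _
      obtain ⟨g, rfl⟩ := QuotientGroup.mk_surjective x
      have h4 : g ∈ chKer χ ⊔ M := by rw [hLT]; exact mem_top g
      obtain ⟨a, ha, b, hb, rfl⟩ := Subgroup.mem_sup_of_normal_right.1 h4
      have h5 : ((a * b : G) : G ⧸ M) = (a : G ⧸ M) := by
        rw [QuotientGroup.mk_mul, (QuotientGroup.eq_one_iff b).2 hb, mul_one]
      rw [h5, Subgroup.mem_center_iff]
      intro y
      obtain ⟨c, rfl⟩ := QuotientGroup.mk_surjective y
      rw [← QuotientGroup.mk_mul, ← QuotientGroup.mk_mul, Subgroup.mem_center_iff.1 (hcen ha) c]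
    have hnt : Nontrivial (G ⧸ M) := e.toEquiv.nontrivial
    rw [h2] at h3
    exact top_ne_bot h3

/-- the characters over `M` -/
theorem above (h : CodOK n G)
    (M : Subgroup G) [hM : M.Normal] (e : G ⧸ M ≃* alternatingGroup (Fin n))
    (hu : ∀ K : Subgroup G, K.Normal → K ≠ ⊥ → M ≤ K) (χ : IrrCharacter G) (hχ : ¬ M ≤ chKer χ) :
    ∃ d, ADeg n d ∧ charDegree (χ : G → ℂ) = Nat.card M * d := by
  apply faithful_deg h M e
  · intro h2
    apply hχ
    intro g _
    rw [mem_chKer, h2]
    rfl
  · by_contra h2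
    exact hχ (hu _ inferInstance h2)

/-- the sum of the squares over `M` -/
theorem sum_over (M : Subgroup G) [hM : M.Normal] (e : G ⧸ M ≃* alternatingGroup (Fin n)) [Fintype (IrrCharacter G)]
    [DecidablePred fun χ : IrrCharacter G => M ≤ chKer χ] :
    ∑ χ ∈ (Finset.univ.filter fun χ : IrrCharacter G => ¬ M ≤ chKer χ), charDegree (χ : G → ℂ) ^ 2 =
      aN n * (Nat.card M - 1) := by
  classical
  have h2 := sum_deg_sq (G := G)
  rw [← Finset.sum_filter_add_sum_filter_not Finset.univ (fun χ : IrrCharacter G => M ≤ chKer χ), sum_sq_ker M] at h2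
  have hqM : Nat.card (G ⧸ M) = aN n := Nat.card_congr e.toEquiv
  rw [hqM, card_eq M e] at h2
  have h3 : 0 < Nat.card M := Nat.card_pos
  obtain ⟨m, hm⟩ : ∃ m, Nat.card M = m + 1 := ⟨Nat.card M - 1, by omega⟩
  rw [hm, Nat.add_sub_cancel]
  rw [hm] at h2
  nlinarith

/-- `|M|² ∣ |A_n|` -/
theorem sq_dvd (h : CodOK n G)
    (M : Subgroup G) [hM : M.Normal] (e : G ⧸ M ≃* alternatingGroup (Fin n))
    (hu : ∀ K : Subgroup G, K.Normal → K ≠ ⊥ → M ≤ K) : Nat.card M ^ 2 ∣ aN n := by
  classical
  have := finite_irr (G := G)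
  have := Fintype.ofFinite (IrrCharacter G)
  have h1 : Nat.card M ^ 2 ∣
      ∑ χ ∈ (Finset.univ.filter fun χ : IrrCharacter G => ¬ M ≤ chKer χ), charDegree (χ : G → ℂ) ^ 2 := by
    apply Finset.dvd_sum
    intro χ hχ
    obtain ⟨d, -, hd⟩ := above h M e hu χ (Finset.mem_filter.1 hχ).2
    rw [hd, mul_pow]
    exact Dvd.intro _ rfl
  rw [sum_over M e] at h1
  refine Nat.Coprime.dvd_of_dvd_mul_right ?_ h1
  apply Nat.Coprime.pow_left
  have h2 : 1 ≤ Nat.card M := Nat.card_pos
  rw [Nat.coprime_comm]
  exact (Nat.coprime_self_sub_left h2).2 (Nat.coprime_one_left _)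

end Cfsg.Agent.H495.Cod
end

-- part: H352/Cod/EnumD
section
/-!
# Enumeration of the partitions of `n` whose hook product divides a number (helper352)
-/

set_option autoImplicit false
set_option linter.unusedSectionVars false

namespace Cfsg.Agent.H352.Cod

open Cfsg.Agent.H704

/-- the number of parts larger than `j` in a decreasing list -/
noncomputable def colF (l : List ℕ) (j : ℕ) : ℕ :=
  List.rec (motive := fun _ => ℕ) 0 (fun b _ ih => cond (Nat.ble b j) 0 (Nat.succ ih)) l

/-- the product of the hook lengths of the first `j` columns of a row of length `a` on top of `l`, times `H` -/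
noncomputable def rowF (l : List ℕ) (a j : ℕ) : ℕ → ℕ :=
  Nat.rec (motive := fun _ => ℕ → ℕ) (fun H => H) (fun j ih H => ih (Nat.mul (Nat.add (Nat.sub a j) (colF l j)) H)) j

theorem colF_cons (b : ℕ) (l : List ℕ) (j : ℕ) : colF (b :: l) j = cond (Nat.ble b j) 0 (Nat.succ (colF l j)) := rfl

theorem rowF_succ (l : List ℕ) (a j H : ℕ) :
    rowF l a (j + 1) H = rowF l a j (Nat.mul (Nat.add (Nat.sub a j) (colF l j)) H) := rfl

theorem colF_eq {l : List ℕ} (hl : l.Pairwise (· ≥ ·)) (j : ℕ) : colF l j = colLen l j := by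
  induction l with
  | nil => rfl
  | cons b l ih =>
    rw [colF_cons, ih hl.of_cons]
    unfold colLen
    rw [List.countP_cons]
    by_cases h : j < b
    · have h1 : Nat.ble b j = false := by
        rw [← Bool.not_eq_true, Nat.ble_eq]
        omega
      rw [h1]
      simp [h]
    · have h1 : Nat.ble b j = true := by
        rw [Nat.ble_eq]
        omega
      rw [h1, cond_true]
      have h2 : List.countP (fun a => decide (j < a)) l = 0 := by
        rw [List.countP_eq_zero]
        intro c hc
        have := List.rel_of_pairwise_cons hl hc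
        simp only [decide_eq_true_eq]
        omega
      rw [h2]
      simp [h]

theorem rowF_eq {l : List ℕ} (hl : l.Pairwise (· ≥ ·)) (a : ℕ) : ∀ (j : ℕ) (H : ℕ), rowF l a j H =
    ((List.range j).map fun c => a - c + colLen l c).prod * H := by
  intro j
  induction j with
  | zero => intro H; simp [rowF]
  | succ j ih =>
    intro H
    rw [rowF_succ, ih, List.range_succ, List.map_append, List.prod_append, colF_eq hl]
    simp only [List.map_cons, List.map_nil, List.prod_cons, List.prod_nil, mul_one]
    show _ * ((a - j + colLen l j) * H) = _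
    ring

theorem rowF_row {l : List ℕ} (hl : l.Pairwise (· ≥ ·)) (a H : ℕ) : rowF l a a H = rowHook a l * H :=
  rowF_eq hl a a H

/-- check all the partitions `m ++ l` with `m` of sum `r` and all parts of `m` at least `b`, if
`l.sum ≤ l.length + E` (here `s = l.sum`, `t = l.length + E`) and the hook product divides `M` -/
noncomputable def goD (M : ℕ) (chk : ℕ → Bool) : ℕ → ℕ → ℕ → ℕ → ℕ → List ℕ → ℕ → Bool
  | 0, _, _, _, _, _, _ => false
  | f + 1, s, t, r, b, l, H =>
    cond (Nat.beq (Nat.mod M H) 0)
      (cond (Nat.beq r 0) (chk H) (cond (Nat.ble (Nat.succ r) b) true (cond (Nat.ble (Nat.succ t) s) true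
        ((List.range (Nat.sub (Nat.succ r) b)).all fun i =>
          goD M chk f (Nat.add s (Nat.add b i)) (Nat.succ t) (Nat.sub r (Nat.add b i)) (Nat.add b i)
            (Nat.add b i :: l) (rowF l (Nat.add b i) (Nat.add b i) H)))))
      true

theorem goD_spec (M E : ℕ) (chk : ℕ → Bool) : ∀ (m : List ℕ) (f s t r b : ℕ) (l : List ℕ) (H : ℕ),
    goD M chk f s t r b l H = true → s = l.sum → t = l.length + E →
    m.Pairwise (· ≤ ·) → (∀ a ∈ m, b ≤ a) → (∀ a ∈ m, 0 < a) → m.sum = r → H = hookProd l →
    l.Pairwise (· ≥ ·) → (∀ c ∈ l, c ≤ b) →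
    ((m.reverse ++ l).tail.sum ≤ (m.reverse ++ l).tail.length + E) → hookProd (m.reverse ++ l) ∣ M →
    chk (hookProd (m.reverse ++ l)) = true := by
  intro m
  induction m with
  | nil =>
    intro f s t r b l H h hs ht _ _ _ h4 h5 _ _ _ h10
    cases f with
    | zero => simp [goD] at h
    | succ f =>
      rw [List.sum_nil] at h4
      subst h4
      rw [List.reverse_nil, List.nil_append] at h10 ⊢
      rw [goD] at h
      have h11 : Nat.beq (Nat.mod M H) 0 = true := by
        rw [Nat.beq_eq, h5]
        exact Nat.mod_eq_zero_of_dvd h10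
      rw [h11, cond_true] at h
      rw [← h5]
      exact h
  | cons a m ih =>
    intro f s t r b l H h hs ht h1 h2 h3 h4 h5 hl1 hl2 h7 h10
    cases f with
    | zero => simp [goD] at h
    | succ f =>
      have ha : 0 < a := h3 a (by simp)
      have hb : b ≤ a := h2 a (by simp)
      rw [List.sum_cons] at h4
      have h8 : ¬ l.length + E < l.sum := by
        rw [not_lt]
        have h9 : ((a :: m).reverse ++ l).tail = ((a :: m).reverse).tail ++ l := by
          rw [List.tail_append_of_ne_nil]
          simp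
        rw [h9, List.sum_append, List.length_append] at h7
        have h10 : (a :: m).reverse.tail.length ≤ (a :: m).reverse.tail.sum := by
          have h11 : ∀ c ∈ (a :: m).reverse.tail, 1 ≤ c := by
            intro c hc
            exact h3 c (List.mem_reverse.1 (List.mem_of_mem_tail hc))
          have := List.card_nsmul_le_sum _ 1 h11
          simpa using this
        omega
      have h12 : ∀ (p : List ℕ), hookProd l ∣ hookProd (p ++ l) := by
        intro p
        induction p with
        | nil => exact dvd_rfl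
        | cons c p ihp =>
          rw [List.cons_append, hookProd]
          exact ihp.mul_left _
      have h11 : Nat.beq (Nat.mod M H) 0 = true := by
        rw [Nat.beq_eq, h5]
        exact Nat.mod_eq_zero_of_dvd ((h12 _).trans h10)
      have h13 : Nat.beq r 0 = false := by
        rw [← Bool.not_eq_true, Nat.beq_eq]
        omega
      have h14 : Nat.ble (Nat.succ r) b = false := by
        rw [← Bool.not_eq_true, Nat.ble_eq]
        omega
      have h15 : Nat.ble (Nat.succ t) s = false := by
        rw [← Bool.not_eq_true, Nat.ble_eq]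
        omega
      rw [goD, h11, h13, h14, h15, cond_true, cond_false, cond_false, cond_false, List.all_eq_true] at h
      have h6 := h (a - b) (by rw [List.mem_range]; show a - b < r + 1 - b; omega)
      rw [show Nat.add b (a - b) = a by show b + (a - b) = a; omega] at h6
      rw [List.reverse_cons, List.append_assoc, List.singleton_append] at h7 h10 ⊢
      refine ih f _ _ (r - a) a (a :: l) _ h6 ?_ ?_ h1.of_cons ?_ ?_ (by omega) ?_ ?_ ?_ h7 h10
      · rw [List.sum_cons, ← hs]
        exact Nat.add_comm _ _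
      · rw [List.length_cons, ht]
        show Nat.succ _ = _
        omega
      · intro c hc; exact List.rel_of_pairwise_cons h1 hc
      · intro c hc; exact h3 c (List.mem_cons_of_mem _ hc)
      · rw [rowF_row hl1, h5, hookProd]
      · rw [List.pairwise_cons]
        exact ⟨fun c hc => (hl2 c hc).trans hb, hl1⟩
      · intro c hc
        rcases List.mem_cons.1 hc with rfl | hc
        · exact le_rfl
        · exact (hl2 c hc).trans hb

/-- the degrees that are not divisible by `r`, if the hook product divides `M` -/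
theorem check_part {M n E r d : ℕ} {chk : ℕ → Bool} (hr : r.Prime) (hrn : r ≤ n) (hE : n = r + E)
    (h : goD M chk (n + 1) 0 E n 1 [] 1 = true) (hd : IsDeg n d) (hrd : ¬ r ∣ d) {x : ℕ}
    (hx : d * M = x * n.factorial) : ∃ H : ℕ, chk H = true ∧ x * H = M := by
  obtain ⟨l, hl, he⟩ := hd
  have hd0 : 0 < d := by
    apply Nat.pos_of_ne_zero
    rintro rfl
    exact hrd (dvd_zero r)
  have hxH : x * hookProd l = M := by
    apply Nat.eq_of_mul_eq_mul_left hd0
    rw [hx, ← he]
    ring
  have hrl : r ∣ hookProd l := by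
    have h1 : r ∣ d * hookProd l := by rw [he]; exact (hr.dvd_factorial).2 hrn
    exact (hr.dvd_mul.1 h1).resolve_left hrd
  have h0 := hook_le_of_dvd hl.sorted hr hrl
  refine ⟨hookProd l, ?_, hxH⟩
  have := goD_spec M E _ l.reverse (n + 1) 0 E n 1 [] 1 h rfl (by simp) ?_ ?_ ?_ ?_ rfl (by simp) (by simp) ?_ ?_
  · simpa using this
  · rw [List.pairwise_reverse]; exact hl.sorted
  · intro a ha; exact hl.pos a (List.mem_reverse.1 ha)
  · intro a ha; exact hl.pos a (List.mem_reverse.1 ha)
  · rw [List.sum_reverse]; exact hl.sum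
  · rw [List.reverse_reverse, List.append_nil]
    have h2 := hl.sum
    have h3 := colLen_le_length l 0
    cases l with
    | nil => simp
    | cons a l =>
      rw [List.sum_cons] at h2
      rw [List.headD_cons] at h0
      rw [List.length_cons] at h3
      rw [List.tail_cons]
      omega
  · rw [List.reverse_reverse, List.append_nil, ← hxH]
    exact Dvd.intro_left _ rfl

/-- all the degrees, if the hook product divides `M` -/
theorem check_all {M n d : ℕ} {chk : ℕ → Bool}
    (h : goD M chk (n + 1) 0 n n 1 [] 1 = true) (hd : IsDeg n d) (hd0 : 0 < d) {x : ℕ}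
    (hx : d * M = x * n.factorial) : ∃ H : ℕ, chk H = true ∧ x * H = M := by
  obtain ⟨l, hl, he⟩ := hd
  have hxH : x * hookProd l = M := by
    apply Nat.eq_of_mul_eq_mul_left hd0
    rw [hx, ← he]
    ring
  refine ⟨hookProd l, ?_, hxH⟩
  have := goD_spec M n _ l.reverse (n + 1) 0 n n 1 [] 1 h rfl (by simp) ?_ ?_ ?_ ?_ rfl (by simp) (by simp) ?_ ?_
  · simpa using this
  · rw [List.pairwise_reverse]; exact hl.sorted
  · intro a ha; exact hl.pos a (List.mem_reverse.1 ha)
  · intro a ha; exact hl.pos a (List.mem_reverse.1 ha)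
  · rw [List.sum_reverse]; exact hl.sum
  · rw [List.reverse_reverse, List.append_nil]
    have h2 := hl.sum
    cases l with
    | nil => simp
    | cons a l =>
      rw [List.sum_cons] at h2
      rw [List.tail_cons]
      omega
  · rw [List.reverse_reverse, List.append_nil, ← hxH]
    exact Dvd.intro_left _ rfl

end Cfsg.Agent.H352.Cod
end

-- part: H352/Cod/Kill
section
/-!
# Simple groups whose codegrees are codegrees of an alternating group: the elimination lemmas (helper352, S4941)
-/

set_option autoImplicit false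
set_option linter.unusedSectionVars false

universe u

namespace Cfsg.Agent.H352.Cod

open Cfsg Cfsg.Agent.Characters.Core Cfsg.Agent.H686.CharKit Cfsg.Agent.H495.Cod
open Cfsg.Agent.H704 (IsDeg)
open scoped ComplexConjugate

/-- the values of irreducible characters are algebraic integers -/
theorem integral_apply {G : Type u} [Group G] [Finite G] {χ : G → ℂ} (hχ : IsIrrCharacter G χ) (g : G) :
    IsIntegral ℤ (χ g) := by
  obtain ⟨n, ρ, hρ, rfl⟩ := hχ
  exact Characters.AverageRoots.isIntegral_character ρ g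

/-- if `r` divides `|G|` exactly, there is a nontrivial character whose degree is divisible by neither `r` nor `m` -/
theorem exists_not_dvd {G : Type u} [Group G] [Finite G] {r m : ℕ} (hr : r.Prime) (hrG : r ∣ Nat.card G)
    (hr2 : ¬ r * r ∣ Nat.card G) (hm : 1 < m) : ∃ χ : IrrCharacter G, (χ : G → ℂ) ≠ 1 ∧
      ¬ r ∣ charDegree (χ : G → ℂ) ∧ ¬ m ∣ charDegree (χ : G → ℂ) := by
  classical
  by_contra hcon
  push Not at hcon
  have := finite_irr (G := G)
  have := Fintype.ofFinite (IrrCharacter G)
  have : Fact r.Prime := ⟨hr⟩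
  obtain ⟨x, hx⟩ := exists_prime_orderOf_dvd_card' r hrG
  have hx1 : ¬ IsConj x 1 := by
    intro h
    rw [isConj_comm, isConj_one_right] at h
    rw [h, orderOf_one] at hx
    exact hr.one_lt.ne hx
  have h1 := col_orth x (1 : G)
  rw [if_neg hx1] at h1
  let o : IrrCharacter G := ⟨1, isIrr_one⟩
  rw [← Finset.add_sum_erase _ _ (Finset.mem_univ o)] at h1
  have ho : (o : G → ℂ) x * conj ((o : G → ℂ) 1) = 1 := by
    show (1 : ℂ) * conj (1 : ℂ) = 1
    simp
  rw [ho] at h1
  have hfac : (Nat.card G).factorization r = 1 := by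
    have h2 : 1 ≤ (Nat.card G).factorization r := (hr.dvd_iff_one_le_factorization Nat.card_pos.ne').1 hrG
    have h3 : ¬ 2 ≤ (Nat.card G).factorization r := by
      intro h3
      apply hr2
      rw [← pow_two]
      exact (hr.pow_dvd_iff_le_factorization Nat.card_pos.ne').2 h3
    omega
  -- the other terms
  have key : ∀ χ : IrrCharacter G, ∃ z : ℂ, IsIntegral ℤ z ∧ (χ ≠ o →
      (χ : G → ℂ) x * conj ((χ : G → ℂ) 1) = m * z) := by
    intro χ
    by_cases hχ : χ = o
    · exact ⟨0, isIntegral_zero, fun h => absurd hχ h⟩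
    have hne : (χ : G → ℂ) ≠ 1 := fun h => hχ (Subtype.ext h)
    by_cases hrd : r ∣ charDegree (χ : G → ℂ)
    · refine ⟨0, isIntegral_zero, fun _ => ?_⟩
      rw [H692.RealOver.defect_zero_vanish χ.2 r hr (by rw [hfac, pow_one]; exact hrd) (x := x) (by rw [hx])]
      simp
    · obtain ⟨c, hc⟩ := hcon χ hne hrd
      refine ⟨(c : ℂ) * (χ : G → ℂ) x, ?_, fun _ => ?_⟩
      · exact (isIntegral_natCast c).mul (integral_apply χ.2 x)
      · rw [← charDegree_irr χ, hc, Complex.conj_natCast]
        push_cast
        ring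
  choose z hz hz' using key
  have h2 : ∑ χ ∈ Finset.univ.erase o, (χ : G → ℂ) x * conj ((χ : G → ℂ) 1) = m * ∑ χ ∈ Finset.univ.erase o, z χ := by
    rw [Finset.mul_sum]
    exact Finset.sum_congr rfl fun χ hχ => hz' χ (Finset.ne_of_mem_erase hχ)
  rw [h2] at h1
  have h3 : IsIntegral ℤ (((1 : ℕ) : ℂ) / (m : ℂ)) := by
    have h4 : ((1 : ℕ) : ℂ) / (m : ℂ) = - ∑ χ ∈ Finset.univ.erase o, z χ := by
      have hm0 : (m : ℂ) ≠ 0 := by
        have : m ≠ 0 := by omega
        exact_mod_cast this
      rw [div_eq_iff hm0]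
      push_cast
      linear_combination h1
    rw [h4]
    exact (IsIntegral.sum _ fun χ _ => hz χ).neg
  have h5 := Characters.DegreeBounds.nat_dvd_of_isIntegral_div (by omega : m ≠ 0) h3
  exact hm.ne' (Nat.dvd_one.1 h5)

/-- the test for one possible degree `e` -/
def okE (N k r m e : ℕ) : Bool :=
  Nat.ble e 1 || !(Nat.beq (Nat.mod N e) 0) || Nat.ble N (Nat.mul k (Nat.mul e e)) ||
    Nat.beq (Nat.mod e r) 0 || Nat.beq (Nat.mod e m) 0

/-- the test for one number `x` equal to `e` or `2 e` -/
def chkX (N k r m x : ℕ) : Bool :=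
  okE N k r m x && (!(Nat.beq (Nat.mod x 2) 0) || okE N k r m (Nat.div x 2))

/-- the test for one hook product `H` -/
def chk (N k r m H : ℕ) : Bool := chkX N k r m (Nat.div (Nat.mul 2 N) H)

theorem okE_of {N k r m e : ℕ} (h : okE N k r m e = true) (h1 : 1 < e) (h2 : e ∣ N) (h3 : k * (e * e) < N) :
    r ∣ e ∨ m ∣ e := by
  unfold okE at h
  simp only [Bool.or_eq_true, Bool.not_eq_true'] at h
  rcases h with (((h | h) | h) | h) | h
  · have := Nat.le_of_ble_eq_true h
    omega
  · rw [← Bool.not_eq_true, Nat.beq_eq] at h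
    exact absurd (Nat.mod_eq_zero_of_dvd h2) h
  · have := Nat.le_of_ble_eq_true h
    have h4 : Nat.mul k (Nat.mul e e) = k * (e * e) := rfl
    omega
  · rw [Nat.beq_eq] at h
    exact Or.inl (Nat.dvd_of_mod_eq_zero h)
  · rw [Nat.beq_eq] at h
    exact Or.inr (Nat.dvd_of_mod_eq_zero h)

theorem chk_one {N k r m e H : ℕ} (hH : e * H = 2 * N) (hN : 0 < N) (h : chk N k r m H = true) :
    okE N k r m e = true := by
  have hH0 : 0 < H := by
    apply Nat.pos_of_ne_zero
    rintro rfl
    omega
  unfold chk chkX at h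
  rw [show Nat.div (Nat.mul 2 N) H = e by
    show 2 * N / H = e
    rw [← hH]
    exact Nat.mul_div_cancel e hH0] at h
  simp only [Bool.and_eq_true] at h
  exact h.1

theorem chk_two {N k r m e H : ℕ} (hH : (2 * e) * H = 2 * N) (hN : 0 < N) (h : chk N k r m H = true) :
    okE N k r m e = true := by
  have hH0 : 0 < H := by
    apply Nat.pos_of_ne_zero
    rintro rfl
    omega
  unfold chk chkX at h
  rw [show Nat.div (Nat.mul 2 N) H = 2 * e by
    show 2 * N / H = 2 * e
    rw [← hH]
    exact Nat.mul_div_cancel _ hH0] at h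
  simp only [Bool.and_eq_true, Bool.or_eq_true, Bool.not_eq_true'] at h
  rcases h.2 with h1 | h1
  · rw [← Bool.not_eq_true, Nat.beq_eq] at h1
    exact absurd (Nat.mod_eq_zero_of_dvd (Dvd.intro _ rfl)) h1
  · rwa [show Nat.div (2 * e) 2 = e from Nat.mul_div_cancel_left e (by norm_num)] at h1

/-- the data of a candidate -/
structure Cand (n k N : ℕ) (S : Type u) [Group S] : Prop where
  n5 : 5 ≤ n
  perf : commutator S = ⊤
  card : Nat.card S = N
  eq : aN n = k * N
  deg : ∀ χ : IrrCharacter S, (χ : S → ℂ) ≠ 1 → ADeg n (k * charDegree (χ : S → ℂ))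

variable {n k N : ℕ} {S : Type u} [Group S] [Finite S]

theorem Cand.kpos (h : Cand n k N S) : 0 < k := by
  rcases Nat.eq_zero_or_pos k with h0 | h0
  · have := h.eq
    rw [h0, zero_mul] at this
    exact absurd this (aN_pos n).ne'
  · exact h0

theorem Cand.Npos (h : Cand n k N S) : 0 < N := by
  rw [← h.card]
  exact Nat.card_pos

theorem Cand.fact (h : Cand n k N S) : n.factorial = 2 * k * N := by
  rw [← two_mul_aN (by have := h.n5; omega), h.eq, mul_assoc]

/-- the possible degrees -/
theorem Cand.facts (h : Cand n k N S) (χ : IrrCharacter S) (hχ : (χ : S → ℂ) ≠ 1) :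
    1 < charDegree (χ : S → ℂ) ∧ charDegree (χ : S → ℂ) ∣ N ∧
    k * (charDegree (χ : S → ℂ) * charDegree (χ : S → ℂ)) < N ∧
    (IsDeg n (k * charDegree (χ : S → ℂ)) ∨ IsDeg n (2 * (k * charDegree (χ : S → ℂ)))) := by
  obtain ⟨h1, h2, h3, h4⟩ := (h.deg χ hχ).facts h.n5
  have hd : charDegree (χ : S → ℂ) ∣ N := by
    rw [← h.card]
    exact H674.Codegree.charDegree_dvd_card χ.2
  refine ⟨?_, hd, ?_, h4⟩
  · by_contra hne
    apply hχ
    have h5 := charDegree_pos χ
    apply H621.SymDeg.eq_one_of_perfect h.perf χ.2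
    rw [← charDegree_irr χ, show charDegree (χ : S → ℂ) = 1 by omega, Nat.cast_one]
  · rw [h.eq] at h2
    apply Nat.lt_of_mul_lt_mul_left (a := k)
    calc k * (k * (charDegree (χ : S → ℂ) * charDegree (χ : S → ℂ)))
        = k * charDegree (χ : S → ℂ) * (k * charDegree (χ : S → ℂ)) := by ring
      _ < k * N := h2

theorem Cand.exists_one (h : Cand n k N S) {r : ℕ} (hr : r.Prime) (hrN : r ∣ N) :
    ∃ χ : IrrCharacter S, (χ : S → ℂ) ≠ 1 ∧ ¬ r ∣ charDegree (χ : S → ℂ) := by
  obtain ⟨ψ, d, h1, h2, h3, h4, -⟩ := H621.SymDeg.exists_irr_not_dvd h.perf hr (by rw [h.card]; exact hrN)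
  refine ⟨⟨ψ, h1⟩, ?_, ?_⟩
  · intro h5
    have h5' : ψ = 1 := h5
    rw [h5'] at h2
    have : (1 : ℂ) = d := h2
    have h6 : d = 1 := by exact_mod_cast this.symm
    omega
  · have h5 := charDegree_irr (⟨ψ, h1⟩ : IrrCharacter S)
    have h6 : ((⟨ψ, h1⟩ : IrrCharacter S) : S → ℂ) 1 = d := h2
    rw [h6] at h5
    have h7 : charDegree ((⟨ψ, h1⟩ : IrrCharacter S) : S → ℂ) = d := by exact_mod_cast h5
    rw [h7]
    exact h4

/-- elimination with the full list of the degrees: all possible degrees are divisible by `r` -/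
theorem Cand.kill_full (h : Cand n k N S) (r K : ℕ) (hr : r.Prime) (hrN : r ∣ N) (hK : n.factorial = 2 * K * N)
    (hgo : goD (2 * N) (chk N K r r) (n + 1) 0 n n 1 [] 1 = true) : False := by
  have hkK : k = K := by
    have h1 := h.fact
    rw [hK, mul_assoc, mul_assoc] at h1
    have h2 := Nat.eq_of_mul_eq_mul_left (by norm_num : 0 < 2) h1
    exact (Nat.eq_of_mul_eq_mul_right h.Npos h2).symm
  subst hkK
  obtain ⟨χ, hχ, hrχ⟩ := h.exists_one hr hrN
  obtain ⟨h1, h2, h3, h4⟩ := h.facts χ hχ
  have h5 : okE N k r r (charDegree (χ : S → ℂ)) = true := by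
    rcases h4 with h4 | h4
    · obtain ⟨H, g1, g2⟩ := check_all hgo h4 (Nat.mul_pos h.kpos (by omega)) (x := charDegree (χ : S → ℂ))
        (by rw [hK]; ring)
      exact chk_one g2 h.Npos g1
    · obtain ⟨H, g1, g2⟩ := check_all hgo h4 (Nat.mul_pos (by norm_num) (Nat.mul_pos h.kpos (by omega)))
        (x := 2 * charDegree (χ : S → ℂ)) (by rw [hK]; ring)
      exact chk_two g2 h.Npos g1
  rcases okE_of h5 h1 h2 h3 with h6 | h6 <;> exact hrχ h6

/-- elimination with the degrees prime to `r` -/
theorem Cand.kill_part (h : Cand n k N S) (r E K : ℕ) (hr : r.Prime) (hrN : r ∣ N) (hK : n.factorial = 2 * K * N)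
    (hE : n = r + E) (hrK : ¬ r ∣ 2 * K)
    (hgo : goD (2 * N) (chk N K r r) (n + 1) 0 E n 1 [] 1 = true) : False := by
  have hkK : k = K := by
    have h1 := h.fact
    rw [hK, mul_assoc, mul_assoc] at h1
    have h2 := Nat.eq_of_mul_eq_mul_left (by norm_num : 0 < 2) h1
    exact (Nat.eq_of_mul_eq_mul_right h.Npos h2).symm
  subst hkK
  obtain ⟨χ, hχ, hrχ⟩ := h.exists_one hr hrN
  obtain ⟨h1, h2, h3, h4⟩ := h.facts χ hχ
  have hr1 : ¬ r ∣ 2 * (k * charDegree (χ : S → ℂ)) := by
    rw [← mul_assoc, hr.dvd_mul]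
    rintro (h5 | h5)
    · exact hrK h5
    · exact hrχ h5
  have h5 : okE N k r r (charDegree (χ : S → ℂ)) = true := by
    rcases h4 with h4 | h4
    · obtain ⟨H, g1, g2⟩ := check_part hr (by omega) hE hgo h4 (fun h6 => hr1 (h6.mul_left 2))
        (x := charDegree (χ : S → ℂ)) (by rw [hK]; ring)
      exact chk_one g2 h.Npos g1
    · obtain ⟨H, g1, g2⟩ := check_part hr (by omega) hE hgo h4 hr1
        (x := 2 * charDegree (χ : S → ℂ)) (by rw [hK]; ring)
      exact chk_two g2 h.Npos g1
  rcases okE_of h5 h1 h2 h3 with h6 | h6 <;> exact hrχ h6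

/-- elimination with the degrees prime to `r` where `r` divides the order exactly -/
theorem Cand.kill_mod (h : Cand n k N S) (r m E K : ℕ) (hr : r.Prime) (hrN : r ∣ N) (hr2 : ¬ r * r ∣ N)
    (hm : 1 < m) (hK : n.factorial = 2 * K * N) (hE : n = r + E) (hrK : ¬ r ∣ 2 * K)
    (hgo : goD (2 * N) (chk N K r m) (n + 1) 0 E n 1 [] 1 = true) : False := by
  have hkK : k = K := by
    have h1 := h.fact
    rw [hK, mul_assoc, mul_assoc] at h1
    have h2 := Nat.eq_of_mul_eq_mul_left (by norm_num : 0 < 2) h1
    exact (Nat.eq_of_mul_eq_mul_right h.Npos h2).symm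
  subst hkK
  obtain ⟨χ, hχ, hrχ, hmχ⟩ := exists_not_dvd (G := S) (m := m) hr (by rw [h.card]; exact hrN)
    (by rw [h.card]; exact hr2) hm
  obtain ⟨h1, h2, h3, h4⟩ := h.facts χ hχ
  have hr1 : ¬ r ∣ 2 * (k * charDegree (χ : S → ℂ)) := by
    rw [← mul_assoc, hr.dvd_mul]
    rintro (h5 | h5)
    · exact hrK h5
    · exact hrχ h5
  have h5 : okE N k r m (charDegree (χ : S → ℂ)) = true := by
    rcases h4 with h4 | h4
    · obtain ⟨H, g1, g2⟩ := check_part hr (by omega) hE hgo h4 (fun h6 => hr1 (h6.mul_left 2))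
        (x := charDegree (χ : S → ℂ)) (by rw [hK]; ring)
      exact chk_one g2 h.Npos g1
    · obtain ⟨H, g1, g2⟩ := check_part hr (by omega) hE hgo h4 hr1
        (x := 2 * charDegree (χ : S → ℂ)) (by rw [hK]; ring)
      exact chk_two g2 h.Npos g1
  rcases okE_of h5 h1 h2 h3 with h6 | h6
  · exact hrχ h6
  · exact hmχ h6

end Cfsg.Agent.H352.Cod
end

private theorem dce_8bc48dfd5f8c : _root_.True := by
  try have : _root_.True := by simp only [_root_.Cfsg.Agent.H352.Cod.goD.eq_2]
  try have : _root_.True := by simp only [_root_.Cfsg.Agent.H352.Cod.goD.eq_def]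
  try have : _root_.True := by simp only [_root_.Cfsg.Agent.H352.Cod.goD.eq_1]
  try have : _root_.True := by simp only [_root_.Cfsg.Agent.H352.Cod.rowF.eq_1]
  exact _root_.True.intro
end

-- part: H495/Cod/Final
section
prune_inst 0x10000000000000000002000000001000000000000000000002000000000000000800000000020020000000000000020000000000000000000000000000000000000000000004040000000000000000000000000000000000000000000000000000000
set_option linter.all false
open scoped Cfsg.Agent.FastGrp

-- part: H495/Cod/Nonab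
section
/-!
# Codegrees inside the codegrees of an alternating group (helper495, S4941): `M` is central

* `nonab_false` : `M` is abelian
* `noncentral_false` : `M` is central
-/

set_option autoImplicit false
set_option linter.unusedSectionVars false

universe u v

namespace Cfsg.Agent.H495.Cod

open Cfsg Cfsg.Agent.Characters.Core Cfsg.Agent.H686.CharKit Subgroup

variable {n : ℕ} {G : Type u} [Group G] [Finite G]

theorem not_two_pow {n k : ℕ} (hn : n ≠ 0) (hk : n ≤ k) : ¬ 2 ^ k ∣ n.factorial := by
  intro h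
  have h1 := Nat.emultiplicity_two_factorial_lt hn
  have h2 := le_emultiplicity_of_pow_dvd h
  have h3 := lt_of_le_of_lt h2 h1
  have h4 : k < n := by exact_mod_cast h3
  omega

theorem nonab_false (hn : 5 ≤ n) (hp : commutator G = ⊤)
    (hSch : ∀ (K : Type u) [Group K] [Finite K] [IsSimpleGroup K], ¬ IsMulCommutative K → Cfsg.Agent.Schreier.Basic.Sch K)
    (hev : ∀ (K : Type u) [Group K] [Finite K] [IsSimpleGroup K], ¬ IsMulCommutative K → 2 ∣ Nat.card K)
    (M : Subgroup G) [hM : M.Normal] (e : G ⧸ M ≃* alternatingGroup (Fin n))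
    (hmin : ∀ L : Subgroup G, L.Normal → L ≤ M → L = ⊥ ∨ L = M)
    (hu : ∀ K : Subgroup G, K.Normal → K ≠ ⊥ → M ≤ K) (hsq : Nat.card M ^ 2 ∣ aN n)
    (hna : ¬ ∀ x ∈ M, ∀ y ∈ M, Commute x y) : False := by
  classical
  obtain ⟨m, T, φ, hc⟩ := H794.SocleCount.exists_coord M hmin hna
  have hex := hc.exists_perm
  choose s hs using hex
  have hmul : ∀ a b, s (a * b) = s a * s b := by
    intro a b
    ext1 i
    apply hc.inj
    rw [Equiv.Perm.mul_apply, hs, hs, hs, Subgroup.map_map]
    congr 1
    ext x
    simp only [map_mul, MulEquiv.toMonoidHom_eq_coe, MonoidHom.coe_coe, MulAut.mul_apply, MulAut.conj_apply, mul_assoc,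
        MonoidHom.coe_comp, Function.comp_apply]
  let f : G →* Equiv.Perm (Fin m) := MonoidHom.mk' s hmul
  have hfs : ∀ g, f g = s g := fun g => rfl
  have hMf : M ≤ f.ker := by
    intro x hx
    rw [MonoidHom.mem_ker, hfs]
    ext1 i
    have := hc.simple i
    obtain ⟨t, ht⟩ := exists_ne (1 : T i)
    have h1 : x * (t : G) * x⁻¹ ∈ T (s x i) := by
      rw [hs]
      exact ⟨t, t.2, rfl⟩
    have h2 : x * (t : G) * x⁻¹ ∈ T i := by
      have h3 : φ.symm (Pi.mulSingle i ((φ ⟨x, hx⟩) i * t * ((φ ⟨x, hx⟩) i)⁻¹)) =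
          ⟨x, hx⟩ * φ.symm (Pi.mulSingle i t) * ⟨x, hx⟩⁻¹ := by
        apply φ.injective
        rw [map_mul, map_mul, map_inv, MulEquiv.apply_symm_apply, MulEquiv.apply_symm_apply]
        funext j
        by_cases hj : j = i
        · subst hj
          simp
        · simp [Pi.mulSingle_eq_of_ne hj]
      have h4 := congrArg (Subtype.val) h3
      rw [hc.single] at h4
      have h5 : ((⟨x, hx⟩ * φ.symm (Pi.mulSingle i t) * ⟨x, hx⟩⁻¹ : M) : G) = x * (t : G) * x⁻¹ := by
        rw [Subgroup.coe_mul, Subgroup.coe_mul, hc.single]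
        rfl
      rw [h5] at h4
      rw [← h4]
      exact SetLike.coe_mem _
    refine (hc.disj h2 h1 ?_).symm
    intro h3
    apply ht
    apply Subtype.ext
    rw [mul_inv_eq_one] at h3
    exact mul_left_cancel (h3.trans (mul_one x).symm)
  have hnt : Nontrivial (alternatingGroup (Fin n)) := by
    have := simple_alt hn
    infer_instance
  have hMne : M ≠ ⊤ := by
    intro h
    have h1 : Subsingleton (G ⧸ M) := by rw [h]; exact QuotientGroup.subsingleton_quotient_top
    exact (not_subsingleton_iff_nontrivial.2 e.toEquiv.nontrivial) h1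
  by_cases hk : f.ker ≤ M
  · -- `G / M` acts faithfully on the components
    have hk' : f.ker = M := le_antisymm hk hMf
    have h1 : aN n ≤ m.factorial := by
      have h2 : Nat.card (G ⧸ f.ker) ≤ Nat.card (Equiv.Perm (Fin m)) :=
        Nat.card_le_card_of_injective _ (QuotientGroup.kerLift_injective f)
      rw [Nat.card_perm, Nat.card_fin] at h2
      have h3 : Nat.card (G ⧸ f.ker) = aN n := by
        rw [← Subgroup.index_eq_card, hk', Subgroup.index_eq_card, Nat.card_congr e.toEquiv]
        rfl
      rwa [h3] at h2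
    have hmn : n ≤ m := by
      by_contra hne
      have h2 : m.factorial ≤ (n - 1).factorial := Nat.factorial_le (by omega)
      have h3 : n.factorial = n * (n - 1).factorial := (Nat.mul_factorial_pred (by omega)).symm
      have h4 := two_mul_aN (n := n) (by omega)
      have h5 := Nat.factorial_pos (n - 1)
      have h6 : 5 * (n - 1).factorial ≤ n * (n - 1).factorial := Nat.mul_le_mul_right _ hn
      omega
    have h2 : 2 ^ m ∣ Nat.card M := by
      rw [Nat.card_congr φ.toEquiv, Nat.card_pi]
      have h3 : ∏ _i : Fin m, 2 = 2 ^ m := by simp only [Finset.prod_const, Finset.card_univ, Fintype.card_fin]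
      rw [← h3]
      apply Finset.prod_dvd_prod_of_dvd
      intro i _
      have := hc.simple i
      apply hev
      intro hcm
      obtain ⟨a, b, hab⟩ := hc.nc i
      exact hab (hcm.is_comm.comm a b)
    have h3 : 2 ^ (m * 2) ∣ n.factorial := by
      rw [← two_mul_aN (by omega), pow_mul]
      exact ((pow_dvd_pow_of_dvd h2 2).trans hsq).trans (Dvd.intro_left 2 rfl)
    exact not_two_pow (by omega) (by omega) h3
  · -- one component
    have hk' : f.ker = ⊤ := by
      have h1 := sup_eq_top hn M e f.ker hk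
      rwa [sup_eq_left.2 hMf] at h1
    have hij : ∀ i j : Fin m, i = j := by
      intro i j
      obtain ⟨g, hg⟩ := hc.trans i j
      have h1 : g ∈ f.ker := by rw [hk']; exact mem_top g
      rw [MonoidHom.mem_ker, hfs] at h1
      have h2 := hs g i
      rw [h1, ← hg] at h2
      exact hc.inj h2
    have h0 : Fin m := ⟨0, hc.pos⟩
    have huq : Unique (Fin m) := ⟨⟨h0⟩, fun i => hij i _⟩
    let i0 : Fin m := default
    have hsimT := hc.simple i0
    let E : M ≃* T i0 := φ.trans (MulEquiv.piUnique (fun i => T i))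
    have hsM : IsSimpleGroup M := E.isSimpleGroup
    have hcM : ¬ IsMulCommutative M := by
      intro hcm
      apply hna
      intro x hx y hy
      exact congrArg Subtype.val (hcm.is_comm.comm (⟨x, hx⟩ : M) ⟨y, hy⟩)
    have hC : centralizer (M : Set G) = ⊥ := by
      by_contra hne
      have h1 := hu _ inferInstance hne
      apply hna
      intro x hx y hy
      exact (mem_centralizer_iff.1 (h1 hy) x hx)
    exact hMne (H310.PerfTools.eq_top_of_schreier hp M hC (hSch M hcM))

/-- the action on an abelian normal subgroup -/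
def act (M : Subgroup G) [M.Normal] (hab : ∀ x ∈ M, ∀ y ∈ M, Commute x y) :
    letI : CommGroup M := { (inferInstance : Group M) with mul_comm := fun a b => Subtype.ext (hab a a.2 b b.2) }
    G →* AddMonoid.End (Additive M) :=
  letI : CommGroup M := { (inferInstance : Group M) with mul_comm := fun a b => Subtype.ext (hab a a.2 b b.2) }
  { toFun := fun g => (MulAut.conjNormal g : MulAut M).toMonoidHom.toAdditive
    map_one' := by
      ext x
      simp only [map_one, MulEquiv.toMonoidHom_eq_coe, AddMonoid.End.coe_one, id_eq, SetLike.coe_eq_coe,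
          EmbeddingLike.apply_eq_iff_eq]
      rfl
    map_mul' := fun a b => by
      ext x
      simp
      rfl }

theorem act_apply (M : Subgroup G) [M.Normal] (hab : ∀ x ∈ M, ∀ y ∈ M, Commute x y) (g : G) (x : M) :
    ((Additive.toMul (act M hab g (Additive.ofMul x)) : M) : G) = g * x * g⁻¹ := rfl

theorem noncentral_false (hn : 5 ≤ n) (M : Subgroup G) [hM : M.Normal] (e : G ⧸ M ≃* alternatingGroup (Fin n)) (hM1 : M ≠ ⊥)
    (hmin : ∀ L : Subgroup G, L.Normal → L ≤ M → L = ⊥ ∨ L = M) (hsq : Nat.card M ^ 2 ∣ aN n)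
    (hab : ∀ x ∈ M, ∀ y ∈ M, Commute x y) (hnc : ¬ M ≤ center G) : False := by
  classical
  have hC : centralizer (M : Set G) ≤ M := by
    by_contra hne
    have h1 := sup_eq_top hn M e _ hne
    have h2 : M ≤ centralizer (M : Set G) := by
      intro x hx
      rw [mem_centralizer_iff]
      intro y hy
      exact hab y hy x hx
    rw [sup_eq_left.2 h2] at h1
    apply hnc
    intro x hx
    rw [Subgroup.mem_center_iff]
    intro g
    have h3 : g ∈ centralizer (M : Set G) := by rw [h1]; exact mem_top g
    exact (mem_centralizer_iff.1 h3 x hx).symm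
  obtain ⟨q, hq, -, hqM⟩ := Lib.MinNormalNonabelian.abelian_structure M hM1 hmin hab
  have := Fact.mk hq
  letI : CommGroup M := { (inferInstance : Group M) with mul_comm := fun a b => Subtype.ext (hab a a.2 b b.2) }
  obtain ⟨m, θ, hm, hθ⟩ := H189.FeitTits.exists_mod (E := Additive M) q (fun a => by
    have h1 := hqM (Additive.toMul a : M) (Additive.toMul a : M).2
    apply Additive.toMul.injective
    apply Subtype.ext
    simpa only [toMul_nsmul, SubmonoidClass.coe_pow, toMul_zero, OneMemClass.coe_one] using h1) (act M hab)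
  have hmM : q ^ m = Nat.card M := hm
  have hker : ∀ g, θ g = 1 → g ∈ M := by
    intro g hg
    apply hC
    rw [mem_centralizer_iff]
    intro x hx
    have h1 := hθ g hg (Additive.ofMul ⟨x, hx⟩)
    have h2 : ((Additive.toMul (act M hab g (Additive.ofMul ⟨x, hx⟩)) : M) : G) = x := by rw [h1]; rfl
    rw [act_apply] at h2
    exact (mul_inv_eq_iff_eq_mul.1 h2).symm
  by_cases h9 : 9 ≤ n
  · let ρ : G →* Module.End (ZMod q) (Fin m → ZMod q) :=
      (Matrix.toLinAlgEquiv' : Matrix (Fin m) (Fin m) (ZMod q) ≃ₐ[ZMod q] _).toAlgHom.toRingHom.toMonoidHom.comp θ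
    have h1 := H189.FeitTits.feit_tits q h9 (e.toMonoidHom.comp (QuotientGroup.mk' M))
      (e.surjective.comp (QuotientGroup.mk'_surjective M)) ρ (by
        intro g hg
        have h2 : θ g = 1 := by
          apply (Matrix.toLinAlgEquiv' : Matrix (Fin m) (Fin m) (ZMod q) ≃ₐ[ZMod q] _).injective
          rw [map_one]
          exact hg
        have h3 := hker g h2
        show e (QuotientGroup.mk' M g) = 1
        rw [QuotientGroup.mk'_apply, (QuotientGroup.eq_one_iff g).2 h3, map_one])
    rw [Module.finrank_fin_fun] at h1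
    have h2 : n - 2 ≤ m := le_trans (by split_ifs <;> omega) h1
    have h3 : q ^ (m * 2) ∣ n.factorial := by
      rw [← two_mul_aN (by omega), pow_mul, hmM]
      exact hsq.trans (Dvd.intro_left 2 rfl)
    have h4 : q ^ n ∣ n.factorial := (pow_dvd_pow q (by omega)).trans h3
    have h5 := Nat.emultiplicity_two_factorial_lt (n := n) (by omega)
    have h6 := sub_one_mul_padicValNat_factorial (p := q) n
    have h7 : n ≤ padicValNat q n.factorial := by
      rw [padicValNat_dvd_iff_le (Nat.factorial_pos n).ne'] at h4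
      exact h4
    have h8 : 1 * padicValNat q n.factorial ≤ (q - 1) * padicValNat q n.factorial :=
      Nat.mul_le_mul_right _ (by have := hq.two_le; omega)
    rw [h6] at h8
    have h10 : 0 < (q.digits n).sum := by
      apply Nat.pos_of_ne_zero
      intro h0
      have h12 : n = 0 := by
        have h13 : ∀ a ∈ q.digits n, a = 0 := fun a ha => List.sum_eq_zero_iff.1 h0 a ha
        have h14 := Nat.ofDigits_digits q n
        rw [← h14]
        have h15 : q.digits n = [] := by
          by_contra hne
          have h16 := Nat.getLast_digit_ne_zero q (m := n) (by omega)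
          exact h16 (h13 _ (List.getLast_mem _))
        rw [h15]
        rfl
      omega
    omega
  · -- small degrees
    have hsmall : aN n ≤ (Nat.card M - 1).factorial := by
      let X := {x : M // x ≠ 1}
      have hfin : Finite X := inferInstance
      let α : G →* Equiv.Perm X :=
        { toFun := fun g =>
            { toFun := fun x => ⟨MulAut.conjNormal g x.1, fun h => x.2 (by
                have := (MulAut.conjNormal g : MulAut M).injective (h.trans (map_one _).symm)
                exact this)⟩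
              invFun := fun x => ⟨MulAut.conjNormal g⁻¹ x.1, fun h => x.2 (by
                have := (MulAut.conjNormal g⁻¹ : MulAut M).injective (h.trans (map_one _).symm)
                exact this)⟩
              left_inv := fun x => by
                apply Subtype.ext
                apply Subtype.ext
                simp only [map_inv, ne_eq, MulAut.inv_apply, MulEquiv.symm_apply_apply]
              right_inv := fun x => by
                apply Subtype.ext
                apply Subtype.ext
                simp only [map_inv, ne_eq, MulAut.inv_apply, MulEquiv.apply_symm_apply] }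
          map_one' := by
            ext x
            simp only [ne_eq, map_one, MulAut.one_apply, Subtype.coe_eta, inv_one, Equiv.coe_fn_mk, Equiv.Perm.coe_one, id_eq]
          map_mul' := fun a b => by
            ext x
            simp only [ne_eq, map_mul, MulAut.mul_apply, mul_inv_rev, map_inv, MulAut.inv_apply, Equiv.coe_fn_mk,
                MulAut.conjNormal_apply, mul_assoc, Equiv.Perm.coe_mul, Function.comp_apply] }
      have hα : ∀ g (x : X), (((α g x).1 : M) : G) = g * (x.1 : G) * g⁻¹ := fun g x => rfl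
      have hk : α.ker ≤ M := by
        intro g hg
        apply hC
        rw [mem_centralizer_iff]
        intro x hx
        by_cases hx1 : x = 1
        · subst hx1; simp
        · rw [MonoidHom.mem_ker] at hg
          have h1 := hα g ⟨⟨x, hx⟩, fun h => hx1 (congrArg Subtype.val h)⟩
          rw [hg] at h1
          have h2 : x = g * x * g⁻¹ := h1
          exact eq_mul_inv_iff_mul_eq.1 h2
      have h1 : Nat.card (G ⧸ α.ker) ≤ Nat.card (Equiv.Perm X) :=
        Nat.card_le_card_of_injective _ (QuotientGroup.kerLift_injective α)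
      rw [Nat.card_perm] at h1
      have h2 : Nat.card X = Nat.card M - 1 := by
        have := Fintype.ofFinite M
        rw [Nat.card_eq_fintype_card, Nat.card_eq_fintype_card]
        have h3 := Fintype.card_subtype_compl (fun x : M => x = 1)
        rw [Fintype.card_subtype_eq] at h3
        rw [← h3]
      rw [h2] at h1
      refine le_trans ?_ h1
      have h3 : Nat.card (G ⧸ M) = aN n := Nat.card_congr e.toEquiv
      rw [← h3, ← Subgroup.index_eq_card, ← Subgroup.index_eq_card]
      exact Nat.le_of_dvd (Nat.pos_of_ne_zero α.ker.index_ne_zero_of_finite) (Subgroup.index_dvd_of_le hk)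
    have h2 := two_mul_aN (n := n) (by omega)
    have hpp : IsPrimePow (Nat.card M) ∨ Nat.card M = 1 := by
      rw [← hmM]
      rcases Nat.eq_zero_or_pos m with h0 | h0
      · right; rw [h0, pow_zero]
      · left; exact hq.isPrimePow.pow h0.ne'
    have hc8 : Nat.card M ≤ 8 ∧ (n ≤ 7 → Nat.card M ≤ 6) ∧ (n = 5 → Nat.card M ≤ 2) := by
      generalize Nat.card M = c at hsq hpp hsmall
      have hle : c ^ 2 ≤ aN n := Nat.le_of_dvd (aN_pos n) hsq
      have hn4 : n = 5 ∨ n = 6 ∨ n = 7 ∨ n = 8 := by omega
      rcases hn4 with rfl | rfl | rfl | rfl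
      · have h3 : aN 5 = 60 := by have : Nat.factorial 5 = 120 := rfl; omega
        rw [h3] at hsq hle
        have h4 : c ≤ 7 := by nlinarith only [hle]
        refine ⟨by omega, fun _ => ?_, fun _ => ?_⟩ <;> interval_cases c <;> revert hsq <;> decide
      · have h3 : aN 6 = 360 := by have : Nat.factorial 6 = 720 := rfl; omega
        rw [h3] at hsq hle
        have h4 : c ≤ 18 := by nlinarith only [hle]
        refine ⟨?_, fun _ => ?_, fun h => by omega⟩ <;> interval_cases c <;> revert hsq <;> decide +kernel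
      · have h3 : aN 7 = 2520 := by have : Nat.factorial 7 = 5040 := rfl; (clear * - h2 this; omega)
        rw [h3] at hsq hle
        have h4 : c ≤ 50 := by nlinarith only [hle]
        refine ⟨?_, fun _ => ?_, fun h => by omega⟩ <;> interval_cases c <;> revert hsq <;> decide +kernel
      · have h3 : aN 8 = 20160 := by have : Nat.factorial 8 = 40320 := rfl; omega
        rw [h3] at hsq hle
        have h4 : c ≤ 141 := by nlinarith only [hle]
        refine ⟨?_, fun h => by omega, fun h => by omega⟩
        have h5 : ∀ c ≤ 141, c ^ 2 ∣ 20160 → c ≤ 8 ∨ c = 12 ∨ c = 24 := by decide +kernel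
        rcases h5 c h4 hsq with h6 | h6 | h6
        · exact h6
        · subst h6
          rcases hpp with h7 | h7
          · exfalso
            rw [isPrimePow_nat_iff_bounded] at h7
            revert h7
            decide
          · omega
        · subst h6
          rcases hpp with h7 | h7
          · exfalso
            rw [isPrimePow_nat_iff_bounded] at h7
            revert h7
            decide +kernel
          · omega
    have hn4 : n = 5 ∨ n = 6 ∨ n = 7 ∨ n = 8 := by omega
    have hf : ∀ a b : ℕ, a ≤ b → a.factorial ≤ b.factorial := fun a b h => Nat.factorial_le h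
    rcases hn4 with rfl | rfl | rfl | rfl
    · have h3 : Nat.factorial 5 = 120 := rfl
      have h4 := hf (Nat.card M - 1) 1 (by omega)
      have h5 : Nat.factorial 1 = 1 := rfl
      omega
    · have h3 : Nat.factorial 6 = 720 := rfl
      have h4 := hf (Nat.card M - 1) 5 (by omega)
      have h5 : Nat.factorial 5 = 120 := rfl
      omega
    · have h3 : Nat.factorial 7 = 5040 := rfl
      have h4 := hf (Nat.card M - 1) 5 (by omega)
      have h5 : Nat.factorial 5 = 120 := rfl
      omega
    · have h3 : Nat.factorial 8 = 40320 := rfl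
      have h4 := hf (Nat.card M - 1) 7 (by omega)
      have h5 : Nat.factorial 7 = 5040 := rfl
      omega

end Cfsg.Agent.H495.Cod
end

-- part: H495/Cod/Two
section
/-!
# Codegrees inside the codegrees of an alternating group (helper495, S4941): `|M| ≠ 2`
-/

set_option autoImplicit false
set_option linter.unusedSectionVars false

universe u v

namespace Cfsg.Agent.H495.Cod

open Cfsg Cfsg.Agent.Characters.Core Cfsg.Agent.H686.CharKit Subgroup
open Cfsg.Agent.SporadicRecognition.AltCover (IsCover)
open Cfsg.Agent.H704 (IsDeg)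

theorem adeg_nine {d : ℕ} (h : ADeg 9 d) : 8 ≤ d := by
  obtain ⟨⟨θ, m, ρ, hirr, hρ⟩, hne, hd⟩ := h
  have hd' : charDegree θ = d := hd
  have hm : (m : ℂ) = θ 1 := by
    rw [← hρ]
    simp only [Representation.character, map_one, LinearMap.trace_one, Module.finrank_fintype_fun_eq_card, Fintype.card_fin]
  have hdm : d = m := by
    rw [← hd', charDegree, ← hm]
    simp
  have hsim := simple_alt (n := 9) (by norm_num)
  have hc := card_ker_simple ⟨θ, m, ρ, hirr, hρ⟩ hne
  have := H189.FeitTits.feit_tits (k := ℂ) 0 (r := 9) le_rfl (MonoidHom.id _) Function.surjective_id ρ (by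
    intro g hg
    have h1 : θ g = θ 1 := by
      rw [← hρ]
      simp only [Representation.character, hg, map_one]
    have h2 : Subsingleton {g : ↥(alternatingGroup (Fin 9)) // θ g = θ 1} := (Nat.card_eq_one_iff_unique.1 hc).1
    exact congrArg Subtype.val (h2.elim ⟨g, h1⟩ ⟨1, rfl⟩))
  rw [Module.finrank_fin_fun] at this
  simp only [Nat.add_one_sub_one, zero_dvd_iff, OfNat.ofNat_ne_zero, ↓reduceIte, tsub_zero] at this
  omega

variable {n : ℕ} {G : Type u} [Group G] [Finite G]

/-- the cover -/
theorem isCover (hn : 5 ≤ n) (M : Subgroup G) [hM : M.Normal] (e : G ⧸ M ≃* alternatingGroup (Fin n))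
    (hu : ∀ K : Subgroup G, K.Normal → K ≠ ⊥ → M ≤ K) (hMc : M ≤ center G) (hcard : Nat.card M = 2) {z : G}
    (hz : z ∈ M) (hz1 : z ≠ 1) : IsCover (e.toMonoidHom.comp (QuotientGroup.mk' M)) z := by
  have hmem : ∀ x ∈ M, x = 1 ∨ x = z := by
    intro x hx
    have h1 := (Nat.card_eq_two_iff' (⟨1, one_mem M⟩ : M)).1 hcard
    by_cases hx1 : x = 1
    · exact Or.inl hx1
    · right
      have h2 := h1.unique (y₁ := (⟨x, hx⟩ : M)) (y₂ := ⟨z, hz⟩) (fun h => hx1 (congrArg Subtype.val h))
        (fun h => hz1 (congrArg Subtype.val h))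
      exact congrArg Subtype.val h2
  have hker : ∀ x, e.toMonoidHom.comp (QuotientGroup.mk' M) x = 1 ↔ x ∈ M := by
    intro x
    rw [MonoidHom.comp_apply, QuotientGroup.mk'_apply]
    constructor
    · intro h
      rw [← QuotientGroup.eq_one_iff]
      apply e.injective
      rw [map_one]
      exact h
    · intro h
      rw [(QuotientGroup.eq_one_iff x).2 h, map_one]
  refine ⟨hz1, ?_, ?_, e.surjective.comp (QuotientGroup.mk'_surjective M), ?_, ?_⟩
  · rcases hmem (z * z) (mul_mem hz hz) with h | h
    · exact h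
    · exfalso
      exact hz1 (mul_left_cancel (h.trans (mul_one z).symm))
  · exact fun x => mem_center_iff.1 (hMc hz) x
  · intro x
    rw [hker]
    constructor
    · exact hmem x
    · rintro (rfl | rfl)
      · exact one_mem M
      · exact hz
  · intro s hs
    have hnt : Nontrivial (alternatingGroup (Fin n)) := by
      have := simple_alt hn
      infer_instance
    have hinj : Function.Injective s := fun a b hab => by rw [← hs a, ← hs b, hab]
    have hnorm : s.range.Normal := by
      constructor
      rintro _ ⟨a, rfl⟩ g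
      set c := e.toMonoidHom.comp (QuotientGroup.mk' M) g with hc
      have h1 : g * (s c)⁻¹ ∈ M := by
        rw [← hker, map_mul, map_inv, hs, mul_inv_cancel]
      have h2 : g = (g * (s c)⁻¹) * s c := by group
      have h3 := mem_center_iff.1 (hMc h1) (s c * s a * (s c)⁻¹)
      refine ⟨c * a * c⁻¹, ?_⟩
      rw [map_mul, map_mul, map_inv]
      calc s c * s a * (s c)⁻¹ = (s c * s a * (s c)⁻¹) * (g * (s c)⁻¹) * (g * (s c)⁻¹)⁻¹ := by group
        _ = (g * (s c)⁻¹) * (s c * s a * (s c)⁻¹) * (g * (s c)⁻¹)⁻¹ := by rw [h3]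
        _ = g * s a * g⁻¹ := by group
    have hne : s.range ≠ ⊥ := by
      intro h
      obtain ⟨a, ha⟩ := exists_ne (1 : alternatingGroup (Fin n))
      have h1 : s a ∈ s.range := ⟨a, rfl⟩
      rw [h, mem_bot] at h1
      exact ha (hinj (h1.trans (map_one s).symm))
    obtain ⟨a, ha⟩ := hu _ hnorm hne hz
    have h1 := hs a
    rw [ha, (hker z).2 hz] at h1
    rw [← h1, map_one] at ha
    exact hz1 ha.symm

theorem central_two (hn : 5 ≤ n) (M : Subgroup G) [hM : M.Normal] (e : G ⧸ M ≃* alternatingGroup (Fin n))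
    (hu : ∀ K : Subgroup G, K.Normal → K ≠ ⊥ → M ≤ K) (hMc : M ≤ center G) (hcard : Nat.card M = 2)
    (hab : ∀ χ : IrrCharacter G, ¬ M ≤ chKer χ → ∃ d : ℕ, ADeg n d ∧ charDegree (χ : G → ℂ) = Nat.card M * d) :
    False := by
  obtain ⟨z, hz, hz1⟩ : ∃ z ∈ M, z ≠ 1 := by
    have h1 : M ≠ ⊥ := by
      rintro rfl
      rw [Subgroup.card_bot] at hcard
      omega
    exact (Subgroup.ne_bot_iff_exists_ne_one.1 h1).elim fun a ha => ⟨a, a.2, fun h => ha (Subtype.ext h)⟩
  obtain ⟨χ, hχ, hχz, hχ1⟩ := H107.Spin.exists_basic_spin hn (isCover hn M e hu hMc hcard hz hz1)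
  have hpos : χ 1 ≠ 0 := by
    rw [hχ1]
    exact_mod_cast pow_ne_zero _ two_ne_zero
  obtain ⟨d, hd, hcd⟩ := hab ⟨χ, hχ⟩ (by
    intro h
    have h1 : χ z = χ 1 := h hz
    rw [hχz] at h1
    exact hpos (self_eq_neg.1 h1.symm))
  have hdeg : 2 ^ ((n - 2) / 2) = 2 * d := by
    have h1 : charDegree χ = Nat.card M * d := hcd
    rw [hcard] at h1
    rw [← h1, charDegree, hχ1, Complex.natCast_re, Nat.floor_natCast]
  obtain ⟨h1, h2, h3, h4⟩ := hd.facts hn
  obtain ⟨m, hm⟩ : ∃ m, (n - 2) / 2 = m + 1 := ⟨(n - 2) / 2 - 1, by omega⟩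
  rw [hm, pow_succ] at hdeg
  have hdm : d = 2 ^ m := by omega
  by_cases h10 : 10 ≤ n
  · have h5 : ∃ j, (j = m ∨ j = m + 1) ∧ IsDeg n (2 ^ j) := by
      rcases h4 with h4 | h4
      · exact ⟨m, Or.inl rfl, by rwa [hdm] at h4⟩
      · refine ⟨m + 1, Or.inr rfl, ?_⟩
        rw [hdm] at h4
        rwa [pow_succ, mul_comm]
    obtain ⟨j, hj, hj'⟩ := h5
    have hm3 : 3 ≤ m := by omega
    rcases H704.pp_theorem h10 hj' Nat.prime_two (by omega) (Or.inl rfl) with h6 | ⟨-, h6⟩
    · have h7 : 2 ^ j = 2 * m + 3 ∨ 2 ^ j = 2 * m + 4 := by omega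
      have h8 : ∃ i, j = 1 + i := ⟨j - 1, by omega⟩
      obtain ⟨i, rfl⟩ := h8
      rw [pow_add, pow_one] at h7
      have h9 : 2 ^ i = m + 2 := by omega
      rcases hj with hj | hj
      · have h11 : m = i + 1 := by omega
        subst h11
        have h12 : i ≠ 0 := by omega
        have h13 : i ≠ 1 := by omega
        have h14 : i ≠ 2 := by rintro rfl; omega
        have h16 : ∀ i, 3 ≤ i → i + 3 < 2 ^ i := by
          intro i hi
          induction i, hi using Nat.le_induction with
          | base => norm_num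
          | succ i hi ih => rw [pow_succ]; (clear * - hχ hi ih; omega)
        have := h16 i (by omega)
        omega
      · have h11 : m = i := by omega
        subst h11
        have h16 : ∀ i, 3 ≤ i → i + 2 < 2 ^ i := by
          intro i hi
          induction i, hi using Nat.le_induction with
          | base => norm_num
          | succ i hi ih => rw [pow_succ]; omega
        have := h16 m hm3
        omega
    · have h7 : 3 ∣ 2 ^ j := by rw [h6]; norm_num
      have h8 := (Nat.prime_three.dvd_of_dvd_pow h7)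
      omega
  · have h5 : n = 5 ∨ n = 6 ∨ n = 7 ∨ n = 8 ∨ n = 9 := by omega
    rcases h5 with rfl | rfl | rfl | rfl | rfl
    · have : m = 0 := by omega
      subst this
      omega
    · have : m = 1 := by omega
      subst this
      subst hdm
      rcases h4 with h4 | h4 <;> have := H704.deg6 h4 <;> revert this <;> decide
    · have : m = 1 := by omega
      subst this
      subst hdm
      rcases h4 with h4 | h4 <;> have := H704.deg7 h4 <;> revert this <;> decide
    · have : m = 2 := by omega
      subst this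
      subst hdm
      rcases h4 with h4 | h4 <;> have := H704.deg8 h4 <;> revert this <;> decide
    · have : m = 2 := by omega
      subst this
      have := adeg_nine hd
      omega

end Cfsg.Agent.H495.Cod
end

-- part: H495/Cod/Reduce
section
/-!
# Codegrees inside the codegrees of an alternating group (helper495, S4941): reduction to simple groups

* `minimal_false` : `G` with minimal normal subgroup `M` and `G / M = A_n` does not exist
* `reduce` : if every simple group with the codegrees of `A_n` is `A_n`, then every nontrivial one is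
-/

set_option autoImplicit false
set_option linter.unusedSectionVars false

universe u v

namespace Cfsg.Agent.H495.Cod

open Cfsg Cfsg.Agent.Characters.Core Cfsg.Agent.H686.CharKit Subgroup
open Cfsg.Agent.H704 (IsDeg)

variable {n : ℕ} {G : Type u} [Group G] [Finite G]

/-- `M` central -/
theorem central_false (hn : 5 ≤ n) (hp : commutator G = ⊤) (M : Subgroup G) [hM : M.Normal]
    (e : G ⧸ M ≃* alternatingGroup (Fin n)) (hM1 : M ≠ ⊥)
    (hmin : ∀ L : Subgroup G, L.Normal → L ≤ M → L = ⊥ ∨ L = M)
    (hu : ∀ K : Subgroup G, K.Normal → K ≠ ⊥ → M ≤ K) (hsq : Nat.card M ^ 2 ∣ aN n) (hMc : M ≤ center G)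
    (hab : ∀ χ : IrrCharacter G, ¬ M ≤ chKer χ → ∃ d : ℕ, ADeg n d ∧ charDegree (χ : G → ℂ) = Nat.card M * d)
    (h3 : n = 6 ∨ n = 7 → Nat.card M ≠ 3) : False := by
  have hcen : ∀ L : Subgroup G, L ≤ M → L.Normal := by
    intro L hL
    constructor
    intro x hx g
    have h1 := mem_center_iff.1 (hMc (hL hx)) g
    rw [h1]
    simpa using hx
  -- `M` has prime order
  have hprime : (Nat.card M).Prime := by
    have h1 : 1 < Nat.card M := by
      rw [Subgroup.one_lt_card_iff_ne_bot]
      exact hM1
    obtain ⟨q, hq, hqd⟩ := Nat.exists_prime_and_dvd h1.ne'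
    have := Fact.mk hq
    obtain ⟨x, hx⟩ := exists_prime_orderOf_dvd_card' (G := M) q hqd
    have h2 : zpowers (x : G) ≤ M := by
      rw [zpowers_le]
      exact x.2
    rcases hmin _ (hcen _ h2) h2 with h4 | h4
    · exfalso
      rw [zpowers_eq_bot] at h4
      have h5 : x = 1 := Subtype.ext h4
      rw [h5, orderOf_one] at hx
      exact hq.one_lt.ne hx
    · have h5 : Nat.card M = q := by
        rw [← h4, Nat.card_zpowers, ← hx]
        exact orderOf_coe x
      rw [h5]
      exact hq
  by_cases h67 : n = 6 ∨ n = 7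
  · have h4 : Nat.card M = 2 ∨ Nat.card M = 3 := by
      generalize Nat.card M = c at hsq hprime
      have h1 := two_mul_aN (n := n) (by omega)
      rcases h67 with rfl | rfl
      · have h2 : Nat.factorial 6 = 720 := rfl
        have h5 : aN 6 = 360 := by omega
        rw [h5] at hsq
        have h6 : c ≤ 18 := by
          have := Nat.le_of_dvd (by norm_num) hsq
          nlinarith only [this]
        interval_cases c <;> revert hsq hprime <;> decide +kernel
      · have h2 : Nat.factorial 7 = 5040 := rfl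
        have h5 : aN 7 = 2520 := by omega
        rw [h5] at hsq
        have h6 : c ≤ 50 := by
          have := Nat.le_of_dvd (by norm_num) hsq
          nlinarith only [this]
        interval_cases c <;> revert hsq hprime <;> decide +kernel
    rcases h4 with h4 | h4
    · exact central_two hn M e hu hMc h4 hab
    · exact h3 h67 h4
  · push Not at h67
    have h4 := S0892.result n (by omega) h67.1 h67.2 M hMc (by rw [hp]; exact le_top) e
    exact central_two hn M e hu hMc (le_antisymm h4 hprime.two_le) hab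

theorem minimal_false (hn : 5 ≤ n) (h : CodOK n G) (hp : commutator G = ⊤)
    (hS : ∀ (S : Type u) [Group S] [Finite S] [IsSimpleGroup S], ¬ (∀ a b : S, a * b = b * a) → CodOK n S →
      Nonempty (S ≃* alternatingGroup (Fin n)))
    (hSch : ∀ (K : Type u) [Group K] [Finite K] [IsSimpleGroup K], ¬ IsMulCommutative K → Cfsg.Agent.Schreier.Basic.Sch K)
    (hev : ∀ (K : Type u) [Group K] [Finite K] [IsSimpleGroup K], ¬ IsMulCommutative K → 2 ∣ Nat.card K)
    (h3 : ∀ {n : ℕ}, n = 6 ∨ n = 7 → ∀ {G : Type u} [Group G] [Finite G] (M : Subgroup G) [M.Normal]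
      (_ : G ⧸ M ≃* alternatingGroup (Fin n)), M ≤ center G → Nat.card M = 3 →
      (∀ χ : IrrCharacter G, ¬ M ≤ chKer χ → ∃ d : ℕ, ADeg n d ∧ charDegree (χ : G → ℂ) = Nat.card M * d) → False)
    (M : Subgroup G) [hM : M.Normal] (e : G ⧸ M ≃* alternatingGroup (Fin n)) (hM1 : M ≠ ⊥)
    (hmin : ∀ L : Subgroup G, L.Normal → L ≤ M → L = ⊥ ∨ L = M) : False := by
  have hu : ∀ K : Subgroup G, K.Normal → K ≠ ⊥ → M ≤ K := fun K hK hK1 =>
    uniq hn h hp (fun S _ _ _ hSa hSc => by
      obtain ⟨f⟩ := hS S hSa hSc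
      exact Nat.card_congr f.toEquiv) M e hM1 hmin K hK hK1
  have hsq := sq_dvd h M e hu
  have hab := above h M e hu
  by_cases hcomm : ∀ x ∈ M, ∀ y ∈ M, Commute x y
  · by_cases hMc : M ≤ center G
    · exact central_false hn hp M e hM1 hmin hu hsq hMc hab fun h67 h4 => h3 h67 M e hMc h4 hab
    · exact noncentral_false hn M e hM1 hmin hsq hcomm hMc
  · exact nonab_false hn hp hSch hev M e hmin hu hsq hcomm

theorem reduce (hn : 5 ≤ n) [Nontrivial G] (h : CodOK n G)
    (hS : ∀ (S : Type u) [Group S] [Finite S] [IsSimpleGroup S], ¬ (∀ a b : S, a * b = b * a) → CodOK n S →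
      Nonempty (S ≃* alternatingGroup (Fin n)))
    (hSch : ∀ (K : Type u) [Group K] [Finite K] [IsSimpleGroup K], ¬ IsMulCommutative K → Cfsg.Agent.Schreier.Basic.Sch K)
    (hev : ∀ (K : Type u) [Group K] [Finite K] [IsSimpleGroup K], ¬ IsMulCommutative K → 2 ∣ Nat.card K)
    (h3 : ∀ {n : ℕ}, n = 6 ∨ n = 7 → ∀ {G : Type u} [Group G] [Finite G] (M : Subgroup G) [M.Normal]
      (_ : G ⧸ M ≃* alternatingGroup (Fin n)), M ≤ center G → Nat.card M = 3 →
      (∀ χ : IrrCharacter G, ¬ M ≤ chKer χ → ∃ d : ℕ, ADeg n d ∧ charDegree (χ : G → ℂ) = Nat.card M * d) → False) :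
    Nonempty (G ≃* alternatingGroup (Fin n)) := by
  classical
  have hp := h.perfect hn
  -- a maximal normal subgroup
  obtain ⟨M0, hM0, hmax⟩ : ∃ M0 : Subgroup G, (M0.Normal ∧ M0 ≠ ⊤) ∧ ∀ L : Subgroup G, L.Normal → M0 ≤ L → L ≠ ⊤ → L = M0 := by
    obtain ⟨M0, h1⟩ := (Set.toFinite {L : Subgroup G | L.Normal ∧ L ≠ ⊤}).exists_maximal
      ⟨⊥, inferInstance, fun h => by
        have := (Subgroup.subsingleton_iff (G := G)).1 (subsingleton_of_bot_eq_top h)
        exact not_subsingleton G this⟩
    exact ⟨M0, h1.1, fun L hL hle hne => (h1.eq_of_le ⟨hL, hne⟩ hle).symm⟩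
  obtain ⟨hM0n, hM0t⟩ := hM0
  have hQs : IsSimpleGroup (G ⧸ M0) := by
    have hnt : Nontrivial (G ⧸ M0) := by
      rw [← not_subsingleton_iff_nontrivial]
      intro hs
      exact hM0t (QuotientGroup.subgroup_eq_top_of_subsingleton M0 hs)
    constructor
    intro L hL
    by_cases hc : L.comap (QuotientGroup.mk' M0) = ⊤
    · right
      rw [← Subgroup.map_comap_eq_self_of_surjective (QuotientGroup.mk'_surjective M0) L, hc, ← MonoidHom.range_eq_map,
        MonoidHom.range_eq_top.2 (QuotientGroup.mk'_surjective M0)]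
    · left
      have h1 := hmax _ (hL.comap _) (by
        intro x hx
        rw [mem_comap, QuotientGroup.mk'_apply, (QuotientGroup.eq_one_iff x).2 hx]
        exact one_mem L) hc
      rw [← Subgroup.map_comap_eq_self_of_surjective (QuotientGroup.mk'_surjective M0) L, h1,
        QuotientGroup.map_mk'_self]
  have hQc : CodOK n (G ⧸ M0) := h.of_surj _ (QuotientGroup.mk'_surjective M0)
  have hQn : ¬ ∀ a b : G ⧸ M0, a * b = b * a := by
    intro hc
    have h1 := perfect_quot (K := M0) hp
    have h2 : commutator (G ⧸ M0) = ⊥ := by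
      rw [eq_bot_iff, commutator_def, commutator_le]
      intro a _ b _
      rw [mem_bot, commutatorElement_eq_one_iff_mul_comm]
      exact hc a b
    rw [h2] at h1
    exact bot_ne_top h1
  obtain ⟨e0⟩ := hS _ hQn hQc
  by_cases hbot : M0 = ⊥
  · subst hbot
    exact ⟨QuotientGroup.quotientBot.symm.trans e0⟩
  · exfalso
    -- a chief factor `M0 / N`
    obtain ⟨N, hN, hmaxN⟩ : ∃ N : Subgroup G, (N.Normal ∧ N < M0) ∧ ∀ L : Subgroup G, L.Normal → N ≤ L → L < M0 → L = N := by
      obtain ⟨N, h1⟩ := (Set.toFinite {L : Subgroup G | L.Normal ∧ L < M0}).exists_maximal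
        ⟨⊥, inferInstance, bot_lt_iff_ne_bot.2 hbot⟩
      exact ⟨N, h1.1, fun L hL hle hne => (h1.eq_of_le ⟨hL, hne⟩ hle).symm⟩
    obtain ⟨hNn, hNlt⟩ := hN
    have hMn : (M0.map (QuotientGroup.mk' N)).Normal := hM0n.map _ (QuotientGroup.mk'_surjective N)
    let e1 : (G ⧸ N) ⧸ M0.map (QuotientGroup.mk' N) ≃* alternatingGroup (Fin n) :=
      (QuotientGroup.quotientQuotientEquivQuotient N M0 hNlt.le).trans e0
    refine minimal_false hn (h.of_surj _ (QuotientGroup.mk'_surjective N)) (perfect_quot (K := N) hp) hS hSch hev h3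
      (M0.map (QuotientGroup.mk' N)) e1 ?_ ?_
    · intro h1
      rw [Subgroup.map_eq_bot_iff, QuotientGroup.ker_mk'] at h1
      exact absurd h1 hNlt.not_ge
    · intro L hL hLM
      have hLc : L = (L.comap (QuotientGroup.mk' N)).map (QuotientGroup.mk' N) :=
        (Subgroup.map_comap_eq_self_of_surjective (QuotientGroup.mk'_surjective N) L).symm
      have h1 : N ≤ L.comap (QuotientGroup.mk' N) := by
        intro x hx
        rw [mem_comap, QuotientGroup.mk'_apply, (QuotientGroup.eq_one_iff x).2 hx]
        exact one_mem L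
      have h2 : L.comap (QuotientGroup.mk' N) ≤ M0 := by
        intro x hx
        obtain ⟨y, hy, hyx⟩ := hLM hx
        have h4 : y⁻¹ * x ∈ N := QuotientGroup.eq.1 hyx
        have h5 : x = y * (y⁻¹ * x) := by group
        rw [h5]
        exact mul_mem hy (hNlt.le h4)
      rcases h2.lt_or_eq with h4 | h4
      · left
        rw [hLc, hmaxN _ (hL.comap _) h1 h4, QuotientGroup.map_mk'_self]
      · right
        rw [hLc, h4]

end Cfsg.Agent.H495.Cod
end

-- part: H352/Cod/Cases
section
/-!
# The elimination of the sporadic candidates by the degrees of `S_n` (helper352, S4941)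
-/

set_option autoImplicit false
set_option linter.unusedSectionVars false

universe u

namespace Cfsg.Agent.H352.Cod

open Cfsg

variable {k : ℕ} {S : Type u} [Group S] [Finite S]

private noncomputable def frc (x : ℕ) (k : ℕ → Bool) : Bool := Nat.rec (k 0) (fun n _ => k (Nat.succ n)) x

private theorem frc_eq (x : ℕ) (k : ℕ → Bool) : frc x k = k x := by cases x <;> rfl

private noncomputable def alN (p : ℕ → Bool) (n : ℕ) : Bool := Nat.rec true (fun i ih => cond (p i) ih false) n

private theorem alN_spec {p : ℕ → Bool} : ∀ {n : ℕ}, alN p n = true → ∀ i < n, p i = true := by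
  intro n
  induction n with
  | zero => exact fun _ i hi => absurd hi (Nat.not_lt_zero i)
  | succ n ih =>
    intro h i hi
    have h1 : cond (p n) (alN p n) false = true := h
    cases e : p n with
    | false => rw [e] at h1; exact absurd h1 Bool.false_ne_true
    | true =>
      rw [e] at h1
      rcases Nat.lt_succ_iff_lt_or_eq.1 hi with h2 | rfl
      · exact ih h1 i h2
      · exact e

private noncomputable def fct (n : ℕ) : ℕ := Nat.rec 1 (fun i ih => Nat.mul (Nat.succ i) ih) n

private theorem rowF_fct {l : List ℕ} {b : ℕ} (h : ∀ j, b ≤ j → colF l j = 0) (H : ℕ) : ∀ k d,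
    rowF l (b + (k + d)) (b + k) (fct d * H) = rowF l (b + (k + d)) b (fct (k + d) * H) := by
  intro k
  induction k with
  | zero => intro d; rw [Nat.zero_add]; rfl
  | succ k ih =>
    intro d
    rw [show k + 1 + d = k + (d + 1) by omega, ← ih, ← Nat.add_assoc b k 1, rowF_succ, h _ (Nat.le_add_right b k)]
    congr 1
    show (b + (k + (d + 1)) - (b + k) + 0) * (fct d * H) = (d + 1) * fct d * H
    rw [show b + (k + (d + 1)) - (b + k) + 0 = d + 1 by omega, Nat.mul_assoc]

/-- `goD` without the dead branches -/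
private noncomputable def goF (M : ℕ) (chk : ℕ → Bool) (f : ℕ) : ℕ → ℕ → ℕ → ℕ → List ℕ → ℕ → Bool :=
  Nat.rec (fun _ _ _ _ _ _ => false) (fun _ ih s t r b l H₀ => frc H₀ fun H =>
    cond (Nat.beq (Nat.mod M H) 0)
      (cond (Nat.beq r 0) (chk H) (cond (Nat.ble (Nat.succ r) b) true (cond (Nat.ble (Nat.succ t) s) true
        (cond (ih (Nat.add s r) (Nat.succ t) 0 r (r :: l) (rowF l r b (Nat.mul (fct (Nat.sub r b)) H)))
          (frc (Nat.succ t) fun t' => alN (fun i => frc (Nat.add b i) fun a => frc (Nat.add s a) fun s' =>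
            frc (Nat.sub r a) fun r' => frc (Nat.sub a b) fun k => ih s' t' r' a (a :: l) (rowF l a b (Nat.mul (fct k) H)))
            (Nat.sub (Nat.succ (cond (Nat.ble (Nat.div r 2) (Nat.sub t' s)) (Nat.div r 2) (Nat.sub t' s))) b))
          false))))
      true) f

private theorem goD_succ (M : ℕ) (chk : ℕ → Bool) (f s t r b : ℕ) (l : List ℕ) (H : ℕ) : goD M chk (f + 1) s t r b l H =
    cond (Nat.beq (Nat.mod M H) 0)
      (cond (Nat.beq r 0) (chk H) (cond (Nat.ble (Nat.succ r) b) true (cond (Nat.ble (Nat.succ t) s) true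
        ((List.range (Nat.sub (Nat.succ r) b)).all fun i =>
          goD M chk f (Nat.add s (Nat.add b i)) (Nat.succ t) (Nat.sub r (Nat.add b i)) (Nat.add b i)
            (Nat.add b i :: l) (rowF l (Nat.add b i) (Nat.add b i) H)))))
      true := rfl

private theorem goD_goF {M : ℕ} {chk : ℕ → Bool} : ∀ (f s t r b : ℕ) (l : List ℕ) (H : ℕ),
    (∀ j, b ≤ j → colF l j = 0) → goF M chk f s t r b l H = true → goD M chk f s t r b l H = true := by
  intro f
  induction f with
  | zero => exact fun _ _ _ _ _ _ _ h => absurd h Bool.false_ne_true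
  | succ f ih =>
    intro s t r b l H hl h
    have h1 : cond (Nat.beq (Nat.mod M H) 0)
      (cond (Nat.beq r 0) (chk H) (cond (Nat.ble (Nat.succ r) b) true (cond (Nat.ble (Nat.succ t) s) true
        (cond (goF M chk f (Nat.add s r) (Nat.succ t) 0 r (r :: l) (rowF l r b (Nat.mul (fct (Nat.sub r b)) H)))
          (frc (Nat.succ t) fun t' => alN (fun i => frc (Nat.add b i) fun a => frc (Nat.add s a) fun s' =>
            frc (Nat.sub r a) fun r' => frc (Nat.sub a b) fun k =>
              goF M chk f s' t' r' a (a :: l) (rowF l a b (Nat.mul (fct k) H)))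
            (Nat.sub (Nat.succ (cond (Nat.ble (Nat.div r 2) (Nat.sub t' s)) (Nat.div r 2) (Nat.sub t' s))) b))
          false)))) true = true := by cases H <;> exact h
    rw [goD_succ]
    revert h1
    cases Nat.beq (Nat.mod M H) 0
    · exact fun _ => rfl
    cases Nat.beq r 0
    swap
    · exact id
    cases e1 : Nat.ble (Nat.succ r) b
    swap
    · exact fun _ => rfl
    cases e2 : Nat.ble (Nat.succ t) s
    swap
    · exact fun _ => rfl
    intro h1
    have hrow : ∀ a, b ≤ a → rowF l a a H = rowF l a b (Nat.mul (fct (Nat.sub a b)) H) := fun a ha => by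
      obtain ⟨k, rfl⟩ := Nat.exists_eq_add_of_le ha
      have h2 := rowF_fct hl H k 0
      rw [show fct 0 * H = H from Nat.one_mul H] at h2
      exact h2.trans (by rw [show Nat.sub (b + k) b = k from Nat.add_sub_cancel_left b k]; rfl)
    have hc : ∀ a j, a ≤ j → colF (a :: l) j = 0 := fun a j hj => by rw [colF_cons, Nat.ble_eq_true_of_le hj]; rfl
    cases e3 : goF M chk f (Nat.add s r) (Nat.succ t) 0 r (r :: l) (rowF l r b (Nat.mul (fct (Nat.sub r b)) H))
    · rw [e3] at h1
      exact absurd h1 Bool.false_ne_true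
    rw [e3] at h1
    simp only [cond_true, cond_false, frc_eq] at h1
    have h2 := alN_spec h1
    refine List.all_eq_true.2 fun i hi => ?_
    have hi' : i < r + 1 - b := List.mem_range.1 hi
    rw [hrow (Nat.add b i) (Nat.le_add_right b i)]
    by_cases h3 : b + i = r
    · subst h3
      exact (congrArg (fun x => goD M chk f _ _ x _ _ _) (Nat.sub_self _)).trans (ih _ _ _ _ _ _ (hc _) e3)
    by_cases h4 : b + i ≤ r / 2 ∧ b + i ≤ t + 1 - s
    · have h5 := h2 i (by
        show i < cond (Nat.ble (r / 2) (t + 1 - s)) (r / 2) (t + 1 - s) + 1 - b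
        cases Nat.ble (r / 2) (t + 1 - s)
        · show i < t + 1 - s + 1 - b
          omega
        · show i < r / 2 + 1 - b
          omega)
      exact ih _ _ _ _ _ _ (hc _) h5
    cases f with
    | zero => exact absurd e3 Bool.false_ne_true
    | succ f =>
      rw [goD_succ]
      cases Nat.beq (Nat.mod M _) 0
      · rfl
      have h6 : Nat.beq (Nat.sub r (Nat.add b i)) 0 = false :=
        Bool.eq_false_iff.2 fun h => by
          have h7 : r - (b + i) = 0 := Nat.eq_of_beq_eq_true h
          omega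
      rw [h6]
      cases e4 : Nat.ble (Nat.succ (Nat.sub r (Nat.add b i))) (Nat.add b i)
      swap
      · rfl
      have h7 : ¬ r - (b + i) + 1 ≤ b + i := fun h => Bool.false_ne_true (e4.symm.trans (Nat.ble_eq_true_of_le h))
      have h8 : ¬ t + 1 ≤ s := fun h => Bool.false_ne_true (e2.symm.trans (Nat.ble_eq_true_of_le h))
      rw [show Nat.ble (Nat.succ (Nat.succ t)) (Nat.add s (Nat.add b i)) = true from
        Nat.ble_eq_true_of_le (show t + 1 + 1 ≤ s + (b + i) by omega)]
      rfl

private theorem goD_of {M n E : ℕ} {chk : ℕ → Bool} (h : goF M chk (n + 1) 0 E n 1 [] 1 = true) :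
    goD M chk (n + 1) 0 E n 1 [] 1 = true :=
  goD_goF _ _ _ _ _ _ _ (fun _ _ => rfl) h

theorem no_M12_11 (h : Cand 11 k 95040 S) : False :=
  h.kill_part 11 0 210 (by norm_num) (by norm_num) (by decide +kernel) rfl (by norm_num)
    (goD_of (by decide +kernel))

theorem no_M12_12 (h : Cand 12 k 95040 S) : False :=
  h.kill_part 11 1 2520 (by norm_num) (by norm_num) (by decide +kernel) rfl (by norm_num)
    (goD_of (by decide +kernel))

theorem no_M22_11 (h : Cand 11 k 443520 S) : False :=
  h.kill_part 11 0 45 (by norm_num) (by norm_num) (by decide +kernel) rfl (by norm_num)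
    (goD_of (by decide +kernel))

theorem no_M22_12 (h : Cand 12 k 443520 S) : False :=
  h.kill_part 11 1 540 (by norm_num) (by norm_num) (by decide +kernel) rfl (by norm_num)
    (goD_of (by decide +kernel))

theorem no_M22_13 (h : Cand 13 k 443520 S) : False :=
  h.kill_part 11 2 7020 (by norm_num) (by norm_num) (by decide +kernel) rfl (by norm_num)
    (goD_of (by decide +kernel))

theorem no_M22_14 (h : Cand 14 k 443520 S) : False :=
  h.kill_part 11 3 98280 (by norm_num) (by norm_num) (by decide +kernel) rfl (by norm_num)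
    (goD_of (by decide +kernel))

theorem no_J2_12 (h : Cand 12 k 604800 S) : False :=
  h.kill_full 3 396 (by norm_num) (by norm_num) (by decide +kernel) (goD_of (by decide +kernel))

theorem no_J2_13 (h : Cand 13 k 604800 S) : False :=
  h.kill_full 2 5148 (by norm_num) (by norm_num) (by decide +kernel) (goD_of (by decide +kernel))

theorem no_J2_14 (h : Cand 14 k 604800 S) : False :=
  h.kill_full 7 72072 (by norm_num) (by norm_num) (by decide +kernel) (goD_of (by decide +kernel))

theorem no_HS_16 (h : Cand 16 k 44352000 S) : False :=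
  h.kill_part 11 5 235872 (by norm_num) (by norm_num) (by decide +kernel) rfl (by norm_num)
    (goD_of (by decide +kernel))

theorem no_HS_17 (h : Cand 17 k 44352000 S) : False :=
  h.kill_part 11 6 4009824 (by norm_num) (by norm_num) (by decide +kernel) rfl (by norm_num)
    (goD_of (by decide +kernel))

theorem no_McL_17 (h : Cand 17 k 898128000 S) : False :=
  h.kill_part 11 6 198016 (by norm_num) (by norm_num) (by decide +kernel) rfl (by norm_num)
    (goD_of (by decide +kernel))

theorem no_McL_18 (h : Cand 18 k 898128000 S) : False :=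
  h.kill_part 11 7 3564288 (by norm_num) (by norm_num) (by decide +kernel) rfl (by norm_num)
    (goD_of (by decide +kernel))

theorem no_McL_19 (h : Cand 19 k 898128000 S) : False :=
  h.kill_part 11 8 67721472 (by norm_num) (by norm_num) (by decide +kernel) rfl (by norm_num)
    (goD_of (by decide +kernel))

theorem no_Suz_21 (h : Cand 21 k 448345497600 S) : False :=
  h.kill_full 3 56977200 (by norm_num) (by norm_num) (by decide +kernel) (goD_of (by decide +kernel))

theorem no_Suz_22 (h : Cand 22 k 448345497600 S) : False :=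
  h.kill_part 13 9 1253498400 (by norm_num) (by norm_num) (by decide +kernel) rfl (by norm_num)
    (goD_of (by decide +kernel))

theorem no_Suz_23 (h : Cand 23 k 448345497600 S) : False :=
  h.kill_part 13 10 28830463200 (by norm_num) (by norm_num) (by decide +kernel) rfl (by norm_num)
    (goD_of (by decide +kernel))

theorem no_Co3_23 (h : Cand 23 k 495766656000 S) : False :=
  h.kill_part 23 0 26072766720 (by norm_num) (by norm_num) (by decide +kernel) rfl (by norm_num)
    (goD_of (by decide +kernel))

theorem no_Co2_23 (h : Cand 23 k 42305421312000 S) : False :=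
  h.kill_part 23 0 305540235 (by norm_num) (by norm_num) (by decide +kernel) rfl (by norm_num)
    (goD_of (by decide +kernel))

theorem no_Co2_24 (h : Cand 24 k 42305421312000 S) : False :=
  h.kill_part 23 1 7332965640 (by norm_num) (by norm_num) (by decide +kernel) rfl (by norm_num)
    (goD_of (by decide +kernel))

theorem no_Co2_25 (h : Cand 25 k 42305421312000 S) : False :=
  h.kill_part 23 2 183324141000 (by norm_num) (by norm_num) (by decide +kernel) rfl (by norm_num)
    (goD_of (by decide +kernel))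

theorem no_Co2_26 (h : Cand 26 k 42305421312000 S) : False :=
  h.kill_part 23 3 4766427666000 (by norm_num) (by norm_num) (by decide +kernel) rfl (by norm_num)
    (goD_of (by decide +kernel))

theorem no_Co1_24 (h : Cand 24 k 4157776806543360000 S) : False :=
  h.kill_mod 23 45 1 74613 (by norm_num) (by norm_num) (by norm_num) (by norm_num) (by decide +kernel) rfl
    (by norm_num) (goD_of (by decide +kernel))

theorem no_Co1_25 (h : Cand 25 k 4157776806543360000 S) : False :=
  h.kill_mod 23 5 2 1865325 (by norm_num) (by norm_num) (by norm_num) (by norm_num) (by decide +kernel) rfl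
    (by norm_num) (goD_of (by decide +kernel))

theorem no_Co1_26 (h : Cand 26 k 4157776806543360000 S) : False :=
  h.kill_part 23 3 48498450 (by norm_num) (by norm_num) (by decide +kernel) rfl (by norm_num)
    (goD_of (by decide +kernel))

theorem no_Co1_27 (h : Cand 27 k 4157776806543360000 S) : False :=
  h.kill_part 23 4 1309458150 (by norm_num) (by norm_num) (by decide +kernel) rfl (by norm_num)
    (goD_of (by decide +kernel))

theorem no_Co1_28 (h : Cand 28 k 4157776806543360000 S) : False :=
  h.kill_part 23 5 36664828200 (by norm_num) (by norm_num) (by decide +kernel) rfl (by norm_num)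
    (goD_of (by decide +kernel))

theorem no_Co1_29 (h : Cand 29 k 4157776806543360000 S) : False :=
  h.kill_part 23 6 1063280017800 (by norm_num) (by norm_num) (by decide +kernel) rfl (by norm_num)
    (goD_of (by decide +kernel))

theorem no_Co1_30 (h : Cand 30 k 4157776806543360000 S) : False :=
  h.kill_part 23 7 31898400534000 (by norm_num) (by norm_num) (by decide +kernel) rfl (by norm_num)
    (goD_of (by decide +kernel))

theorem no_Co1_31 (h : Cand 31 k 4157776806543360000 S) : False :=
  h.kill_part 23 8 988850416554000 (by norm_num) (by norm_num) (by decide +kernel) rfl (by norm_num)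
    (goD_of (by decide +kernel))

theorem no_Co1_32 (h : Cand 32 k 4157776806543360000 S) : False :=
  h.kill_part 23 9 31643213329728000 (by norm_num) (by norm_num) (by decide +kernel) rfl (by norm_num)
    (goD_of (by decide +kernel))

theorem no_Fi22_24 (h : Cand 24 k 64561751654400 S) : False :=
  h.kill_part 13 11 4805077200 (by norm_num) (by norm_num) (by decide +kernel) rfl (by norm_num)
    (goD_of (by decide +kernel))

theorem no_Fi22_25 (h : Cand 25 k 64561751654400 S) : False :=
  h.kill_full 3 120126930000 (by norm_num) (by norm_num) (by decide +kernel) (goD_of (by decide +kernel))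

theorem no_Fi22_26 (h : Cand 26 k 64561751654400 S) : False :=
  h.kill_full 7 3123300180000 (by norm_num) (by norm_num) (by decide +kernel) (goD_of (by decide +kernel))

theorem no_Fi23_27 (h : Cand 27 k 4089470473293004800 S) : False :=
  h.kill_part 23 4 1331330000 (by norm_num) (by norm_num) (by decide +kernel) rfl (by norm_num)
    (goD_of (by decide +kernel))

theorem no_Fi23_28 (h : Cand 28 k 4089470473293004800 S) : False :=
  h.kill_part 23 5 37277240000 (by norm_num) (by norm_num) (by decide +kernel) rfl (by norm_num)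
    (goD_of (by decide +kernel))

theorem no_Fi23_29 (h : Cand 29 k 4089470473293004800 S) : False :=
  h.kill_part 23 6 1081039960000 (by norm_num) (by norm_num) (by decide +kernel) rfl (by norm_num)
    (goD_of (by decide +kernel))

theorem no_Fi23_30 (h : Cand 30 k 4089470473293004800 S) : False :=
  h.kill_part 23 7 32431198800000 (by norm_num) (by norm_num) (by decide +kernel) rfl (by norm_num)
    (goD_of (by decide +kernel))

theorem no_Fi23_31 (h : Cand 31 k 4089470473293004800 S) : False :=
  h.kill_part 23 8 1005367162800000 (by norm_num) (by norm_num) (by decide +kernel) rfl (by norm_num)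
    (goD_of (by decide +kernel))

theorem no_Fi23_32 (h : Cand 32 k 4089470473293004800 S) : False :=
  h.kill_part 23 9 32171749209600000 (by norm_num) (by norm_num) (by decide +kernel) rfl (by norm_num)
    (goD_of (by decide +kernel))

theorem no_Fi24_36 (h : Cand 36 k 1255205709190661721292800 S) : False :=
  h.kill_part 29 7 148180224192000000 (by norm_num) (by norm_num) (by decide +kernel) rfl (by norm_num)
    (goD_of (by decide +kernel))

theorem no_Fi24_37 (h : Cand 37 k 1255205709190661721292800 S) : False :=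
  h.kill_part 29 8 5482668295104000000 (by norm_num) (by norm_num) (by decide +kernel) rfl (by norm_num)
    (goD_of (by decide +kernel))

theorem no_Fi24_38 (h : Cand 38 k 1255205709190661721292800 S) : False :=
  h.kill_part 29 9 208341395213952000000 (by norm_num) (by norm_num) (by decide +kernel) rfl (by norm_num)
    (goD_of (by decide +kernel))

theorem no_Fi24_39 (h : Cand 39 k 1255205709190661721292800 S) : False :=
  h.kill_part 29 10 8125314413344128000000 (by norm_num) (by norm_num) (by decide +kernel) rfl (by norm_num)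
    (goD_of (by decide +kernel))

theorem no_HN_25 (h : Cand 25 k 273030912000000 S) : False :=
  h.kill_part 19 6 28405593216 (by norm_num) (by norm_num) (by decide +kernel) rfl (by norm_num)
    (goD_of (by decide +kernel))

theorem no_HN_26 (h : Cand 26 k 273030912000000 S) : False :=
  h.kill_part 19 7 738545423616 (by norm_num) (by norm_num) (by decide +kernel) rfl (by norm_num)
    (goD_of (by decide +kernel))

theorem no_HN_27 (h : Cand 27 k 273030912000000 S) : False :=
  h.kill_part 19 8 19940726437632 (by norm_num) (by norm_num) (by decide +kernel) rfl (by norm_num)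
    (goD_of (by decide +kernel))

theorem no_B_47 (h : Cand 47 k 4154781481226426191177580544000000 S) : False :=
  h.kill_part 47 0 31123567229680953595693125 (by norm_num) (by norm_num) (by decide +kernel) rfl (by norm_num)
    (goD_of (by decide +kernel))

theorem no_B_48 (h : Cand 48 k 4154781481226426191177580544000000 S) : False :=
  h.kill_part 47 1 1493931227024685772593270000 (by norm_num) (by norm_num) (by decide +kernel) rfl (by norm_num)
    (goD_of (by decide +kernel))

theorem no_B_49 (h : Cand 49 k 4154781481226426191177580544000000 S) : False :=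
  h.kill_part 47 2 73202630124209602857070230000 (by norm_num) (by norm_num) (by decide +kernel) rfl (by norm_num)
    (goD_of (by decide +kernel))

theorem no_B_50 (h : Cand 50 k 4154781481226426191177580544000000 S) : False :=
  h.kill_part 47 3 3660131506210480142853511500000 (by norm_num) (by norm_num) (by decide +kernel) rfl (by norm_num)
    (goD_of (by decide +kernel))

theorem no_B_51 (h : Cand 51 k 4154781481226426191177580544000000 S) : False :=
  h.kill_part 47 4 186666706816734487285529086500000 (by norm_num) (by norm_num) (by decide +kernel) rfl (by norm_num)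
    (goD_of (by decide +kernel))

theorem no_M_71 (h : Cand 71 k 808017424794512875886459904961710757005754368000000000 S) : False :=
  h.kill_part 71 0 526274906004748444241314737877875602964480000000 (by norm_num) (by norm_num) (by decide +kernel) rfl (by norm_num)
    (goD_of (by decide +kernel))

theorem no_M_72 (h : Cand 72 k 808017424794512875886459904961710757005754368000000000 S) : False :=
  h.kill_part 71 1 37891793232341887985374661127207043413442560000000 (by norm_num) (by norm_num) (by decide +kernel) rfl (by norm_num)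
    (goD_of (by decide +kernel))

theorem no_M_73 (h : Cand 73 k 808017424794512875886459904961710757005754368000000000 S) : False :=
  h.kill_part 71 2 2766100905960957822932350262286114169181306880000000 (by norm_num) (by norm_num) (by decide +kernel) rfl (by norm_num)
    (goD_of (by decide +kernel))

theorem no_Tits_16 (h : Cand 16 k 17971200 S) : False :=
  h.kill_part 13 3 582120 (by norm_num) (by norm_num) (by decide +kernel) rfl (by norm_num)
    (goD_of (by decide +kernel))

end Cfsg.Agent.H352.Cod
end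

-- part: H352/Cod/Numeric
section
/-!
# The sporadic candidates with the degree restriction (helper352, S4941)
-/

set_option autoImplicit false

universe u

namespace Cfsg.Agent.H352.Cod

open Cfsg Cfsg.Agent.Characters.Core Cfsg.Agent.H686.CharKit Cfsg.Agent.H495.Cod Subgroup
open Cfsg.Agent.H704 (IsDeg)

/-- the orders -/
def orders : List ℕ := [7920, 95040, 443520, 10200960, 244823040, 175560, 604800, 50232960, 86775571046077562880,
      4157776806543360000, 42305421312000, 495766656000, 898128000, 44352000, 448345497600, 4030387200, 145926144000,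
      460815505920, 51765179004000000, 64561751654400, 4089470473293004800, 1255205709190661721292800,
      273030912000000, 90745943887872000, 4154781481226426191177580544000000,
      808017424794512875886459904961710757005754368000000000, 17971200]

/-- the pairs with `2 |S|` dividing `n!` and `2 n! < |S|²` -/
def pairs : List (ℕ × ℕ) := [(95040, 11), (95040, 12), (443520, 11), (443520, 12), (443520, 13), (443520, 14), (604800, 10), (604800, 11), (604800, 12), (604800, 13), (604800, 14), (4157776806543360000, 24), (4157776806543360000, 25), (4157776806543360000, 26), (4157776806543360000, 27), (4157776806543360000, 28), (4157776806543360000, 29), (4157776806543360000, 30), (4157776806543360000, 31), (4157776806543360000, 32), (42305421312000, 23), (42305421312000, 24), (42305421312000, 25), (42305421312000, 26), (495766656000, 23), (898128000, 15), (898128000, 16), (898128000, 17), (898128000, 18), (898128000, 19), (44352000, 15), (44352000, 16), (44352000, 17), (448345497600, 18), (448345497600, 19), (448345497600,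 20), (448345497600, 21), (448345497600, 22), (448345497600, 23), (64561751654400, 21), (64561751654400, 22), (64561751654400, 23), (64561751654400, 24), (64561751654400, 25), (64561751654400, 26), (4089470473293004800, 27), (4089470473293004800, 28), (4089470473293004800, 29), (4089470473293004800, 30), (4089470473293004800, 31), (4089470473293004800, 32), (1255205709190661721292800, 36), (1255205709190661721292800, 37), (1255205709190661721292800, 38), (1255205709190661721292800, 39), (273030912000000, 25), (273030912000000, 26), (273030912000000, 27), (4154781481226426191177580544000000, 47), (4154781481226426191177580544000000, 48), (4154781481226426191177580544000000, 49), (4154781481226426191177580544000000, 50), (4154781481226426191177580544000000, 51), (808017424794512875886459904961710757005754368000000000, 71), (808017424794512875886459904961710757005754368000000000, 72), (808017424794512875886459904961710757005754368000000000, 73), (17971200, 16)]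

theorem pairs_spec : ∀ N ∈ orders, ∀ n ∈ List.range 76, 5 ≤ n → 2 * N ∣ n.factorial → 2 * n.factorial < N * N →
    (N, n) ∈ pairs := by
  decide +kernel

theorem orders_le : ∀ N ∈ orders, N * N ≤ 2 * Nat.factorial 76 := by
  decide +kernel

theorem mem_pairs {n k N : ℕ} {S : Type u} [Group S] [Finite S] (h : Cand n k N S) (hN : N ∈ orders) :
    (N, n) ∈ pairs := by
  have hn5 := h.n5
  have h1 : 2 * n.factorial < N * N := by
    have hN1 : N ≠ 1 := by
      rintro rfl
      revert hN
      decide
    obtain ⟨p, hp, hpN⟩ := Nat.exists_prime_and_dvd hN1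
    obtain ⟨χ, hχ, -⟩ := h.exists_one hp hpN
    obtain ⟨h2, -, h3, -⟩ := h.facts χ hχ
    have h4 : 4 * k < N := by
      refine lt_of_le_of_lt ?_ h3
      have : 2 * 2 ≤ charDegree (χ : S → ℂ) * charDegree (χ : S → ℂ) := Nat.mul_le_mul h2 h2
      calc 4 * k = k * (2 * 2) := by ring
        _ ≤ _ := Nat.mul_le_mul_left _ this
    rw [h.fact]
    calc 2 * (2 * k * N) = (4 * k) * N := by ring
      _ < N * N := Nat.mul_lt_mul_of_pos_right h4 h.Npos
  have h2 : n < 76 := by
    by_contra h3
    rw [not_lt] at h3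
    have h4 := Nat.factorial_le h3
    have h5 := orders_le N hN
    omega
  refine pairs_spec N hN n (List.mem_range.2 h2) hn5 ?_ h1
  rw [h.fact]
  exact ⟨k, by ring⟩

theorem spor_numeric {n k : ℕ} (hn : 5 ≤ n) {S : Type u} [Group S] [Finite S] [IsSimpleGroup S]
    (hS : ¬ ∀ a b : S, a * b = b * a)
    (hc : Nat.card S ∈ [7920, 95040, 443520, 10200960, 244823040, 175560, 604800, 50232960, 86775571046077562880,
      4157776806543360000, 42305421312000, 495766656000, 898128000, 44352000, 448345497600, 4030387200, 145926144000,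
      460815505920, 51765179004000000, 64561751654400, 4089470473293004800, 1255205709190661721292800,
      273030912000000, 90745943887872000, 4154781481226426191177580544000000,
      808017424794512875886459904961710757005754368000000000, 17971200])
    (hk : aN n = k * Nat.card S)
    (hd : ∀ χ : IrrCharacter S, (χ : S → ℂ) ≠ 1 → ADeg n (k * charDegree (χ : S → ℂ))) :
    (Nat.card S, n) ∈ [(604800, 10), (604800, 11), (44352000, 15), (898128000, 15), (898128000, 16),
      (448345497600, 18), (448345497600, 19), (448345497600, 20), (64561751654400, 21), (64561751654400, 22),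
      (64561751654400, 23)] := by
  obtain ⟨N, hN⟩ : ∃ N, N = Nat.card S := ⟨_, rfl⟩
  have h : Cand n k N S := ⟨hn, perfect_of_simple hS, hN.symm, by rw [hN]; exact hk, hd⟩
  rw [← hN] at hc ⊢
  have hp := mem_pairs h hc
  clear hc hN hk hd hn
  have key : ∀ p ∈ pairs, Cand p.2 k p.1 S → p ∈ [(604800, 10), (604800, 11), (44352000, 15), (898128000, 15),
      (898128000, 16), (448345497600, 18), (448345497600, 19), (448345497600, 20), (64561751654400, 21),
      (64561751654400, 22), (64561751654400, 23)] := by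
    unfold pairs
    exact
      List.forall_mem_cons.2 <| And.intro (fun h => (no_M12_11 h).elim) <|
      List.forall_mem_cons.2 <| And.intro (fun h => (no_M12_12 h).elim) <|
      List.forall_mem_cons.2 <| And.intro (fun h => (no_M22_11 h).elim) <|
      List.forall_mem_cons.2 <| And.intro (fun h => (no_M22_12 h).elim) <|
      List.forall_mem_cons.2 <| And.intro (fun h => (no_M22_13 h).elim) <|
      List.forall_mem_cons.2 <| And.intro (fun h => (no_M22_14 h).elim) <|
      List.forall_mem_cons.2 <| And.intro (fun _ => by decide +kernel) <|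
      List.forall_mem_cons.2 <| And.intro (fun _ => by decide +kernel) <|
      List.forall_mem_cons.2 <| And.intro (fun h => (no_J2_12 h).elim) <|
      List.forall_mem_cons.2 <| And.intro (fun h => (no_J2_13 h).elim) <|
      List.forall_mem_cons.2 <| And.intro (fun h => (no_J2_14 h).elim) <|
      List.forall_mem_cons.2 <| And.intro (fun h => (no_Co1_24 h).elim) <|
      List.forall_mem_cons.2 <| And.intro (fun h => (no_Co1_25 h).elim) <|
      List.forall_mem_cons.2 <| And.intro (fun h => (no_Co1_26 h).elim) <|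
      List.forall_mem_cons.2 <| And.intro (fun h => (no_Co1_27 h).elim) <|
      List.forall_mem_cons.2 <| And.intro (fun h => (no_Co1_28 h).elim) <|
      List.forall_mem_cons.2 <| And.intro (fun h => (no_Co1_29 h).elim) <|
      List.forall_mem_cons.2 <| And.intro (fun h => (no_Co1_30 h).elim) <|
      List.forall_mem_cons.2 <| And.intro (fun h => (no_Co1_31 h).elim) <|
      List.forall_mem_cons.2 <| And.intro (fun h => (no_Co1_32 h).elim) <|
      List.forall_mem_cons.2 <| And.intro (fun h => (no_Co2_23 h).elim) <|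
      List.forall_mem_cons.2 <| And.intro (fun h => (no_Co2_24 h).elim) <|
      List.forall_mem_cons.2 <| And.intro (fun h => (no_Co2_25 h).elim) <|
      List.forall_mem_cons.2 <| And.intro (fun h => (no_Co2_26 h).elim) <|
      List.forall_mem_cons.2 <| And.intro (fun h => (no_Co3_23 h).elim) <|
      List.forall_mem_cons.2 <| And.intro (fun _ => by decide +kernel) <|
      List.forall_mem_cons.2 <| And.intro (fun _ => by decide +kernel) <|
      List.forall_mem_cons.2 <| And.intro (fun h => (no_McL_17 h).elim) <|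
      List.forall_mem_cons.2 <| And.intro (fun h => (no_McL_18 h).elim) <|
      List.forall_mem_cons.2 <| And.intro (fun h => (no_McL_19 h).elim) <|
      List.forall_mem_cons.2 <| And.intro (fun _ => by decide +kernel) <|
      List.forall_mem_cons.2 <| And.intro (fun h => (no_HS_16 h).elim) <|
      List.forall_mem_cons.2 <| And.intro (fun h => (no_HS_17 h).elim) <|
      List.forall_mem_cons.2 <| And.intro (fun _ => by decide +kernel) <|
      List.forall_mem_cons.2 <| And.intro (fun _ => by decide +kernel) <|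
      List.forall_mem_cons.2 <| And.intro (fun _ => by decide +kernel) <|
      List.forall_mem_cons.2 <| And.intro (fun h => (no_Suz_21 h).elim) <|
      List.forall_mem_cons.2 <| And.intro (fun h => (no_Suz_22 h).elim) <|
      List.forall_mem_cons.2 <| And.intro (fun h => (no_Suz_23 h).elim) <|
      List.forall_mem_cons.2 <| And.intro (fun _ => by decide +kernel) <|
      List.forall_mem_cons.2 <| And.intro (fun _ => by decide +kernel) <|
      List.forall_mem_cons.2 <| And.intro (fun _ => by decide +kernel) <|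
      List.forall_mem_cons.2 <| And.intro (fun h => (no_Fi22_24 h).elim) <|
      List.forall_mem_cons.2 <| And.intro (fun h => (no_Fi22_25 h).elim) <|
      List.forall_mem_cons.2 <| And.intro (fun h => (no_Fi22_26 h).elim) <|
      List.forall_mem_cons.2 <| And.intro (fun h => (no_Fi23_27 h).elim) <|
      List.forall_mem_cons.2 <| And.intro (fun h => (no_Fi23_28 h).elim) <|
      List.forall_mem_cons.2 <| And.intro (fun h => (no_Fi23_29 h).elim) <|
      List.forall_mem_cons.2 <| And.intro (fun h => (no_Fi23_30 h).elim) <|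
      List.forall_mem_cons.2 <| And.intro (fun h => (no_Fi23_31 h).elim) <|
      List.forall_mem_cons.2 <| And.intro (fun h => (no_Fi23_32 h).elim) <|
      List.forall_mem_cons.2 <| And.intro (fun h => (no_Fi24_36 h).elim) <|
      List.forall_mem_cons.2 <| And.intro (fun h => (no_Fi24_37 h).elim) <|
      List.forall_mem_cons.2 <| And.intro (fun h => (no_Fi24_38 h).elim) <|
      List.forall_mem_cons.2 <| And.intro (fun h => (no_Fi24_39 h).elim) <|
      List.forall_mem_cons.2 <| And.intro (fun h => (no_HN_25 h).elim) <|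
      List.forall_mem_cons.2 <| And.intro (fun h => (no_HN_26 h).elim) <|
      List.forall_mem_cons.2 <| And.intro (fun h => (no_HN_27 h).elim) <|
      List.forall_mem_cons.2 <| And.intro (fun h => (no_B_47 h).elim) <|
      List.forall_mem_cons.2 <| And.intro (fun h => (no_B_48 h).elim) <|
      List.forall_mem_cons.2 <| And.intro (fun h => (no_B_49 h).elim) <|
      List.forall_mem_cons.2 <| And.intro (fun h => (no_B_50 h).elim) <|
      List.forall_mem_cons.2 <| And.intro (fun h => (no_B_51 h).elim) <|
      List.forall_mem_cons.2 <| And.intro (fun h => (no_M_71 h).elim) <|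
      List.forall_mem_cons.2 <| And.intro (fun h => (no_M_72 h).elim) <|
      List.forall_mem_cons.2 <| And.intro (fun h => (no_M_73 h).elim) <|
      List.forall_mem_cons.2 <| And.intro (fun h => (no_Tits_16 h).elim) <|
      fun _ h => absurd h List.not_mem_nil
  exact key _ hp h

end Cfsg.Agent.H352.Cod
end

-- part: H352/Cod/Pair
section
/-!
# The sporadic candidates of rank 3 (helper352, S4941)
-/

set_option autoImplicit false
set_option linter.unusedSectionVars false

universe u

namespace Cfsg.Agent.H352.Cod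

open Cfsg Cfsg.Agent.Characters.Core Cfsg.Agent.H686.CharKit Cfsg.Agent.H495.Cod Subgroup
open Cfsg.Agent.H704 (IsDeg)
open Cfsg.Agent.H690.Spor.RankThree

/-- two irreducible characters with the sum of the degrees `T` and the product of the degrees as in Frame's theorem -/
def HasPair (T M : ℕ) (S : Type u) [Group S] : Prop := ∃ (χ₁ χ₂ : IrrCharacter S) (f g D : ℕ),
  (χ₁ : S → ℂ) 1 = f ∧ (χ₂ : S → ℂ) 1 = g ∧ f + g = T ∧ f * g * D = M ∧ (f ≠ g → IsSquare D)

theorem HasPair.of_equiv {T M : ℕ} {S : Type u} {H : Type} [Group S] [Group H] (e : S ≃* H) (h : HasPair T M H) :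
    HasPair T M S := by
  obtain ⟨χ₁, χ₂, f, g, D, h1, h2, h3⟩ := h
  refine ⟨⟨_, isIrr_comp e.toMonoidHom e.surjective χ₁.2⟩, ⟨_, isIrr_comp e.toMonoidHom e.surjective χ₂.2⟩, f, g, D,
    ?_, ?_, h3⟩
  · show (χ₁ : H → ℂ) (e.toMonoidHom 1) = f
    rw [map_one, h1]
  · show (χ₂ : H → ℂ) (e.toMonoidHom 1) = g
    rw [map_one, h2]

theorem HasPair.of_r3 {G X : Type} [Group G] [MulAction G X] [Finite G] {R : X → X → Prop} {k l T M : ℕ}
    (h : R3 G X R k l) (hT : k + l = T) (hM : (1 + k + l) * k * l = M) : HasPair T M G := by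
  classical
  have : Finite X := Nat.finite_of_card_ne_zero (by rw [h.cardn]; omega)
  have := Fintype.ofFinite X
  obtain ⟨χ₁, χ₂, f, g, D, h1, h2, -, h3, h4, h5⟩ := h.frame
  exact ⟨χ₁, χ₂, f, g, D, h1, h2, h3.trans hT, h4.trans hM, h5⟩

/-- the test for one possible degree `e` -/
def okL (N k : ℕ) (P : List ℕ) (e : ℕ) : Bool :=
  Nat.ble e 1 || !(Nat.beq (Nat.mod N e) 0) || Nat.ble N (Nat.mul k (Nat.mul e e)) || P.elem e

/-- the test for one number `x` equal to `e` or `2 e` -/
def chkLX (N k : ℕ) (P : List ℕ) (x : ℕ) : Bool :=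
  okL N k P x && (!(Nat.beq (Nat.mod x 2) 0) || okL N k P (Nat.div x 2))

/-- the test for one hook product `H` -/
def chkL (N k : ℕ) (P : List ℕ) (H : ℕ) : Bool := chkLX N k P (Nat.div (Nat.mul 2 N) H)

theorem okL_of {N k : ℕ} {P : List ℕ} {e : ℕ} (h : okL N k P e = true) (h1 : 1 < e) (h2 : e ∣ N)
    (h3 : k * (e * e) < N) : e ∈ P := by
  unfold okL at h
  simp only [Bool.or_eq_true, Bool.not_eq_true'] at h
  rcases h with ((h | h) | h) | h
  · have := Nat.le_of_ble_eq_true h
    omega
  · rw [← Bool.not_eq_true, Nat.beq_eq] at h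
    exact absurd (Nat.mod_eq_zero_of_dvd h2) h
  · have := Nat.le_of_ble_eq_true h
    have h4 : Nat.mul k (Nat.mul e e) = k * (e * e) := rfl
    omega
  · exact List.mem_of_elem_eq_true h

theorem chkL_one {N k : ℕ} {P : List ℕ} {e H : ℕ} (hH : e * H = 2 * N) (hN : 0 < N) (h : chkL N k P H = true) :
    okL N k P e = true := by
  have hH0 : 0 < H := by
    apply Nat.pos_of_ne_zero
    rintro rfl
    omega
  unfold chkL chkLX at h
  rw [show Nat.div (Nat.mul 2 N) H = e by
    show 2 * N / H = e
    rw [← hH]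
    exact Nat.mul_div_cancel e hH0] at h
  simp only [Bool.and_eq_true] at h
  exact h.1

theorem chkL_two {N k : ℕ} {P : List ℕ} {e H : ℕ} (hH : (2 * e) * H = 2 * N) (hN : 0 < N)
    (h : chkL N k P H = true) : okL N k P e = true := by
  have hH0 : 0 < H := by
    apply Nat.pos_of_ne_zero
    rintro rfl
    omega
  unfold chkL chkLX at h
  rw [show Nat.div (Nat.mul 2 N) H = 2 * e by
    show 2 * N / H = 2 * e
    rw [← hH]
    exact Nat.mul_div_cancel _ hH0] at h
  simp only [Bool.and_eq_true, Bool.or_eq_true, Bool.not_eq_true'] at h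
  rcases h.2 with h1 | h1
  · rw [← Bool.not_eq_true, Nat.beq_eq] at h1
    exact absurd (Nat.mod_eq_zero_of_dvd (Dvd.intro _ rfl)) h1
  · rwa [show Nat.div (2 * e) 2 = e from Nat.mul_div_cancel_left e (by norm_num)] at h1

variable {n k N : ℕ} {S : Type u} [Group S] [Finite S]

/-- the list of the possible degrees -/
theorem Cand.deg_mem (h : Cand n k N S) (K : ℕ) (P : List ℕ) (hK : n.factorial = 2 * K * N)
    (hgo : goD (2 * N) (chkL N K P) (n + 1) 0 n n 1 [] 1 = true) (χ : IrrCharacter S) (hχ : (χ : S → ℂ) ≠ 1) :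
    charDegree (χ : S → ℂ) ∈ P := by
  have hkK : k = K := by
    have h1 := h.fact
    rw [hK, mul_assoc, mul_assoc] at h1
    have h2 := Nat.eq_of_mul_eq_mul_left (by norm_num : 0 < 2) h1
    exact (Nat.eq_of_mul_eq_mul_right h.Npos h2).symm
  subst hkK
  obtain ⟨h1, h2, h3, h4⟩ := h.facts χ hχ
  have h5 : okL N k P (charDegree (χ : S → ℂ)) = true := by
    rcases h4 with h4 | h4
    · obtain ⟨H, g1, g2⟩ := check_all hgo h4 (Nat.mul_pos h.kpos (by omega)) (x := charDegree (χ : S → ℂ))
        (by rw [hK]; ring)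
      exact chkL_one g2 h.Npos g1
    · obtain ⟨H, g1, g2⟩ := check_all hgo h4 (Nat.mul_pos (by norm_num) (Nat.mul_pos h.kpos (by omega)))
        (x := 2 * charDegree (χ : S → ℂ)) (by rw [hK]; ring)
      exact chkL_two g2 h.Npos g1
  exact okL_of h5 h1 h2 h3

/-- elimination by a pair of characters -/
theorem Cand.kill_pair (h : Cand n k N S) {T M : ℕ} (hp : HasPair T M S) (K : ℕ) (P : List ℕ)
    (hK : n.factorial = 2 * K * N) (hgo : goD (2 * N) (chkL N K P) (n + 1) 0 n n 1 [] 1 = true)
    (hT : ¬ (T - 1) ∣ M) (hP : ∀ f ∈ P, ∀ g ∈ P, f + g = T → f * g ∣ M → f ≠ g ∧ ¬ IsSquare (M / (f * g))) :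
    False := by
  obtain ⟨χ₁, χ₂, f, g, D, h1, h2, h3, h4, h5⟩ := hp
  have hf : charDegree (χ₁ : S → ℂ) = f := by
    have := charDegree_irr χ₁
    rw [h1] at this
    exact_mod_cast this
  have hg : charDegree (χ₂ : S → ℂ) = g := by
    have := charDegree_irr χ₂
    rw [h2] at this
    exact_mod_cast this
  have hf1 : (χ₁ : S → ℂ) ≠ 1 := by
    intro h6
    rw [h6, charDegree_one] at hf
    apply hT
    rw [← h4, ← hf, one_mul, show T - 1 = g by omega]
    exact Dvd.intro _ rfl
  have hg1 : (χ₂ : S → ℂ) ≠ 1 := by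
    intro h6
    rw [h6, charDegree_one] at hg
    apply hT
    rw [← h4, ← hg, mul_one, show T - 1 = f by omega]
    exact Dvd.intro _ rfl
  have h6 := h.deg_mem K P hK hgo χ₁ hf1
  have h7 := h.deg_mem K P hK hgo χ₂ hg1
  rw [hf] at h6
  rw [hg] at h7
  obtain ⟨h8, h9⟩ := hP f h6 g h7 h3 (by rw [← h4]; exact Dvd.intro _ rfl)
  apply h9
  have hpos : 0 < f * g := by
    apply Nat.mul_pos
    · rw [← hf]; exact charDegree_pos χ₁
    · rw [← hg]; exact charDegree_pos χ₂
  rw [← h4, Nat.mul_div_cancel_left D hpos]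
  exact h5 h8

/-! ### The pairs -/

theorem pair_j2 (h : Spor.IsoJ2 S) : HasPair 99 226800 S := by
  obtain ⟨e⟩ := h
  have : Finite Spor.J2 := Finite.of_equiv _ e.toEquiv
  obtain ⟨H, hi, -, c₁, c₂, h1, h2⟩ := S1624.result
  obtain ⟨R, hR⟩ := R3.of_index H (k := 36) (l := 63) hi h1 h2 (by norm_num) (by norm_num) (by norm_num)
  exact HasPair.of_equiv e (HasPair.of_r3 hR rfl rfl)

theorem pair_suz (h : Spor.IsoSuz S) : HasPair 1781 1011890880 S := by
  obtain ⟨e⟩ := h
  have : Finite Spor.Suz := Finite.of_equiv _ e.toEquiv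
  obtain ⟨hi, c₁, c₂, h1, h2⟩ := S1680.result
  obtain ⟨R, hR⟩ := R3.of_index _ (k := 416) (l := 1365) hi h1 h2 (by norm_num) (by norm_num) (by norm_num)
  exact HasPair.of_equiv e (HasPair.of_r3 hR rfl rfl)

theorem pair_fi22 (h : Spor.IsoFi22 S) : HasPair 3509 6849722880 S := by
  obtain ⟨e⟩ := h
  have : Finite Spor.Fi22 := Finite.of_equiv _ e.toEquiv
  obtain ⟨hi, c₁, c₂, h1, h2⟩ := S1687.result
  obtain ⟨R, hR⟩ := R3.of_index _ (k := 693) (l := 2816) hi h1 h2 (by norm_num) (by norm_num) (by norm_num)
  exact HasPair.of_equiv e (HasPair.of_r3 hR rfl rfl)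

theorem ne_of_ncard {G X : Type} [Group G] [MulAction G X] {a b : X} {k : ℕ}
    (h : (MulAction.orbit (MulAction.stabilizer G a) b).ncard = k) (hk : 1 < k) : b ≠ a := by
  rintro rfl
  have h1 : MulAction.orbit (MulAction.stabilizer G b) b = {b} := by
    ext y
    rw [Set.mem_singleton_iff]
    constructor
    · rintro ⟨⟨g, hg⟩, hy⟩
      rw [← hy]
      exact hg
    · rintro rfl
      exact MulAction.mem_orbit_self _
  rw [h1, Set.ncard_singleton] at h
  omega

theorem pair_hs (h : Spor.IsoHS S) : HasPair 99 169400 S := by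
  obtain ⟨e⟩ := h
  obtain ⟨H, Y, _, _, _, _, a, b, c, hr, hc, -, ⟨f⟩⟩ := SporadicRecognition.HSAssemble.hs_rank
  have : Finite H := Finite.of_equiv _ (e.trans f.symm).toEquiv
  exact HasPair.of_equiv (e.trans f.symm) (HasPair.of_r3 (R3.of_orbits hr.trans (ne_of_ncard hr.cb hr.hk)
    (ne_of_ncard hr.cc hr.hl) hr.cb hr.cc hr.ne hr.cardX) rfl rfl)

theorem pair_mcl (h : Spor.IsoMcL S) : HasPair 274 4989600 S := by
  obtain ⟨e⟩ := h
  obtain ⟨H, Y, _, _, _, _, a, b, c, hr, hc, -, ⟨f⟩⟩ := SporadicRecognition.McLAssemble.mcl_rank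
  have : Finite H := Finite.of_equiv _ (e.trans f.symm).toEquiv
  exact HasPair.of_equiv (e.trans f.symm) (HasPair.of_r3 (R3.of_orbits hr.trans (ne_of_ncard hr.cb hr.hk)
    (ne_of_ncard hr.cc hr.hl) hr.cb hr.cc hr.ne hr.cardX) rfl rfl)

/-! ### The eliminations -/

theorem no_pair_j2_10 (h : Cand 10 k 604800 S) (hp : HasPair 99 226800 S) : False :=
  h.kill_pair hp 3 [3, 6, 7, 12, 14, 15, 21, 25, 28, 30, 35, 42, 48, 50, 70, 75, 84, 96, 100, 105, 128, 150, 175, 189]
    (by decide +kernel) (goD_of (by decide +kernel)) (by norm_num) (by decide +kernel)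

theorem no_pair_j2_11 (h : Cand 11 k 604800 S) (hp : HasPair 99 226800 S) : False :=
  h.kill_pair hp 33 [2, 4, 5, 7, 9, 10, 14, 15, 18, 20, 21, 25, 28, 30, 35, 36, 40, 70]
    (by decide +kernel) (goD_of (by decide +kernel)) (by norm_num) (by decide +kernel)

theorem no_pair_hs_15 (h : Cand 15 k 44352000 S) (hp : HasPair 99 169400 S) : False :=
  h.kill_pair hp 14742 [2, 4, 11, 15]
    (by decide +kernel) (goD_of (by decide +kernel)) (by norm_num) (by decide +kernel)

theorem no_pair_mcl_15 (h : Cand 15 k 898128000 S) (hp : HasPair 274 4989600 S) : False :=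
  h.kill_pair hp 728 [22, 33, 44, 55, 77, 81, 110, 125, 154]
    (by decide +kernel) (goD_of (by decide +kernel)) (by norm_num) (by decide +kernel)

theorem no_pair_mcl_16 (h : Cand 16 k 898128000 S) (hp : HasPair 274 4989600 S) : False :=
  h.kill_pair hp 11648 [3, 5, 6, 10, 22, 24, 25, 30, 44, 48, 50, 55, 60, 99]
    (by decide +kernel) (goD_of (by decide +kernel)) (by norm_num) (by decide +kernel)

theorem no_pair_suz_18 (h : Cand 18 k 448345497600 S) (hp : HasPair 1781 1011890880 S) : False :=
  h.kill_pair hp 7140 [16, 32, 39, 77, 78, 91, 143, 154, 182, 189, 195, 208, 224, 231, 286, 312, 351, 364, 390, 416, 429, 448, 624, 702, 715, 858, 891, 936, 1144, 1287, 1872, 2275, 2288]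
    (by decide +kernel) (goD_of (by decide +kernel)) (by norm_num) (by decide +kernel)

theorem no_pair_suz_19 (h : Cand 19 k 448345497600 S) (hp : HasPair 1781 1011890880 S) : False :=
  h.kill_pair hp 135660 [6, 7, 9, 12, 18, 25, 33, 39, 65, 66, 78, 81, 90, 91, 105, 117, 130, 143, 156, 162, 180, 195, 234, 312, 325, 390, 429]
    (by decide +kernel) (goD_of (by decide +kernel)) (by norm_num) (by decide +kernel)

theorem no_pair_suz_20 (h : Cand 20 k 448345497600 S) (hp : HasPair 1781 1011890880 S) : False :=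
  h.kill_pair hp 2713200 [12, 13, 16, 20, 24, 32, 39, 40, 77]
    (by decide +kernel) (goD_of (by decide +kernel)) (by norm_num) (by decide +kernel)

theorem no_pair_fi22_21 (h : Cand 21 k 64561751654400 S) (hp : HasPair 3509 6849722880 S) : False :=
  h.kill_pair hp 395675 [5, 10, 13, 20, 26, 40, 44, 88, 104, 130, 143, 156, 165, 195, 208, 220, 240, 260, 264, 286, 312, 330, 351, 390, 405, 440, 455, 480, 495, 520, 525, 528, 572, 624, 650, 702, 770, 780, 810, 840, 990, 1040, 1050, 1080, 1144, 1188, 1248, 1300, 1404, 1540, 1680, 2160, 2288, 2376]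
    (by decide +kernel) (goD_of (by decide +kernel)) (by norm_num) (by decide +kernel)

theorem no_pair_fi22_22 (h : Cand 22 k 64561751654400 S) (hp : HasPair 3509 6849722880 S) : False :=
  h.kill_pair hp 8704850 [2, 6, 12, 13, 21, 33, 36, 39, 48, 72, 77, 78, 91, 96, 99, 117, 156, 165, 182, 189, 192, 198, 231, 273, 462]
    (by decide +kernel) (goD_of (by decide +kernel)) (by norm_num) (by decide +kernel)

theorem no_pair_fi22_23 (h : Cand 23 k 64561751654400 S) (hp : HasPair 3509 6849722880 S) : False :=
  h.kill_pair hp 200211550 [3, 5, 6, 13, 15, 18, 26, 30, 33, 36, 39, 52, 75, 78, 81]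
    (by decide +kernel) (goD_of (by decide +kernel)) (by norm_num) (by decide +kernel)

theorem rank3_elim {n k : ℕ} {S : Type u} [Group S] [Finite S] [IsSimpleGroup S]
    (hS : Spor.IsoJ2 S ∨ Spor.IsoHS S ∨ Spor.IsoMcL S ∨ Spor.IsoSuz S ∨ Spor.IsoFi22 S)
    (hc : (Nat.card S, n) ∈ [(604800, 10), (604800, 11), (44352000, 15), (898128000, 15), (898128000, 16),
      (448345497600, 18), (448345497600, 19), (448345497600, 20), (64561751654400, 21), (64561751654400, 22),
      (64561751654400, 23)])
    (hk : aN n = k * Nat.card S)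
    (hd : ∀ χ : IrrCharacter S, (χ : S → ℂ) ≠ 1 → ADeg n (k * charDegree (χ : S → ℂ))) : False := by
  obtain ⟨N, hN⟩ : ∃ N, N = Nat.card S := ⟨_, rfl⟩
  rw [← hN] at hc
  have hn : 5 ≤ n ∧ N ∈ [604800, 44352000, 898128000, 448345497600, 64561751654400] := by
    revert hc
    simp only [List.mem_cons, Prod.mk.injEq, List.not_mem_nil, or_false]
    omega
  have hS' : ¬ ∀ a b : S, a * b = b * a := by
    intro hcomm
    have h1 : (Nat.card S).Prime := by
      let _ : CommGroup S := { mul_comm := hcomm }
      exact IsSimpleGroup.prime_card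
    rw [← hN] at h1
    have h2 := hn.2
    simp only [List.mem_cons, List.not_mem_nil, or_false] at h2
    rcases h2 with h2 | h2 | h2 | h2 | h2 <;> rw [h2] at h1 <;> revert h1 <;> norm_num
  have h : Cand n k N S := ⟨hn.1, perfect_of_simple hS', hN.symm, by rw [hN]; exact hk, hd⟩
  simp only [List.mem_cons, Prod.mk.injEq, List.not_mem_nil, or_false] at hc
  rcases hS with h0 | h0 | h0 | h0 | h0
  · have h1 := NotCT.Orders.j2 h0
    have h2 := pair_j2 h0
    rw [← hN] at h1
    subst h1
    clear hN hn
    have hn : n = 10 ∨ n = 11 := by omega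
    rcases hn with rfl | rfl
    · exact no_pair_j2_10 h h2
    · exact no_pair_j2_11 h h2
  · have h1 := NotCT.Orders.hs h0
    have h2 := pair_hs h0
    rw [← hN] at h1
    subst h1
    clear hN hn
    have hn : n = 15 := by omega
    subst hn
    exact no_pair_hs_15 h h2
  · have h1 := NotCT.Orders.mcl h0
    have h2 := pair_mcl h0
    rw [← hN] at h1
    subst h1
    clear hN hn
    have hn : n = 15 ∨ n = 16 := by omega
    rcases hn with rfl | rfl
    · exact no_pair_mcl_15 h h2
    · exact no_pair_mcl_16 h h2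
  · have h1 := NotCT.Orders.suz h0
    have h2 := pair_suz h0
    rw [← hN] at h1
    subst h1
    clear hN hn
    have hn : n = 18 ∨ n = 19 ∨ n = 20 := by omega
    rcases hn with rfl | rfl | rfl
    · exact no_pair_suz_18 h h2
    · exact no_pair_suz_19 h h2
    · exact no_pair_suz_20 h h2
  · have h1 := NotCT.Orders.fi22 h0
    have h2 := pair_fi22 h0
    rw [← hN] at h1
    subst h1
    clear hN hn
    have hn : n = 21 ∨ n = 22 ∨ n = 23 := by omega
    rcases hn with rfl | rfl | rfl
    · exact no_pair_fi22_21 h h2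
    · exact no_pair_fi22_22 h h2
    · exact no_pair_fi22_23 h h2

end Cfsg.Agent.H352.Cod
end

-- part: H746/Corners
section
/-!
# The branching bound for the degrees of the symmetric groups (helper746, for S4941)
-/

set_option autoImplicit false

namespace Cfsg.Agent.H746.Corners

open Finset Cfsg.Agent.H704 Cfsg.Agent.H614

/-- `c` distinct positive integers have sum at least `c (c + 1) / 2`. -/
theorem card_mul_le (s : Finset ℕ) (h : ∀ a ∈ s, 0 < a) : s.card * (s.card + 1) ≤ 2 * ∑ a ∈ s, a := by
  induction s using Finset.induction_on_max with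
  | empty => simp
  | insert a s ha ih =>
    have hna : a ∉ s := fun hm => lt_irrefl _ (ha a hm)
    rw [Finset.card_insert_of_notMem hna, Finset.sum_insert hna]
    have ih' := ih fun b hb => h b (Finset.mem_insert_of_mem hb)
    have hsub : s ⊆ Finset.Ioo 0 a := fun b hb => Finset.mem_Ioo.2 ⟨h b (Finset.mem_insert_of_mem hb), ha b hb⟩
    have hc := Finset.card_le_card hsub
    rw [Nat.card_Ioo] at hc
    have ha0 := h a (Finset.mem_insert_self _ _)
    have : s.card + 1 ≤ a := by omega
    linarith only [ih', this]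

theorem deg_le_corners {n d : ℕ} (h : IsDeg (n + 1) d) :
    ∃ c e : ℕ, c * (c + 1) ≤ 2 * (n + 1) ∧ IsDeg n e ∧ d ≤ c * e := by
  classical
  obtain ⟨l, hl, hd⟩ := h
  obtain ⟨β, h1, h2⟩ := exists_tuple hl.sorted
  have h6 := sum_tuple h1 h2 hl.sum
  have h7 := deg_unique h1 h2 hl.sum hd
  rw [Multiset.replicate_succ, FM_cons] at h7
  set C : Finset (Fin l.length) := univ.filter fun j => 1 ≤ β j ∧ Function.Injective (dn β j 1) with hC
  have hmem : ∀ j, j ∈ C ↔ (1 ≤ β j ∧ Function.Injective (dn β j 1)) := fun j => by simp only [hC, mem_filter, mem_univ,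
      true_and]
  have hex : ∀ j : Fin l.length, ∃ e : ℕ, j ∈ C → ((e : ℤ) = FM (Multiset.replicate n 1) (dn β j 1) ∧ IsDeg n e) := by
    intro j
    by_cases hj : j ∈ C
    · obtain ⟨hj1, hj2⟩ := (hmem j).1 hj
      obtain ⟨e, he⟩ := isDeg_of_tuple (n := n) (strictMono_dn h1 hj1 hj2) (by have := sum_dn β j hj1; omega)
      exact ⟨e, fun _ => he⟩
    · exact ⟨0, fun h => absurd h hj⟩
  choose e he using hex
  have h8 : (d : ℤ) = ∑ j ∈ C, (e j : ℤ) := by
    rw [h7, ← Finset.sum_subset (Finset.subset_univ C)]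
    · refine Finset.sum_congr rfl fun j hj => ?_
      rw [if_pos ((hmem j).1 hj).1, (he j hj).1]
    · intro j _ hj
      split_ifs with hj1
      · refine (FM_alt _).eq_zero_of_not_injective two_torsion_int fun hinj => hj ((hmem j).2 ⟨hj1, hinj⟩)
      · rfl
  have h9 : d = ∑ j ∈ C, e j := by exact_mod_cast h8
  have hd0 : 0 < d := by
    rcases Nat.eq_zero_or_pos d with h0 | h0
    · rw [h0, zero_mul] at hd
      exact absurd hd (Nat.factorial_pos _).ne
    · exact h0
  have hne : C.Nonempty := by
    rw [Finset.nonempty_iff_ne_empty]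
    intro h0
    rw [h0, Finset.sum_empty] at h9
    omega
  obtain ⟨j0, hj0, hmax⟩ := Finset.exists_max_image C e hne
  refine ⟨C.card, e j0, ?_, (he j0 hj0).2, ?_⟩
  · have hle : ∀ i : Fin l.length, (i : ℕ) ≤ β i := strictMono_le h1
    have hpos : ∀ j ∈ C, (j : ℕ) < β j := by
      intro j hj
      obtain ⟨hj1, hj2⟩ := (hmem j).1 hj
      rcases lt_or_eq_of_le (hle j) with h0 | h0
      · exact h0
      · exfalso
        have hj3 : (j : ℕ) ≠ 0 := by omega
        have hk : (⟨j - 1, by omega⟩ : Fin l.length) < j := by rw [Fin.lt_def]; simp only; omega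
        have hk1 := h1 hk
        have hk2 := hle ⟨j - 1, by omega⟩
        simp only at hk2
        have hkne := hk.ne
        apply hkne
        apply hj2
        rw [dn_ne _ _ hkne, dn_self]
        omega
    have hmono : ∀ j ∈ C, ∀ k ∈ C, j < k → β j - (j : ℕ) < β k - (k : ℕ) := by
      intro j hj k hk hjk
      obtain ⟨hk1, hk2⟩ := (hmem k).1 hk
      have hjk' : (j : ℕ) < k := hjk
      have e1 : (⟨k - 1, by omega⟩ : Fin l.length) < k := by rw [Fin.lt_def]; simp only; omega
      have e2 := h1 e1
      have e3 : β ⟨k - 1, by omega⟩ ≠ β k - 1 := by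
        intro h0
        apply e1.ne
        apply hk2
        rw [dn_ne _ _ e1.ne, dn_self, h0]
      -- β j - j ≤ β (k-1) - (k-1)
      have e4 : ∀ t : ℕ, ∀ ht : (j : ℕ) + t < l.length, β j + t ≤ β ⟨j + t, ht⟩ := by
        intro t
        induction t with
        | zero => intro ht; exact le_rfl
        | succ t ih =>
          intro ht
          have i1 := ih (by omega)
          have i2 : (⟨j + t, by omega⟩ : Fin l.length) < ⟨j + (t + 1), ht⟩ := by
            rw [Fin.lt_def]; simp only; omega
          have i3 := h1 i2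
          omega
      have e5 := e4 (k - 1 - j) (by omega)
      have e6 : (⟨(j : ℕ) + (k - 1 - j), by omega⟩ : Fin l.length) = ⟨k - 1, by omega⟩ := by
        apply Fin.ext; simp only; omega
      rw [e6] at e5
      have := hle j
      have := hle k
      have := hpos k hk
      omega
    have hinj : Set.InjOn (fun j : Fin l.length => β j - (j : ℕ)) C := by
      intro j hj k hk hjk
      simp only at hjk
      rcases lt_trichotomy j k with h0 | h0 | h0
      · exact absurd hjk (hmono j hj k hk h0).ne
      · exact h0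
      · exact absurd hjk (hmono k hk j hj h0).ne'
    have key := card_mul_le (C.image fun j => β j - (j : ℕ)) (by
      intro a ha
      obtain ⟨j, hj, rfl⟩ := Finset.mem_image.1 ha
      have := hpos j hj
      omega)
    rw [Finset.card_image_of_injOn hinj, Finset.sum_image hinj] at key
    refine key.trans (Nat.mul_le_mul_left 2 ?_)
    calc ∑ j ∈ C, (β j - (j : ℕ)) ≤ ∑ j, (β j - (j : ℕ)) :=
          Finset.sum_le_sum_of_subset (Finset.subset_univ C)
      _ ≤ n + 1 := by
          have : ∑ j, (β j - (j : ℕ)) + ∑ i : Fin l.length, (i : ℕ) = ∑ j, β j := by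
            rw [← Finset.sum_add_distrib]
            refine Finset.sum_congr rfl fun j _ => ?_
            have := hle j
            omega
          omega
  · rw [h9]
    calc ∑ j ∈ C, e j ≤ ∑ j ∈ C, e j0 := Finset.sum_le_sum hmax
      _ = C.card * e j0 := by rw [Finset.sum_const, smul_eq_mul]

end Cfsg.Agent.H746.Corners
end

-- part: H462/Cod/AltElim
section
/-!
# Task 870 (helper495, S4941): an alternating group `A_m`, `m < n`, does not have all `|A_n : A_m| d` as degrees of `A_n`
-/

set_option autoImplicit false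
set_option linter.unusedSectionVars false

universe u

namespace Cfsg.Agent.H462.Cod

open Cfsg Cfsg.Agent.Characters.Core Cfsg.Agent.H686.CharKit Cfsg.Agent.H495.Cod Subgroup
open Cfsg.Agent.H704 (IsDeg)

/-- The degrees given by the hook formula are degrees of irreducible characters. -/
theorem exists_irr_of_isDeg {m e : ℕ} (h : IsDeg m e) :
    ∃ χ : Equiv.Perm (Fin m) → ℂ, IsIrrCharacter (Equiv.Perm (Fin m)) χ ∧ χ 1 = e := by
  obtain ⟨l, hl, hd⟩ := h
  obtain ⟨β, h1, h2⟩ := H704.exists_tuple hl.sorted
  have h6 := H704.sum_tuple h1 h2 hl.sum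
  have h7 := H704.deg_unique h1 h2 hl.sum hd
  refine ⟨H614.ch (Fin m) β, H614.isIrr_ch h1 (by rw [Fintype.card_fin]; exact h6), ?_⟩
  rw [H614.ch_apply, H614.ty_one, Fintype.card_fin, ← h7]
  simp

theorem exists_adeg_of_isDeg {m e : ℕ} (hm : 5 ≤ m) (he : 2 < e) (h : IsDeg m e) : ∃ d, ADeg m d ∧ e ≤ 2 * d := by
  classical
  obtain ⟨χ, hχ, hχ1⟩ := exists_irr_of_isDeg h
  have : Fintype ↥(alternatingGroup (Fin m)) := Fintype.ofFinite _
  have hres : IsCharacter ↥(alternatingGroup (Fin m)) (fun n : ↥(alternatingGroup (Fin m)) => χ n) :=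
    isCharacter_comp (alternatingGroup (Fin m)).subtype (isIrr_isCharacter hχ)
  have h0 : (fun n : ↥(alternatingGroup (Fin m)) => χ n) ≠ 0 := by
    intro h1
    exact isIrr_apply_one_ne_zero hχ (congrFun h1 1)
  obtain ⟨ψ, hψ, hne⟩ : ∃ θ : ↥(alternatingGroup (Fin m)) → ℂ, IsIrrCharacter ↥(alternatingGroup (Fin m)) θ ∧
      classInner (fun n : ↥(alternatingGroup (Fin m)) => χ n) θ ≠ 0 := by
    by_contra hcon
    push Not at hcon
    exact h0 (classFunction_eq_zero (isCharacter_isClassFunction hres) hcon)
  have hidx : (alternatingGroup (Fin m)).index = 2 := by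
    have : Nontrivial (Fin m) := Fin.nontrivial_iff_two_le.2 (by omega)
    exact alternatingGroup.index_eq_two
  obtain ⟨b, hb0, hb⟩ := isIrr_apply_one hψ
  have hle := H621.SymDeg.degree_le_index_mul (alternatingGroup (Fin m)) hχ hψ hne hχ1 hb
  rw [hidx] at hle
  have hcd : charDegree ψ = b := by
    have h1 := charDegree_cast (isIrr_isCharacter hψ)
    rw [hb] at h1
    exact_mod_cast h1
  refine ⟨b, ⟨⟨ψ, hψ⟩, ?_, hcd⟩, hle⟩
  intro h1
  have h2 : ψ 1 = 1 := congrFun h1 1
  rw [hb] at h2
  have h3 : b = 1 := by exact_mod_cast h2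
  omega

/-- The branching bound. -/
theorem deg_bound {m D : ℕ} (hm : 5 ≤ m) (hD : ∀ e, IsDeg m e → e ≤ D) (hD0 : 0 < D) :
    ∀ j : ℕ, ∀ e, IsDeg (m + j) e → e * 2 ^ j * m.factorial ≤ (m + j).factorial * D ∧
      (7 ≤ m + j → 1 ≤ j → e * 2 ^ j * m.factorial < (m + j).factorial * D) := by
  intro j
  induction j with
  | zero =>
    intro e he
    refine ⟨?_, fun _ h => absurd h (by norm_num)⟩
    rw [add_zero, pow_zero, mul_one, mul_comm]
    exact Nat.mul_le_mul_left _ (hD e he)
  | succ j ih =>
    intro d hd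
    obtain ⟨c, e, hc, he, hde⟩ := H746.Corners.deg_le_corners (n := m + j) hd
    obtain ⟨h1, -⟩ := ih e he
    have h2c : 2 * c ≤ m + j + 1 := by
      by_contra hcon
      push Not at hcon
      nlinarith only [hm, hc, hcon]
    have hpos : 0 < (m + j).factorial * D := Nat.mul_pos (Nat.factorial_pos _) hD0
    have hfac : (m + (j + 1)).factorial = (m + j + 1) * (m + j).factorial := by
      rw [← add_assoc, Nat.factorial_succ]
    have key : d * 2 ^ (j + 1) * m.factorial ≤ (2 * c) * ((m + j).factorial * D) := by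
      calc d * 2 ^ (j + 1) * m.factorial ≤ (c * e) * 2 ^ (j + 1) * m.factorial := by gcongr
        _ = (2 * c) * (e * 2 ^ j * m.factorial) := by ring
        _ ≤ _ := Nat.mul_le_mul_left _ h1
    refine ⟨?_, ?_⟩
    · calc _ ≤ _ := key
        _ ≤ (m + j + 1) * ((m + j).factorial * D) := Nat.mul_le_mul_right _ h2c
        _ = _ := by rw [hfac]; ring
    · intro h7 _
      have h2c' : 2 * c < m + j + 1 := by
        by_contra hcon
        push Not at hcon
        nlinarith only [hc, h7, hcon]
      calc _ ≤ _ := key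
        _ < (m + j + 1) * ((m + j).factorial * D) := Nat.mul_lt_mul_of_pos_right h2c' hpos
        _ = _ := by rw [hfac]; ring

/-- **Task 870.** -/
theorem alt_elim {n m k : ℕ} (hm : 5 ≤ m) (hmn : m < n) (hk : aN n = k * aN m)
    (hd : ∀ e, ADeg m e → ADeg n (k * e)) : False := by
  classical
  -- `A_m` has a character of degree `m - 1`
  have hm1 : ADeg m (m - 1) := by
    obtain ⟨ψ, hψ, hψ1⟩ := H621.SymDeg.alt_irr hm (MulEquiv.refl ↥(alternatingGroup (Fin m)))
    have hcd : charDegree ψ = m - 1 := by
      have h1 := charDegree_cast (isIrr_isCharacter hψ)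
      rw [hψ1] at h1
      exact_mod_cast h1
    refine ⟨⟨ψ, hψ⟩, ?_, hcd⟩
    intro h1
    have h2 : ψ 1 = 1 := congrFun h1 1
    rw [hψ1] at h2
    have h3 : m - 1 = 1 := by exact_mod_cast h2
    omega
  -- the largest degree
  have hbdd : ∀ d, ADeg m d → d ≤ aN m := fun d h => by
    obtain ⟨h1, h2, -, -⟩ := h.facts hm
    nlinarith
  set e0 := Nat.findGreatest (fun d => ADeg m d) (aN m) with he0
  have hA : ADeg m e0 := Nat.findGreatest_spec (P := fun d => ADeg m d) (hbdd _ hm1) hm1
  have hmax : ∀ d, ADeg m d → d ≤ e0 := fun d h => Nat.le_findGreatest (hbdd d h) h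
  have he1 : 1 < e0 := (hA.facts hm).1
  have hD : ∀ e, IsDeg m e → e ≤ 2 * e0 := by
    intro e he
    by_cases h2 : 2 < e
    · obtain ⟨d, h3, h4⟩ := exists_adeg_of_isDeg hm h2 he
      exact h4.trans (Nat.mul_le_mul_left _ (hmax d h3))
    · omega
  obtain ⟨j, rfl⟩ : ∃ j, n = m + j := ⟨n - m, by omega⟩
  have hj : 1 ≤ j := by omega
  -- `k = n! / m!`
  have hkf : (m + j).factorial = k * m.factorial := by
    have h1 := two_mul_aN (n := m) (by omega)
    have h2 := two_mul_aN (n := m + j) (by omega)
    rw [← h1, ← h2, hk]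
    ring
  have hk0 : 0 < k := by
    rcases Nat.eq_zero_or_pos k with h | h
    · rw [h, zero_mul] at hkf
      exact absurd hkf (Nat.factorial_pos _).ne'
    · exact h
  have hmf := Nat.factorial_pos m
  have hB := (hd e0 hA).facts (by omega)
  obtain ⟨-, -, -, hB⟩ := hB
  obtain ⟨E, hE, hkE⟩ : ∃ E, IsDeg (m + j) E ∧ k * e0 ≤ E := by
    rcases hB with h | h
    · exact ⟨_, h, le_rfl⟩
    · exact ⟨_, h, by omega⟩
  obtain ⟨h1, h2⟩ := deg_bound hm hD (by omega) j E hE
  rw [hkf] at h1 h2
  have h3 : k * e0 * m.factorial * 2 ^ j ≤ E * 2 ^ j * m.factorial := by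
    calc k * e0 * m.factorial * 2 ^ j = (k * e0) * 2 ^ j * m.factorial := by ring
      _ ≤ _ := by gcongr
  have hpos : 0 < k * e0 * m.factorial := Nat.mul_pos (Nat.mul_pos hk0 (by omega)) hmf
  have h4 : k * e0 * m.factorial * 2 ^ j ≤ k * e0 * m.factorial * 2 := by
    calc _ ≤ _ := h3
      _ ≤ k * m.factorial * (2 * e0) := h1
      _ = _ := by ring
  have h5 : 2 ^ j ≤ 2 := Nat.le_of_mul_le_mul_left h4 hpos
  have hj1 : j = 1 := by
    by_contra hne
    have h6 : 2 ≤ j := by omega
    have h7 := Nat.pow_le_pow_right (n := 2) (by norm_num) h6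
    omega
  subst hj1
  by_cases h7 : 7 ≤ m + 1
  · have h8 := h2 h7 le_rfl
    have h9 : k * e0 * m.factorial * 2 < k * e0 * m.factorial * 2 := by
      calc k * e0 * m.factorial * 2 = k * e0 * m.factorial * 2 ^ 1 := by ring
        _ ≤ _ := h3
        _ < k * m.factorial * (2 * e0) := h8
        _ = _ := by ring
    exact lt_irrefl _ h9
  · have hm5 : m = 5 := by omega
    subst hm5
    have hk6 : k = 6 := by
      have h8 : Nat.factorial (5 + 1) = 720 := rfl
      have h9 : Nat.factorial 5 = 120 := rfl
      rw [h8, h9] at hkf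
      omega
    subst hk6
    have h10 := (hd _ hm1).facts (by norm_num)
    obtain ⟨-, -, -, h10⟩ := h10
    rcases h10 with h | h
    · have := H704.deg6 h
      revert this
      decide
    · have := H704.deg6 h
      revert this
      decide

end Cfsg.Agent.H462.Cod
end

-- part: H462/Cod/CentralThree
section
/-!
# Task 873 (helper495, S4941): no group `3.A_6`, `3.A_7` has only degrees `3 d`, `d` a degree of `A_n`, over the centre
-/

set_option autoImplicit false
set_option linter.unusedSectionVars false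

universe u

namespace Cfsg.Agent.H462.Cod

open Cfsg Cfsg.Agent.Characters.Core Cfsg.Agent.H686.CharKit Cfsg.Agent.H495.Cod Subgroup
open Cfsg.Agent.H704 (IsDeg)

/-! ### Values at elements of order five -/

/-- If `x ^ 5 = 1` and `χ (x ^ j) = χ x` for `j = 1, …, 4`, then `χ x` is an integer congruent to `χ 1` modulo `5`. -/
theorem int_value {G : Type u} [Group G] [Finite G] {χ : G → ℂ} (hχ : IsCharacter G χ) {x : G} (hx : x ^ 5 = 1)
    (h : ∀ j : ℕ, 1 ≤ j → j ≤ 4 → χ (x ^ j) = χ x) : ∃ t : ℤ, χ x = t ∧ (5 : ℤ) ∣ t - (charDegree χ : ℤ) := by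
  have hχ' := hχ
  obtain ⟨n, ρ, rfl⟩ := hχ
  have hζ := Complex.isPrimitiveRoot_exp 5 (by norm_num)
  set ζ := Complex.exp (2 * Real.pi * Complex.I / (5 : ℕ)) with hζd
  obtain ⟨d, hd⟩ := Cfsg.Agent.Characters.Galois.exists_nat_coeffs ρ x (by norm_num) hx hζ
  have hsum : ∑ m ∈ Finset.range 5, ρ.character (x ^ m) = 5 * (d 0 : ℂ) := by
    simp only [hd]
    rw [Finset.sum_comm]
    have h1 : ∀ j ∈ Finset.range 5, ∑ m ∈ Finset.range 5, (d j : ℂ) * ζ ^ (j * m) = if j = 0 then 5 * (d 0 : ℂ) else 0 := by
      intro j hj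
      rw [Finset.mem_range] at hj
      rw [← Finset.mul_sum]
      split_ifs with h0
      · subst h0
        simp
        ring
      · have h2 : ∑ m ∈ Finset.range 5, ζ ^ (j * m) = 0 := by
          have h3 : IsPrimitiveRoot (ζ ^ j) 5 := by
            apply hζ.pow_of_coprime
            interval_cases j <;> first | exact absurd rfl h0 | decide
          have h4 := h3.geom_sum_eq_zero (by norm_num)
          rw [← h4]
          refine Finset.sum_congr rfl fun m _ => ?_
          rw [pow_mul]
        rw [h2, mul_zero]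
    rw [Finset.sum_congr rfl h1]
    simp
  have hcd := charDegree_cast hχ'
  have hsum' : ρ.character 1 + 4 * ρ.character x = 5 * (d 0 : ℂ) := by
    rw [← hsum]
    simp only [Finset.sum_range_succ, Finset.sum_range_zero, pow_zero, zero_add]
    rw [h 1 le_rfl (by norm_num), h 2 (by norm_num) (by norm_num), h 3 (by norm_num) (by norm_num),
      h 4 (by norm_num) le_rfl]
    ring
  rw [← hcd] at hsum'
  obtain ⟨t, ht⟩ := Cfsg.Agent.Characters.GaloisBasic.exists_int_of_rat hχ' x
    ⟨(5 * (d 0 : ℚ) - (charDegree ρ.character : ℚ)) / 4, by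
      push_cast
      rw [← hsum']
      ring⟩
  refine ⟨t, ht, ?_⟩
  rw [ht] at hsum'
  have h5 : (charDegree ρ.character : ℤ) + 4 * t = 5 * (d 0 : ℤ) := by exact_mod_cast hsum'
  omega

/-! ### A five-cycle in `A_7` -/

/-- the five-cycle `(0 1 2 3 4)` -/
def c5 : Equiv.Perm (Fin 7) where
  toFun := ![1, 2, 3, 4, 0, 5, 6]
  invFun := ![4, 0, 1, 2, 3, 5, 6]
  left_inv := by decide
  right_inv := by decide

/-- conjugates `c5` to its square -/
def h5 : Equiv.Perm (Fin 7) where
  toFun := ![0, 2, 4, 1, 3, 6, 5]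
  invFun := ![0, 3, 1, 4, 2, 6, 5]
  left_inv := by decide
  right_inv := by decide

theorem sign_c5 : Equiv.Perm.sign c5 = 1 := by decide +kernel

theorem sign_h5 : Equiv.Perm.sign h5 = 1 := by decide +kernel

theorem h5_conj : h5 * c5 * h5⁻¹ = c5 ^ 2 := by
  decide +kernel

theorem c5_pow : c5 ^ 5 = 1 := by
  ext i
  fin_cases i <;> rfl

theorem cent_c5 (g : Equiv.Perm (Fin 7)) (hg : g * c5 = c5 * g) (hs : Equiv.Perm.sign g = 1) :
    ∃ k : Fin 5, g = c5 ^ (k : ℕ) := by
  have hg' : ∀ i, g (c5 i) = c5 (g i) := fun i => by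
    rw [← Equiv.Perm.mul_apply, hg, Equiv.Perm.mul_apply]
  have hfix : ∀ b : Fin 7, c5 b = b → b = 5 ∨ b = 6 := by decide
  have hmov : ∀ a : Fin 7, c5 a ≠ a → ∃ k : Fin 5, a = (c5 ^ (k : ℕ)) 0 := by decide
  have h5 := hfix (g 5) (hg' 5).symm
  have h6 := hfix (g 6) (hg' 6).symm
  have h56 : g 5 ≠ g 6 := fun h => absurd (g.injective h) (by decide)
  obtain ⟨k, hk⟩ := hmov (g 0) (by
    rw [← hg']
    intro h
    exact absurd (g.injective h) (by decide))
  refine ⟨k, ?_⟩
  have h1 : g 1 = c5 (g 0) := hg' 0
  have h2 : g 2 = c5 (g 1) := hg' 1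
  have h3 : g 3 = c5 (g 2) := hg' 2
  have h4 : g 4 = c5 (g 3) := hg' 3
  have hk1 : ∀ k : Fin 5, c5 ((c5 ^ (k : ℕ)) 0) = (c5 ^ (k : ℕ)) 1 := by decide
  have hk2 : ∀ k : Fin 5, c5 ((c5 ^ (k : ℕ)) 1) = (c5 ^ (k : ℕ)) 2 := by decide
  have hk3 : ∀ k : Fin 5, c5 ((c5 ^ (k : ℕ)) 2) = (c5 ^ (k : ℕ)) 3 := by decide
  have hk4 : ∀ k : Fin 5, c5 ((c5 ^ (k : ℕ)) 3) = (c5 ^ (k : ℕ)) 4 := by decide
  have hk5 : ∀ k : Fin 5, (c5 ^ (k : ℕ)) 5 = 5 := by decide
  have hk6 : ∀ k : Fin 5, (c5 ^ (k : ℕ)) 6 = 6 := by decide
  rw [hk, hk1] at h1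
  rw [h1, hk2] at h2
  rw [h2, hk3] at h3
  rw [h3, hk4] at h4
  have h5' : g 5 = 5 := by
    rcases h5 with h | h
    · exact h
    · exfalso
      have h6' : g 6 = 5 := by
        rcases h6 with h' | h'
        · exact h'
        · exact absurd (h.trans h'.symm) h56
      have hgs : g = c5 ^ (k : ℕ) * Equiv.swap 5 6 := by
        ext i
        rw [Equiv.Perm.mul_apply]
        fin_cases i
        · rw [show (Equiv.swap (5 : Fin 7) 6) ((fun i => i) ⟨0, by decide⟩) = 0 from by decide]
          exact congrArg Fin.val hk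
        · rw [show (Equiv.swap (5 : Fin 7) 6) ((fun i => i) ⟨1, by decide⟩) = 1 from by decide]
          exact congrArg Fin.val h1
        · rw [show (Equiv.swap (5 : Fin 7) 6) ((fun i => i) ⟨2, by decide⟩) = 2 from by decide]
          exact congrArg Fin.val h2
        · rw [show (Equiv.swap (5 : Fin 7) 6) ((fun i => i) ⟨3, by decide⟩) = 3 from by decide]
          exact congrArg Fin.val h3
        · rw [show (Equiv.swap (5 : Fin 7) 6) ((fun i => i) ⟨4, by decide⟩) = 4 from by decide]
          exact congrArg Fin.val h4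
        · rw [show (Equiv.swap (5 : Fin 7) 6) ((fun i => i) ⟨5, by decide⟩) = 6 from by decide, hk6]
          exact congrArg Fin.val h
        · rw [show (Equiv.swap (5 : Fin 7) 6) ((fun i => i) ⟨6, by decide⟩) = 5 from by decide, hk5]
          exact congrArg Fin.val h6'
      rw [hgs, map_mul, map_pow, sign_c5, one_pow, one_mul, Equiv.Perm.sign_swap (by decide)] at hs
      exact absurd hs (by decide)
  have h6' : g 6 = 6 := by
    rcases h6 with h | h
    · exact absurd (h5'.trans h.symm) h56
    · exact h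
  ext i
  fin_cases i
  · exact congrArg Fin.val hk
  · exact congrArg Fin.val h1
  · exact congrArg Fin.val h2
  · exact congrArg Fin.val h3
  · exact congrArg Fin.val h4
  · exact congrArg Fin.val (h5'.trans (hk5 k).symm)
  · exact congrArg Fin.val (h6'.trans (hk6 k).symm)

/-- The elements `c5`, `h5` of `A_7`. -/
theorem exists_alt7 : ∃ c h : ↥(alternatingGroup (Fin 7)), c ^ 5 = 1 ∧ c ≠ 1 ∧ h * c * h⁻¹ = c ^ 2 ∧
    Nat.card (centralizer ({c} : Set ↥(alternatingGroup (Fin 7)))) ≤ 5 := by
  refine ⟨⟨c5, Equiv.Perm.mem_alternatingGroup.2 sign_c5⟩, ⟨h5, Equiv.Perm.mem_alternatingGroup.2 sign_h5⟩,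
    Subtype.ext c5_pow, ?_, Subtype.ext h5_conj, ?_⟩
  · intro h
    have h1 : c5 = 1 := congrArg Subtype.val h
    have h2 : c5 0 = 0 := by rw [h1]; rfl
    exact absurd h2 (by decide)
  · have hsurj : Function.Surjective (fun k : Fin 5 =>
        (⟨⟨c5, Equiv.Perm.mem_alternatingGroup.2 sign_c5⟩ ^ (k : ℕ), by
          rw [mem_centralizer_singleton_iff]
          exact (Commute.pow_self _ _).eq⟩ :
          centralizer ({⟨c5, Equiv.Perm.mem_alternatingGroup.2 sign_c5⟩} : Set ↥(alternatingGroup (Fin 7))))) := by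
      rintro ⟨g, hg⟩
      rw [mem_centralizer_singleton_iff] at hg
      obtain ⟨k, hk⟩ := cent_c5 g (congrArg Subtype.val hg) (Equiv.Perm.mem_alternatingGroup.1 g.2)
      exact ⟨k, Subtype.ext (Subtype.ext hk.symm)⟩
    have := Nat.card_le_card_of_surjective _ hsurj
    simpa only [ge_iff_le, Nat.card_eq_fintype_card, Fintype.card_fin] using this

/-! ### The lift to a central extension by a group of order three -/

section Main

variable {G : Type u} [Group G] [Finite G]

/-- The element of order five of `G`. -/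
theorem exists_lift (M : Subgroup G) [hM : M.Normal] (e : G ⧸ M ≃* alternatingGroup (Fin 7)) (hMc : M ≤ center G)
    (hcard : Nat.card M = 3) : ∃ x : G, x ^ 5 = 1 ∧ (∀ j : ℕ, 1 ≤ j → j ≤ 4 → IsConj (x ^ j) x) ∧
      Nat.card (centralizer ({x} : Set G)) ≤ 15 ∧ 5 ≤ Nat.card (centralizer ({(x : G ⧸ M)} : Set (G ⧸ M))) := by
  obtain ⟨c, h, hc5, hc1, hh, hcc⟩ := exists_alt7
  obtain ⟨y, hy⟩ := QuotientGroup.mk_surjective (e.symm c)
  obtain ⟨k, hk⟩ := QuotientGroup.mk_surjective (e.symm h)
  have h3 : ∀ m ∈ M, m ^ 3 = 1 := by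
    intro m hm
    have h1 : (⟨m, hm⟩ : M) ^ Nat.card M = 1 := pow_card_eq_one'
    rw [hcard] at h1
    exact congrArg Subtype.val h1
  have hy5 : y ^ 5 ∈ M := by
    rw [← QuotientGroup.eq_one_iff, QuotientGroup.mk_pow, hy, ← map_pow, hc5, map_one]
  set x := y ^ 6 with hx
  have hx5 : x ^ 5 = 1 := by
    have h1 := h3 _ hy5
    calc x ^ 5 = (((y ^ 5) ^ 3)) ^ 2 := by rw [hx, ← pow_mul, ← pow_mul, ← pow_mul]
      _ = 1 := by rw [h1, one_pow]
  have hxc : (x : G ⧸ M) = e.symm c := by
    rw [hx, QuotientGroup.mk_pow, hy, ← map_pow]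
    congr 1
    rw [show (6 : ℕ) = 5 + 1 from rfl, pow_succ, hc5, one_mul]
  -- `k x k⁻¹ = x ^ 2`
  have hkx : k * x * k⁻¹ = x ^ 2 := by
    have h0 : ((x ^ 2 : G) : G ⧸ M) = ((k * x * k⁻¹ : G) : G ⧸ M) := by
      rw [QuotientGroup.mk_pow, QuotientGroup.mk_mul, QuotientGroup.mk_mul, QuotientGroup.mk_inv, hxc, hk,
        ← map_pow, ← hh, map_mul, map_mul, map_inv]
    have h1 : (x ^ 2)⁻¹ * (k * x * k⁻¹) ∈ M := QuotientGroup.eq.1 h0
    obtain ⟨m, hm⟩ : ∃ m, m = (x ^ 2)⁻¹ * (k * x * k⁻¹) := ⟨_, rfl⟩
    rw [← hm] at h1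
    have h2 : k * x * k⁻¹ = x ^ 2 * m := by rw [hm, mul_inv_cancel_left]
    have hmc : ∀ g : G, g * m = m * g := fun g => Subgroup.mem_center_iff.1 (hMc h1) g
    have h4 : (k * x * k⁻¹) ^ 5 = 1 := by
      rw [conj_pow, hx5, mul_one, mul_inv_cancel]
    have h5' : (x ^ 2 * m) ^ 5 = (x ^ 2) ^ 5 * m ^ 5 := (show Commute (x ^ 2) m from hmc _).mul_pow 5
    have h6 : m ^ 5 = 1 := by
      rw [h2, h5', ← pow_mul, mul_comm 2 5, pow_mul, hx5, one_pow, one_mul] at h4
      exact h4
    have h7 : m = 1 := by
      have h8 := h3 m h1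
      have h9 : m = (m ^ 3) ^ 2 * (m ^ 5)⁻¹ := by
        rw [← pow_mul, show 3 * 2 = 1 + 5 from rfl, pow_add, pow_one, mul_inv_cancel_right]
      rw [h9, h8, h6]
      simp
    rw [h2, h7, mul_one]
  have hconj : ∀ j : ℕ, IsConj (x ^ j) (x ^ (2 * j)) := by
    intro j
    rw [isConj_iff]
    refine ⟨k, ?_⟩
    rw [← conj_pow, hkx, ← pow_mul]
  refine ⟨x, hx5, ?_, ?_, ?_⟩
  · have h1 : IsConj x (x ^ 2) := by simpa only [isConj_iff, pow_one, mul_one] using hconj 1
    have h2 : IsConj (x ^ 2) (x ^ 4) := hconj 2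
    have h4 : IsConj (x ^ 4) (x ^ 3) := by
      have := hconj 4
      rwa [show 2 * 4 = 5 + 3 from rfl, pow_add x 5 3, hx5, one_mul] at this
    intro j hj1 hj4
    interval_cases j
    · rw [pow_one]
    · exact h1.symm
    · exact ((h1.trans h2).trans h4).symm
    · exact (h1.trans h2).symm
  · -- the centraliser
    have h1 : (centralizer ({x} : Set G)).map (QuotientGroup.mk' M) ≤ centralizer ({(x : G ⧸ M)} : Set (G ⧸ M)) := by
      rintro _ ⟨g, hg, rfl⟩
      rw [SetLike.mem_coe, mem_centralizer_singleton_iff] at hg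
      rw [mem_centralizer_singleton_iff, QuotientGroup.mk'_apply, ← QuotientGroup.mk_mul, hg, QuotientGroup.mk_mul]
    have h2 : Nat.card (centralizer ({(x : G ⧸ M)} : Set (G ⧸ M))) ≤ 5 := by
      refine le_trans ?_ hcc
      refine Nat.card_le_card_of_injective (fun g => (⟨e g.1, ?_⟩ : centralizer ({c} : Set ↥(alternatingGroup (Fin 7))))) ?_
      · have h5' := mem_centralizer_singleton_iff.1 g.2
        rw [mem_centralizer_singleton_iff]
        have h6 : e (x : G ⧸ M) = c := by rw [hxc, MulEquiv.apply_symm_apply]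
        rw [← h6, ← map_mul, h5', map_mul]
      · intro a b hab
        exact Subtype.ext (e.injective (congrArg Subtype.val hab))
    have h4 := Subgroup.card_eq_card_quotient_mul_card_subgroup ((M).subgroupOf (centralizer ({x} : Set G)))
    have h5' : Nat.card (M.subgroupOf (centralizer ({x} : Set G))) ≤ 3 := by
      rw [← hcard]
      exact Nat.card_le_card_of_injective (fun a => (⟨a.1.1, Subgroup.mem_subgroupOf.1 a.2⟩ : M))
        fun a b hab => Subtype.ext (Subtype.ext (congrArg (fun z : M => (z : G)) hab))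
    have h6 : Nat.card (↥(centralizer ({x} : Set G)) ⧸ M.subgroupOf (centralizer ({x} : Set G))) ≤ 5 := by
      refine le_trans ?_ h2
      rw [← Subgroup.index_eq_card]
      have h7 : (M.subgroupOf (centralizer ({x} : Set G))) =
          ((QuotientGroup.mk' M).comp (centralizer ({x} : Set G)).subtype).ker := by
        ext g
        rw [Subgroup.mem_subgroupOf, MonoidHom.mem_ker, MonoidHom.comp_apply, QuotientGroup.mk'_apply,
          QuotientGroup.eq_one_iff]
        rfl
      rw [h7, Subgroup.index_ker]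
      refine Subgroup.card_le_of_le ?_
      rintro _ ⟨g, rfl⟩
      exact h1 ⟨g.1, g.2, rfl⟩
    rw [h4]
    calc _ ≤ 5 * 3 := Nat.mul_le_mul h6 h5'
      _ = 15 := rfl
  · have h1 : orderOf (x : G ⧸ M) = 5 := by
      have : Fact (Nat.Prime 5) := ⟨by norm_num⟩
      apply orderOf_eq_prime
      · rw [← QuotientGroup.mk_pow, hx5]; rfl
      · rw [hxc]
        intro h0
        apply hc1
        rw [← e.apply_symm_apply c, h0, map_one]
    have h2 : zpowers (x : G ⧸ M) ≤ centralizer ({(x : G ⧸ M)} : Set (G ⧸ M)) := by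
      rw [zpowers_le, mem_centralizer_singleton_iff]
    rw [← h1, ← Nat.card_zpowers]
    exact Subgroup.card_le_of_le h2

/-- the sum of the squares of the values of the characters with `N` in the kernel -/
theorem sum_normSq_ker (N : Subgroup G) [N.Normal] [Fintype (IrrCharacter G)]
    [DecidablePred fun χ : IrrCharacter G => N ≤ chKer χ] (x : G) :
    ∑ χ ∈ (Finset.univ.filter fun χ : IrrCharacter G => N ≤ chKer χ), Complex.normSq ((χ : G → ℂ) x) =
      (Nat.card (centralizer ({(x : G ⧸ N)} : Set (G ⧸ N))) : ℝ) := by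
  classical
  have := finite_irr (G := G ⧸ N)
  have := Fintype.ofFinite (IrrCharacter (G ⧸ N))
  rw [← sum_normSq (G := G ⧸ N)]
  symm
  refine Finset.sum_bij (fun ψ _ => infl N ψ) ?_ ?_ ?_ ?_
  · intro ψ _
    rw [Finset.mem_filter]
    exact ⟨Finset.mem_univ _, le_chKer_infl N ψ⟩
  · intro a _ b _ hab
    exact infl_injective N hab
  · intro χ hχ
    obtain ⟨ψ, hψ⟩ := exists_infl N χ (Finset.mem_filter.1 hχ).2
    exact ⟨ψ, Finset.mem_univ _, hψ⟩
  · intro ψ _
    rw [infl_apply]

/-! ### The combinatorics -/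

theorem comb6 {ι : Type*} (s : Finset ι) (d : ι → ℕ) (h : ∀ i ∈ s, d i ∈ [5, 8, 9, 10]) :
    ∃ a b c e : ℕ, ∑ i ∈ s, d i ^ 2 = 25 * a + 64 * b + 81 * c + 100 * e := by
  classical
  induction s using Finset.induction_on with
  | empty => exact ⟨0, 0, 0, 0, rfl⟩
  | insert i s his ih =>
    obtain ⟨a, b, c, e, h1⟩ := ih fun j hj => h j (Finset.mem_insert_of_mem hj)
    have h2 := h i (Finset.mem_insert_self i s)
    rw [Finset.sum_insert his, h1]
    simp only [List.mem_cons, List.not_mem_nil, or_false] at h2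
    rcases h2 with h2 | h2 | h2 | h2 <;> rw [h2]
    · exact ⟨a + 1, b, c, e, by ring⟩
    · exact ⟨a, b + 1, c, e, by ring⟩
    · exact ⟨a, b, c + 1, e, by ring⟩
    · exact ⟨a, b, c, e + 1, by ring⟩

theorem comb7 {ι : Type*} (s : Finset ι) (d : ι → ℕ) (t : ι → ℤ) (h : ∀ i ∈ s, d i ∈ [3, 6, 7, 10, 14, 15, 20, 21, 35])
    (ht : ∀ i ∈ s, (5 : ℤ) ∣ t i - 3 * (d i : ℤ)) :
    ∃ a b c e f g k l m : ℕ, ∑ i ∈ s, d i ^ 2 =
      9 * a + 36 * b + 49 * c + 100 * e + 196 * f + 225 * g + 400 * k + 441 * l + 1225 * m ∧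
      (a + 4 * b + c + 4 * f + 4 * l : ℤ) ≤ ∑ i ∈ s, t i ^ 2 := by
  classical
  induction s using Finset.induction_on with
  | empty => exact ⟨0, 0, 0, 0, 0, 0, 0, 0, 0, rfl, by simp⟩
  | insert i s his ih =>
    obtain ⟨a, b, c, e, f, g, k, l, m, h1, h3⟩ := ih (fun j hj => h j (Finset.mem_insert_of_mem hj))
      (fun j hj => ht j (Finset.mem_insert_of_mem hj))
    have h2 := h i (Finset.mem_insert_self i s)
    have h4 := ht i (Finset.mem_insert_self i s)
    rw [Finset.sum_insert his, h1, Finset.sum_insert his]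
    simp only [List.mem_cons, List.not_mem_nil, or_false] at h2
    have hsq : 0 ≤ t i ^ 2 := sq_nonneg _
    have hone : ¬ (5 : ℤ) ∣ t i → 1 ≤ t i ^ 2 := by
      intro h0
      have : t i ≠ 0 := fun h5 => h0 (by rw [h5]; exact dvd_zero _)
      have := sq_pos_of_ne_zero this
      omega
    have hfour : (¬ (5 : ℤ) ∣ t i) → (¬ (5 : ℤ) ∣ t i - 1) → (¬ (5 : ℤ) ∣ t i + 1) → 4 ≤ t i ^ 2 := by
      intro h0 h5 h6
      have h7 : t i ≠ 0 := fun h5 => h0 (by rw [h5]; exact dvd_zero _)
      have h8 : t i ≠ 1 := fun h9 => h5 (by rw [h9]; exact dvd_zero _)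
      have h9 : t i ≠ -1 := fun h9 => h6 (by rw [h9]; exact dvd_zero _)
      have h10 : 2 ≤ t i ∨ t i ≤ -2 := by (clear * - h4 h7 h8 h9; omega)
      rcases h10 with h10 | h10 <;> nlinarith only [h10]
    rcases h2 with h2 | h2 | h2 | h2 | h2 | h2 | h2 | h2 | h2 <;> rw [h2] at h4 ⊢ <;> push_cast at h4
    · have := hone (by omega)
      exact ⟨a + 1, b, c, e, f, g, k, l, m, by ring, by push_cast; linarith only [h3, this]⟩
    · have := hfour (by omega) (by omega) (by omega)
      exact ⟨a, b + 1, c, e, f, g, k, l, m, by ring, by push_cast; linarith only [h3, this]⟩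
    · have := hone (by omega)
      exact ⟨a, b, c + 1, e, f, g, k, l, m, by ring, by push_cast; linarith only [h3, this]⟩
    · exact ⟨a, b, c, e + 1, f, g, k, l, m, by ring, by push_cast; linarith only [h3, hsq]⟩
    · have := hfour (by omega) (by omega) (by omega)
      exact ⟨a, b, c, e, f + 1, g, k, l, m, by ring, by push_cast; linarith only [h3, this]⟩
    · exact ⟨a, b, c, e, f, g + 1, k, l, m, by ring, by push_cast; linarith only [h3, hsq]⟩
    · exact ⟨a, b, c, e, f, g, k + 1, l, m, by ring, by push_cast; linarith only [h3, hsq]⟩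
    · have := hfour (by omega) (by omega) (by omega)
      exact ⟨a, b, c, e, f, g, k, l + 1, m, by ring, by push_cast; linarith only [h3, this]⟩
    · exact ⟨a, b, c, e, f, g, k, l, m + 1, by ring, by push_cast; linarith only [h3, hsq]⟩

theorem adeg6 {d : ℕ} (h : ADeg 6 d) : d ∈ [5, 8, 9, 10] := by
  obtain ⟨h1, h2, h3, h4⟩ := h.facts (by norm_num)
  have hN : aN 6 = 360 := by
    have := two_mul_aN (n := 6) (by norm_num)
    have h5 : Nat.factorial 6 = 720 := rfl
    omega
  rw [hN] at h2 h3
  rcases h4 with h4 | h4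
  · have h5 := H704.deg6 h4
    simp only [List.mem_cons, List.not_mem_nil, or_false] at h5 ⊢
    rcases h5 with rfl | rfl | rfl | rfl | rfl
    · omega
    · omega
    · omega
    · omega
    · exact absurd h3 (by decide)
  · have h5 := H704.deg6 h4
    simp only [List.mem_cons, List.not_mem_nil, or_false] at h5 ⊢
    (clear * - h1 h5; omega)

theorem adeg7 {d : ℕ} (h : ADeg 7 d) : d ∈ [3, 6, 7, 10, 14, 15, 20, 21, 35] := by
  obtain ⟨h1, h2, h3, h4⟩ := h.facts (by norm_num)
  rcases h4 with h4 | h4
  · have h5 := H704.deg7 h4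
    simp only [List.mem_cons, List.not_mem_nil, or_false] at h5 ⊢
    omega
  · have h5 := H704.deg7 h4
    simp only [List.mem_cons, List.not_mem_nil, or_false] at h5 ⊢
    omega

theorem fin7 : ∀ (m : Fin 2) (l : Fin 2) (k : Fin 3) (g : Fin 3) (f : Fin 6) (c : Fin 11) (b : Fin 3) (a : Fin 11),
    ¬ ((a : ℕ) + 4 * b + c + 4 * g + 4 * m ≤ 10 ∧
      9 * (a : ℕ) + 36 * b + 49 * c + 100 * f + 196 * g + 225 * k + 400 * l + 441 * m = 560) := by
  have key : ∀ (m : Fin 2) (l : Fin 2) (k : Fin 3) (g : Fin 3) (f : Fin 6) (c : Fin 11),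
      (49 * (c : ℕ) + 100 * f + 196 * g + 225 * k + 400 * l + 441 * m) % 9 = 2 →
      49 * (c : ℕ) + 100 * f + 196 * g + 225 * k + 400 * l + 441 * m ≤ 560 →
      40 * (c : ℕ) + 100 * f + 160 * g + 225 * k + 400 * l + 405 * m < 470 := by
    decide +kernel
  intro m l k g f c b a ⟨h1, h2⟩
  have h := key m l k g f c (by omega) (by omega)
  omega

theorem central_three_aux {n : ℕ} (hn : n = 6 ∨ n = 7) (M : Subgroup G) [hM : M.Normal]
    (e : G ⧸ M ≃* alternatingGroup (Fin n)) (hMc : M ≤ center G) (hcard : Nat.card M = 3)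
    (hab : ∀ χ : IrrCharacter G, ¬ M ≤ chKer χ → ∃ d : ℕ, ADeg n d ∧ charDegree (χ : G → ℂ) = Nat.card M * d) :
    False := by
  classical
  have := finite_irr (G := G)
  have := Fintype.ofFinite (IrrCharacter G)
  set T := Finset.univ.filter fun χ : IrrCharacter G => ¬ M ≤ chKer χ with hT
  have hsum := sum_over M e
  have hd : ∀ χ : IrrCharacter G, ∃ d : ℕ, χ ∈ T → ADeg n d ∧ charDegree (χ : G → ℂ) = 3 * d := by
    intro χ
    by_cases hχ : χ ∈ T
    · obtain ⟨d, h1, h2⟩ := hab χ (Finset.mem_filter.1 hχ).2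
      exact ⟨d, fun _ => ⟨h1, by rw [h2, hcard]⟩⟩
    · exact ⟨0, fun h => absurd h hχ⟩
  choose d hd using hd
  rw [hcard] at hsum
  have hsum2 : 9 * ∑ χ ∈ T, d χ ^ 2 = aN n * (3 - 1) := by
    rw [Finset.mul_sum, ← hsum]
    refine Finset.sum_congr rfl fun χ hχ => ?_
    rw [(hd χ hχ).2]
    ring
  rcases hn with rfl | rfl
  · have hN : aN 6 = 360 := by
      have := two_mul_aN (n := 6) (by norm_num)
      have h5 : Nat.factorial 6 = 720 := rfl
      omega
    obtain ⟨a, b, c, f, h1⟩ := comb6 T d fun χ hχ => adeg6 (hd χ hχ).1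
    rw [h1, hN] at hsum2
    have h2 : 25 * a + 64 * b + 81 * c + 100 * f = 80 := by omega
    have hb : b ≤ 1 := by omega
    have hc : c = 0 := by omega
    have hf : f = 0 := by omega
    subst hc hf
    interval_cases b <;> omega
  · have hN : aN 7 = 2520 := by
      have := two_mul_aN (n := 7) (by norm_num)
      have h5 : Nat.factorial 7 = 5040 := rfl
      omega
    obtain ⟨x, hx5, hxc, hc1, hc2⟩ := exists_lift M e hMc hcard
    have ht : ∀ χ : IrrCharacter G, ∃ t : ℤ, (χ : G → ℂ) x = t ∧ (5 : ℤ) ∣ t - (charDegree (χ : G → ℂ) : ℤ) := by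
      intro χ
      refine int_value (isIrr_isCharacter χ.2) hx5 ?_
      intro j h1 h4
      obtain ⟨g, hg⟩ := isConj_iff.1 (hxc j h1 h4)
      rw [← isIrr_isClassFunction χ.2 (x ^ j) g, hg]
    choose t ht ht5 using ht
    obtain ⟨a, b, c, f, g, k, l, m, o, h1, h2⟩ := comb7 T d t (fun χ hχ => adeg7 (hd χ hχ).1) (fun χ hχ => by
      have h3 := ht5 χ
      rw [(hd χ hχ).2] at h3
      push_cast at h3
      exact h3)
    rw [h1, hN] at hsum2
    have h3 : ∑ χ ∈ T, t χ ^ 2 ≤ 10 := by
      have h4 := sum_normSq (G := G) x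
      rw [← Finset.sum_filter_add_sum_filter_not Finset.univ (fun χ : IrrCharacter G => M ≤ chKer χ),
        sum_normSq_ker M] at h4
      have h5 : ∑ χ ∈ T, Complex.normSq ((χ : G → ℂ) x) = ((∑ χ ∈ T, t χ ^ 2 : ℤ) : ℝ) := by
        push_cast
        refine Finset.sum_congr rfl fun χ _ => ?_
        rw [ht χ, Complex.normSq_intCast]
        ring
      rw [h5] at h4
      have h6 : (Nat.card (centralizer ({x} : Set G)) : ℝ) ≤ 15 := by exact_mod_cast hc1
      have h7 : (5 : ℝ) ≤ (Nat.card (centralizer ({(x : G ⧸ M)} : Set (G ⧸ M))) : ℝ) := by exact_mod_cast hc2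
      have h8 : ((∑ χ ∈ T, t χ ^ 2 : ℤ) : ℝ) ≤ ((10 : ℤ) : ℝ) := by
        push_cast
        push_cast at h4
        linarith only [hM, h6, h7, h4]
      exact_mod_cast h8
    have h9 : (a + 4 * b + c + 4 * g + 4 * m : ℤ) ≤ 10 := h2.trans h3
    have h10 : a + 4 * b + c + 4 * g + 4 * m ≤ 10 := by exact_mod_cast h9
    have h11 : 9 * a + 36 * b + 49 * c + 100 * f + 196 * g + 225 * k + 400 * l + 441 * m + 1225 * o = 560 := by omega
    clear hsum2 h1 h2 h3 h9
    have key := fin7
    have ho : o = 0 := by omega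
    subst ho
    refine key ⟨m, by omega⟩ ⟨l, by omega⟩ ⟨k, by omega⟩ ⟨g, by omega⟩ ⟨f, by omega⟩ ⟨c, by omega⟩ ⟨b, by omega⟩
      ⟨a, by omega⟩ ⟨h10, ?_⟩
    show 9 * a + 36 * b + 49 * c + 100 * f + 196 * g + 225 * k + 400 * l + 441 * m = 560
    omega

end Main

/-- **Task 873.** -/
theorem central_three {n : ℕ} (hn : n = 6 ∨ n = 7) {G : Type u} [Group G] [Finite G] (M : Subgroup G) [hM : M.Normal]
    (e : G ⧸ M ≃* alternatingGroup (Fin n)) (hMc : M ≤ center G) (hcard : Nat.card M = 3)
    (hab : ∀ χ : IrrCharacter G, ¬ M ≤ chKer χ → ∃ d : ℕ, ADeg n d ∧ charDegree (χ : G → ℂ) = Nat.card M * d) :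
    False :=
  central_three_aux hn M e hMc hcard hab

end Cfsg.Agent.H462.Cod
end

-- part: H495/Cod/Final
section
/-!
# Codegrees inside the codegrees of an alternating group (helper495, S4941): the assembly
-/

set_option autoImplicit false
set_option linter.unusedSectionVars false

universe u v

namespace Cfsg.Agent.H495.Cod

open Cfsg Cfsg.Agent.Characters.Core Cfsg.Agent.H686.CharKit Subgroup
open Cfsg.Agent.H704 (IsDeg)

theorem simple_iso {n : ℕ} (hn : 5 ≤ n) {S : Type u} [Group S] [Finite S] [IsSimpleGroup S]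
    (hS : ¬ ∀ a b : S, a * b = b * a) (hK : IsKnownSimple' S) (h : CodOK n S) :
    Nonempty (S ≃* alternatingGroup (Fin n)) := by
  have hspor : (Lie.IsoTits S ∨ IsSporadicGroup S) → Nonempty (S ≃* alternatingGroup (Fin n)) := by
    intro h1
    exfalso
    obtain ⟨k, hk, hd⟩ := h.simple
    have h2 := H352.Cod.spor_numeric hn hS (spor_card h1) hk hd
    have h3 : Nat.card S ∈ [604800, 44352000, 898128000, 448345497600, 64561751654400] := by
      simp only [List.mem_cons, List.not_mem_nil, or_false, Prod.mk.injEq] at h2 ⊢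
      omega
    exact H352.Cod.rank3_elim (spor_of_card h1 h3) h2 hk hd
  rcases PreUniq.known_cases hK with h1 | h1 | ⟨p, hp, h1⟩ | h1 | h1
  · exfalso
    have : Fact (Nat.card S).Prime := ⟨h1⟩
    have : IsCyclic S := isCyclic_of_prime_card (p := Nat.card S) rfl
    exact hS fun a b => (IsCyclic.isMulCommutative (α := S)).is_comm.comm a b
  · obtain ⟨m, hm, ⟨e⟩⟩ := h1
    have hA : CodOK n (alternatingGroup (Fin m)) := h.of_surj e.toMonoidHom e.surjective
    have := simple_alt hm
    obtain ⟨k, hk, hd⟩ := hA.simple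
    rcases lt_trichotomy m n with h2 | h2 | h2
    · exfalso
      refine H462.Cod.alt_elim (n := n) (m := m) (k := k) hm h2 hk fun d hd' => ?_
      obtain ⟨θ, hθ, rfl⟩ := hd'
      exact hd θ hθ
    · subst h2
      exact ⟨e⟩
    · exfalso
      have h3 := two_mul_aN (n := n) (by omega)
      have h4 := two_mul_aN (n := m) (by omega)
      have h5 : n.factorial < m.factorial := Nat.factorial_lt_of_lt (by omega) h2
      have hk' : aN n = k * aN m := hk
      have h6 : 0 < k := by
        rcases Nat.eq_zero_or_pos k with h0 | h0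
        · rw [h0, zero_mul] at hk'
          exact absurd hk' (aN_pos n).ne'
        · exact h0
      have h7 : 1 * aN m ≤ k * aN m := Nat.mul_le_mul_right _ h6
      omega
  · exact lie_case hn hp h1 h
  · exact hspor (Or.inl h1)
  · exact hspor (Or.inr h1)

theorem even_card (K : Type u) [Group K] [Finite K] [IsSimpleGroup K] (h : ¬ IsMulCommutative K) : 2 ∣ Nat.card K := by
  by_contra hne
  have h1 : Odd (Nat.card K) := by
    rw [← Nat.not_even_iff_odd, even_iff_two_dvd]
    exact hne
  have h2 := S0205.result h1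
  apply h
  exact ⟨⟨fun a b => IsSimpleGroup.comm_iff_isSolvable.2 h2 a b⟩⟩

theorem main {n : ℕ} (hn : 5 ≤ n) {G : Type u} [Group G] [Finite G] [Nontrivial G]
    (hcl : ∀ (K : Type u) [Group K] [Finite K] [IsSimpleGroup K], IsKnownSimple' K) (h : CodOK n G) :
    Nonempty (G ≃* alternatingGroup (Fin n)) :=
  reduce hn h (fun S _ _ _ hS hSc => simple_iso hn hS (hcl S) hSc)
    (fun K _ _ _ hK => Schreier.Assembly.known K hK (hcl K)) (fun K _ _ _ hK => even_card K hK)
    (fun hn6 _ _ _ M _ e hMc hcard hab => H462.Cod.central_three hn6 M e hMc hcard hab)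

end Cfsg.Agent.H495.Cod
end
end
end
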